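import Cfsg.Agent.Aschbacher.Subfield

/-!
Clifford theory in arbitrary dimension, in algebra form: an algebra normalised by an irreducible group gives a
decomposition, an extension field of prime degree, or is a full matrix algebra over the ground field.
-/

set_option autoImplicit false

namespace CfsgLib.Aschbacher

open Matrix

variable {ι : Type} [Fintype ι] [DecidableEq ι] {F : Type*} [Field F]

/-- Conjugation by an element of the normaliser, as an automorphism of the algebra. -/
def conjEquiv {C : Subalgebra F (Matrix ι ι F)} {h : GL ι F}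
    (hh : h ∈ Cfsg.Geo.subalgebraNormalizer C) : C ≃ₐ[F] C where
  toFun x := ⟨mat h * x.1 * mat h⁻¹, (hh x.1).1 x.2⟩
  invFun x := ⟨mat h⁻¹ * x.1 * mat h, (hh _).2 (by
    show mat h * (mat h⁻¹ * x.1 * mat h) * mat h⁻¹ ∈ C
    simp [mat, mul_assoc])⟩
  left_inv x := Subtype.ext (by simp [mat, mul_assoc])
  right_inv x := Subtype.ext (by simp [mat, mul_assoc])
  map_mul' x y := Subtype.ext (by simp [mat, mul_assoc])
  map_add' x y := Subtype.ext (by simp [mat, mul_add, add_mul])
  commutes' a := Subtype.ext (by
    show mat h * algebraMap F (Matrix ι ι F) a * mat h⁻¹ = algebraMap F (Matrix ι ι F) a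
    rw [Algebra.algebraMap_eq_smul_one, Matrix.mul_smul, mul_one, Matrix.smul_mul, mat_mul_inv])

theorem conjEquiv_apply {C : Subalgebra F (Matrix ι ι F)} {h : GL ι F}
    (hh : h ∈ Cfsg.Geo.subalgebraNormalizer C) (x : C) :
    (conjEquiv hh x).1 = mat h * x.1 * mat h⁻¹ := rfl

/-- The radical part of a module is invariant under semilinear maps over surjective ring maps. -/
theorem jacobson_smul_top_invariant {R M : Type*} [Ring R] [AddCommGroup M] [Module R M]
    (ψ : R →+* R) (hψ : Function.Surjective ψ) (g : M →+ M) (hg : ∀ x v, g (x • v) = ψ x • g v)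
    {w : M} (hw : w ∈ Ring.jacobson R • (⊤ : Submodule R M)) :
    g w ∈ Ring.jacobson R • (⊤ : Submodule R M) := by
  haveI : RingHomSurjective ψ := ⟨hψ⟩
  refine Submodule.smul_induction_on (p := fun z => g z ∈ _) hw (fun x hx v _ => ?_)
    (fun a b ha hb => ?_)
  · rw [hg]
    exact Submodule.smul_mem_smul (Ring.le_comap_jacobson (f := ψ) hx) Submodule.mem_top
  · rw [map_add]; exact Submodule.add_mem _ ha hb

theorem jacobson_eq_bot_of_smul_top {R M : Type*} [Ring R] [AddCommGroup M] [Module R M]
    (hf : ∀ x : R, (∀ v : M, x • v = 0) → x = 0)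
    (h : Ring.jacobson R • (⊤ : Submodule R M) = ⊥) : Ring.jacobson R = ⊥ := by
  rw [eq_bot_iff]
  intro x hx
  rw [Submodule.mem_bot]
  refine hf x fun v => ?_
  have h1 := Submodule.smul_mem_smul hx (Submodule.mem_top : v ∈ (⊤ : Submodule R M))
  rwa [h, Submodule.mem_bot] at h1

set_option maxHeartbeats 1000000 in
/-- An algebra normalised by an irreducible group is semisimple. -/
theorem isSemisimpleRing_of_normalized [Finite F] [Nonempty ι] {H : Subgroup (GL ι F)}
    (hirr : Cfsg.Geo.ActsIrreducibly (Cfsg.Geo.matrixSet H)) {C : Subalgebra F (Matrix ι ι F)}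
    (hC : H ≤ Cfsg.Geo.subalgebraNormalizer C) : IsSemisimpleRing C := by
  let e : Matrix ι ι F →ₐ[F] Module.End F (ι → F) := Matrix.toLinAlgEquiv'.toAlgHom
  have he : Function.Injective e := Matrix.toLinAlgEquiv'.injective
  let C' : Subalgebra F (Module.End F (ι → F)) := C.map e
  let E : C ≃ₐ[F] C' := Subalgebra.equivMapOfInjective C e he
  have hE : ∀ (x : C) (v : ι → F), (E x) • v = x.1 *ᵥ v := fun x v =>
    Matrix.toLinAlgEquiv'_apply x.1 v
  suffices IsSemisimpleRing C' from
    @RingEquiv.isSemisimpleRing C' C C'.toRing C.toRing E.symm.toRingEquiv this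
  haveI : Finite C' := Finite.of_equiv C E.toEquiv
  haveI : IsArtinianRing C' := inferInstance
  rw [IsArtinianRing.isSemisimpleRing_iff_jacobson]
  set J := Ring.jacobson C' with hJ
  haveI : Finite (Submodule C' (ι → F)) := Finite.of_injective _ SetLike.coe_injective
  haveI : IsCoatomic (Submodule C' (ι → F)) := inferInstance
  have hlt : J • (⊤ : Submodule C' (ι → F)) < ⊤ := Submodule.jacobson_smul_lt_top ⊤
  let W : Submodule F (ι → F) := (J • (⊤ : Submodule C' (ι → F))).restrictScalars F
  have hW : H ≤ Cfsg.Geo.subspaceStabilizer W := by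
    intro h hh
    rw [mem_subspaceStabilizer_iff]
    intro w hw
    obtain ⟨ψ, hψ, hsurj⟩ : ∃ ψ : C' →+* C',
        (∀ y, ψ (E y) = E (conjEquiv (hC hh) y)) ∧ Function.Surjective ψ := by
      refine ⟨(E.symm.trans ((conjEquiv (hC hh)).trans E)).toRingEquiv.toRingHom, fun y => ?_, ?_⟩
      · show E (conjEquiv (hC hh) (E.symm (E y))) = _
        rw [AlgEquiv.symm_apply_apply]
      · exact (E.symm.trans ((conjEquiv (hC hh)).trans E)).surjective
    refine jacobson_smul_top_invariant ψ hsurj
      (Matrix.toLin' (mat h)).toAddMonoidHom (fun x v => ?_) hw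
    obtain ⟨y, rfl⟩ := E.surjective x
    show mat h *ᵥ (E y • v) = ψ (E y) • (mat h *ᵥ v)
    rw [hψ, hE, hE, conjEquiv_apply, Matrix.mulVec_mulVec, Matrix.mulVec_mulVec,
      mul_assoc _ (mat h⁻¹), mat_inv_mul, mul_one]
  have hW0 : W = ⊥ := ((actsIrreducibly_iff.1 hirr) W hW).resolve_right fun h =>
    hlt.ne ((Submodule.restrictScalars_eq_top_iff F C' (ι → F)).1 h)
  refine jacobson_eq_bot_of_smul_top (M := ι → F) (fun x hx => ?_) ?_
  · exact Subtype.ext (LinearMap.ext hx)
  · exact (Submodule.restrictScalars_eq_bot_iff F C' (ι → F)).1 hW0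

theorem sum_pi_single_image {R : Type*} [Semiring R] {κ : Type*} [Fintype κ] [DecidableEq κ]
    (d : κ → Type*) [∀ i, Semiring (d i)] (f : (Π i, d i) →+* R) :
    ∑ i, f (Pi.single i 1) = 1 := by
  rw [← map_sum, show (∑ i, Pi.single (M := d) i 1) = 1 from ?_, map_one]
  funext j
  rw [Finset.sum_apply, Finset.sum_eq_single j (fun i _ hij => by simp [hij.symm])
    (fun h => absurd (Finset.mem_univ j) h), Pi.single_eq_same, Pi.one_apply]

/-- The trichotomy for an algebra normalised by an irreducible group. -/
theorem algebra_reduction [Fintype F] [Nonempty ι] {H : Subgroup (GL ι F)}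
    (hirr : Cfsg.Geo.ActsIrreducibly (Cfsg.Geo.matrixSet H)) {C : Subalgebra F (Matrix ι ι F)}
    (hC : H ≤ Cfsg.Geo.subalgebraNormalizer C) :
    (∃ (t m : ℕ) (D : Fin t → Submodule F (ι → F)), Cfsg.Geo.IsMDecomposition m D ∧
      t * m = Fintype.card ι ∧ H ≤ Cfsg.Geo.decompositionStabilizer D ∧
      ∀ c, (∀ z ∈ C, (∀ y ∈ C, z * y = y * z) → c * z = z * c) → ∀ i, ∀ v ∈ D i, c *ᵥ v ∈ D i) ∨
    (∃ (r : ℕ) (K : Subalgebra F (Matrix ι ι F)), r.Prime ∧ r ∣ Fintype.card ι ∧ K ≤ C ∧
      Cfsg.Geo.IsFieldSubalgebra r K ∧ H ≤ Cfsg.Geo.subalgebraNormalizer K ∧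
      ∀ k ∈ K, ∀ x ∈ C, k * x = x * k) ∨
    (∃ (k : ℕ) (φ : Matrix (Fin k) (Fin k) F →ₐ[F] Matrix ι ι F),
      0 < k ∧ Function.Injective φ ∧ φ.range = C) := by
  classical
  haveI := isSemisimpleRing_of_normalized hirr hC
  obtain ⟨t, D, d, hDR, hDA, hDF, hd, ⟨e⟩⟩ :=
    IsSemisimpleRing.exists_algEquiv_pi_matrix_divisionRing_finite F C
  have hsum := sum_pi_single_image (fun i => Matrix (Fin (d i)) (Fin (d i)) (D i))
    ((C.val.comp e.symm.toAlgHom).toRingHom)
  rcases Nat.lt_or_ge t 2 with ht | ht
  · rcases (by omega : t = 0 ∨ t = 1) with rfl | rfl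
    · exfalso
      rw [Fintype.sum_empty] at hsum
      exact zero_ne_one hsum
    let f : C ≃ₐ[F] Matrix (Fin (d 0)) (Fin (d 0)) (D 0) :=
      AlgEquiv.ofBijective ((Pi.evalAlgHom F _ (0 : Fin 1)).comp e.toAlgHom) ⟨fun x y h => by
        apply e.injective
        funext i
        rw [Fin.fin_one_eq_zero i]
        exact h, fun y => by
        let x : Π i, Matrix (Fin (d i)) (Fin (d i)) (D i) := fun i => (Fin.fin_one_eq_zero i).symm ▸ y
        exact ⟨e.symm x, by simp [x]⟩⟩
    haveI : Module.Finite F (D 0) := hDF 0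
    haveI : Finite (D 0) := Module.finite_of_finite F
    letI : Field (D 0) := littleWedderburn (D 0)
    haveI : NeZero (d 0) := hd 0
    by_cases hm : Module.finrank F (D 0) = 1
    · right; right
      have hbij : Function.Bijective (algebraMap F (D 0)) :=
        ⟨(algebraMap F (D 0)).injective, fun x => by
          obtain ⟨c, hc⟩ := (finrank_eq_one_iff_of_nonzero' (1 : D 0) one_ne_zero).1 hm x
          exact ⟨c, by rw [Algebra.algebraMap_eq_smul_one, hc]⟩⟩
      let g : Matrix (Fin (d 0)) (Fin (d 0)) F ≃ₐ[F] Matrix (Fin (d 0)) (Fin (d 0)) (D 0) :=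
        (AlgEquiv.ofBijective (Algebra.ofId F (D 0)) hbij).mapMatrix
      refine ⟨d 0, C.val.comp (g.trans f.symm).toAlgHom, Nat.pos_of_ne_zero (hd 0).ne,
        Subtype.val_injective.comp (g.trans f.symm).injective, ?_⟩
      rw [AlgHom.range_comp, show (g.trans f.symm).toAlgHom.range = ⊤ from
        AlgHom.range_eq_top _ |>.2 (g.trans f.symm).surjective, Algebra.map_top, Subalgebra.range_val]
    · right; left
      obtain ⟨r, hr, hrd⟩ := Nat.exists_prime_and_dvd hm
      let Fr : Subalgebra F (D 0) :=
        AlgHom.equalizer ((FiniteField.frobeniusAlgHom F (D 0)) ^ r) (AlgHom.id F (D 0))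
      have hmem : ∀ x : D 0, x ∈ Fr ↔ x ^ Fintype.card F ^ r = x := fun x => by
        show ((FiniteField.frobeniusAlgHom F (D 0)) ^ r) x = x ↔ _
        rw [AlgHom.coe_pow, FiniteField.coe_frobeniusAlgHom, pow_iterate]
      let ψ : D 0 →ₐ[F] Matrix ι ι F :=
        C.val.comp (f.symm.toAlgHom.comp (IsScalarTower.toAlgHom F (D 0) _))
      have hψ : Function.Injective ψ :=
        Subtype.val_injective.comp (f.symm.injective.comp (algebraMap (D 0) _).injective)
      have hKC : Fr.map ψ ≤ C := by
        rintro _ ⟨x, -, rfl⟩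
        exact (f.symm _).2
      have hrk : Module.finrank F Fr = r := by
        haveI : Fintype (D 0) := Fintype.ofFinite _
        obtain ⟨m, hm'⟩ := hrd
        have hcardD : Fintype.card (D 0) = Fintype.card F ^ (r * m) := by
          rw [← hm', Module.card_eq_pow_finrank (K := F)]
        have hq : 1 ≤ Fintype.card F ^ r := Nat.one_le_pow _ _ Fintype.card_pos
        have hker : Nat.card (powMonoidHom (Fintype.card F ^ r - 1) : (D 0)ˣ →* (D 0)ˣ).ker =
            Fintype.card F ^ r - 1 := by
          rw [IsCyclic.card_powMonoidHom_ker, Nat.card_eq_fintype_card, Fintype.card_units, hcardD,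
            Nat.pow_sub_one_gcd_pow_sub_one, Nat.gcd_eq_right (dvd_mul_right r m)]
        let e' : Option (powMonoidHom (Fintype.card F ^ r - 1) : (D 0)ˣ →* (D 0)ˣ).ker ≃ Fr :=
          Equiv.ofBijective (fun o => o.elim 0 fun u => ⟨(u.1 : D 0), by
            rw [hmem]
            have h1 : u.1 ^ (Fintype.card F ^ r - 1) = 1 := u.2
            have h2 : (u.1 : D 0) ^ (Fintype.card F ^ r - 1) = 1 := by
              rw [← Units.val_pow_eq_pow_val, h1, Units.val_one]
            calc (u.1 : D 0) ^ Fintype.card F ^ r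
                = (u.1 : D 0) ^ (Fintype.card F ^ r - 1) * u.1 := by rw [← pow_succ, Nat.sub_add_cancel hq]
              _ = u.1 := by rw [h2, one_mul]⟩) ⟨by
            intro a b hab
            match a, b with
            | none, none => rfl
            | none, some u => exact absurd (congrArg Subtype.val hab).symm u.1.ne_zero
            | some u, none => exact absurd (congrArg Subtype.val hab) u.1.ne_zero
            | some u, some v =>
              exact congrArg some (Subtype.ext (Units.ext (congrArg Subtype.val hab))), by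
            intro x
            by_cases hx : x.1 = 0
            · exact ⟨none, Subtype.ext hx.symm⟩
            · refine ⟨some ⟨Units.mk0 _ hx, Units.ext ?_⟩, rfl⟩
              have h1 := (hmem x.1).1 x.2
              rw [← Nat.sub_add_cancel hq, pow_succ] at h1
              exact mul_right_cancel₀ hx (by rw [Units.val_one, one_mul]; exact h1)⟩
        have hcardFr : Nat.card Fr = Fintype.card F ^ r := by
          rw [← Nat.card_congr e', Finite.card_option, hker, Nat.sub_add_cancel hq]
        have h1 := Module.natCard_eq_pow_finrank (K := F) (V := Fr)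
        rw [hcardFr, Nat.card_eq_fintype_card] at h1
        exact (Nat.pow_right_injective Fintype.one_lt_card h1).symm
      have hK : Cfsg.Geo.IsFieldSubalgebra r (Fr.map ψ) := by
        refine ⟨?_, ?_, ?_⟩
        · rintro _ ⟨x, -, rfl⟩ _ ⟨y, -, rfl⟩
          show ψ x * ψ y = ψ y * ψ x
          rw [← map_mul, ← map_mul, mul_comm]
        · rintro _ ⟨x, hx, rfl⟩ h0
          have hx0 : x ≠ 0 := fun h => h0 (by subst h; exact map_zero ψ)
          refine ⟨ψ x⁻¹, ⟨x⁻¹, (hmem _).2 (by rw [inv_pow, (hmem x).1 hx]), rfl⟩, ?_⟩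
          show ψ x * ψ x⁻¹ = 1
          rw [← map_mul, mul_inv_cancel₀ hx0, map_one]
        · rw [← hrk]
          exact (Subalgebra.equivMapOfInjective Fr ψ hψ).toLinearEquiv.finrank_eq.symm
      refine ⟨r, Fr.map ψ, hr, fieldSubalgebra_finrank_dvd hK, hKC, hK,
        fun h hh => mem_subalgebraNormalizer_of ?_, ?_⟩
      · rintro _ ⟨x, hx, rfl⟩
        let g := f.symm.trans ((conjEquiv (hC hh)).trans f)
        obtain ⟨y, hy⟩ : ∃ y, Matrix.scalar (Fin (d 0)) y = g (algebraMap (D 0) _ x) := by
          refine Matrix.mem_range_scalar_of_commute_single fun i j _ => ?_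
          obtain ⟨z, hz⟩ := g.surjective (Matrix.single i j 1)
          rw [← hz]
          exact Commute.map (show Commute z (algebraMap (D 0) _ x) from (Algebra.commutes x z).symm) g.toRingEquiv.toRingHom
        refine ⟨y, (hmem y).2 ?_, ?_⟩
        · have h1 := congrArg (fun z => z ^ Fintype.card F ^ r) hy
          simp only [← map_pow, (hmem x).1 hx] at h1
          exact Matrix.scalar_inj.1 (h1.trans hy.symm)
        · show (f.symm (Matrix.scalar _ y)).1 = mat h * (f.symm (algebraMap (D 0) _ x)).1 * mat h⁻¹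
          rw [hy]
          simp only [g, AlgEquiv.trans_apply, AlgEquiv.symm_apply_apply]
          rfl
      · rintro _ ⟨x, -, rfl⟩ c hc
        obtain ⟨z, hz⟩ := f.symm.surjective ⟨c, hc⟩
        have hz' : (f.symm z).1 = c := congrArg Subtype.val hz
        show (f.symm (algebraMap (D 0) _ x)).1 * c = c * (f.symm (algebraMap (D 0) _ x)).1
        rw [← hz', ← Subalgebra.coe_mul, ← Subalgebra.coe_mul, ← map_mul, ← map_mul, Algebra.commutes]
  · left
    -- the primitive central idempotents
    let ε : Fin t → C := fun i => e.symm (Pi.single i 1)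
    haveI : ∀ i, NeZero (d i) := hd
    have hidem : ∀ (z : Π i, Matrix (Fin (d i)) (Fin (d i)) (D i)), (∀ w, z * w = w * z) → z * z = z →
        ∀ i, z i = 0 ∨ z i = 1 := by
      intro z hz hzz i
      obtain ⟨c, hc⟩ : ∃ c, Matrix.scalar (Fin (d i)) c = z i := by
        refine Matrix.mem_range_scalar_of_commute_single fun a b _ => ?_
        have := congrFun (hz (Pi.single i (Matrix.single a b 1))) i
        simp only [Pi.mul_apply, Pi.single_eq_same] at this
        exact this.symm
      have h1 := congrFun hzz i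
      rw [Pi.mul_apply, ← hc, ← map_mul, Matrix.scalar_inj] at h1
      rcases eq_or_ne c 0 with h | h
      · exact Or.inl (by rw [← hc, h, map_zero])
      · exact Or.inr (by rw [← hc, (mul_eq_left₀ h).1 h1, map_one])
    let Dd : Fin t → Submodule F (ι → F) := fun i => LinearMap.range (Matrix.toLin' (ε i).1)
    have hεε : ∀ i j, (ε i).1 * (ε j).1 = if i = j then (ε i).1 else 0 := by
      intro i j
      rw [← Subalgebra.coe_mul]
      simp only [ε, ← map_mul]
      split_ifs with h
      · subst h; rw [← Pi.single_mul, mul_one]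
      · rw [show Pi.single (M := fun i => Matrix (Fin (d i)) (Fin (d i)) (D i)) i 1 * Pi.single j 1 = 0 from
          funext fun k => by
            rw [Pi.mul_apply, Pi.zero_apply]
            rcases eq_or_ne k i with rfl | hk
            · simp [h]
            · rw [Pi.single_eq_of_ne hk, zero_mul], map_zero]
        rfl
    have hfix : ∀ i, ∀ v ∈ Dd i, (ε i).1 *ᵥ v = v := by
      rintro i _ ⟨w, rfl⟩
      rw [Matrix.toLin'_apply, Matrix.mulVec_mulVec, hεε, if_pos rfl]
    have hsum' : ∀ v, ∑ i, (ε i).1 *ᵥ v = v := fun v => by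
      rw [← Matrix.sum_mulVec, show (∑ i, (ε i).1) = 1 from hsum, Matrix.one_mulVec]
    have hne : ∀ i, Dd i ≠ ⊥ := by
      intro i hi
      rw [LinearMap.range_eq_bot, LinearEquiv.map_eq_zero_iff] at hi
      have : ε i = 0 := Subtype.ext hi
      have h1 := congrArg (fun z : C => e z i) this
      simp only [ε, AlgEquiv.apply_symm_apply, Pi.single_eq_same, map_zero, Pi.zero_apply] at h1
      exact one_ne_zero h1
    -- permutation of the idempotents
    have hperm : ∀ h ∈ H, ∀ i, ∃ j, mat h * (ε i).1 * mat h⁻¹ = (ε j).1 := by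
      intro h hh
      let g := e.symm.trans ((conjEquiv (hC hh)).trans e)
      have hg : ∀ i k, g (Pi.single i 1) k = 0 ∨ g (Pi.single i 1) k = 1 := by
        intro i
        refine hidem _ (fun w => ?_) (by rw [← map_mul, ← Pi.single_mul, mul_one])
        obtain ⟨w', rfl⟩ := g.surjective w
        rw [← map_mul, ← map_mul]
        congr 1
        funext k
        rcases eq_or_ne k i with rfl | hk
        · simp
        · simp [hk]
      have hex : ∀ i, ∃ k, g (Pi.single i 1) k = 1 := by
        intro i
        by_contra hall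
        simp only [not_exists] at hall
        have h0 : g (Pi.single i 1) = g 0 := by
          rw [map_zero]; funext k; exact (hg i k).resolve_right (hall k)
        have h1 := congrFun (g.injective h0) i
        rw [Pi.single_eq_same] at h1
        exact one_ne_zero h1
      choose σ hσ using hex
      have horth : ∀ i j k, i ≠ j → g (Pi.single i 1) k = 1 → g (Pi.single j 1) k = 1 → False := by
        intro i j k hij h1 h2
        have h3 : Pi.single (M := fun i => Matrix (Fin (d i)) (Fin (d i)) (D i)) i 1 * Pi.single j 1 = 0 := by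
          funext l
          rw [Pi.mul_apply, Pi.zero_apply]
          rcases eq_or_ne l i with rfl | hl
          · simp [hij]
          · rw [Pi.single_eq_of_ne hl, zero_mul]
        have h4 := congrFun (congrArg g h3) k
        rw [map_mul, map_zero, Pi.mul_apply, h1, h2, mul_one, Pi.zero_apply] at h4
        exact one_ne_zero h4
      have hσi : Function.Injective σ := fun i j hij => by
        by_contra hne'
        exact horth i j (σ i) hne' (hσ i) (hij ▸ hσ j)
      intro i
      refine ⟨σ i, ?_⟩
      have h1 : g (Pi.single i 1) = Pi.single (σ i) 1 := by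
        funext k
        rcases eq_or_ne k (σ i) with rfl | hk
        · rw [hσ, Pi.single_eq_same]
        · obtain ⟨l, rfl⟩ := (Finite.injective_iff_surjective.1 hσi) k
          rw [Pi.single_eq_of_ne hk]
          refine (hg i _).resolve_right fun h1 => ?_
          exact horth i l (σ l) (fun hil => hk (hil ▸ rfl)) h1 (hσ l)
      have h2 : conjEquiv (hC hh) (ε i) = ε (σ i) := by
        apply e.injective
        simp only [ε, AlgEquiv.apply_symm_apply]
        exact h1
      exact congrArg Subtype.val h2
    have hmap : ∀ (h : GL ι F) i j, mat h * (ε i).1 * mat h⁻¹ = (ε j).1 →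
        (Dd i).map (Matrix.toLin' (mat h)) = Dd j := by
      intro h i j hij
      have h1 : mat h * (ε i).1 = (ε j).1 * mat h := by
        rw [← hij, mul_assoc _ (mat h⁻¹), mat_inv_mul, mul_one]
      simp only [Dd]
      rw [← LinearMap.range_comp, ← Matrix.toLin'_mul, h1, Matrix.toLin'_mul,
        LinearMap.range_comp_of_range_eq_top _
          (LinearMap.range_eq_top.2 fun v => ⟨mat h⁻¹ *ᵥ v, by rw [Matrix.toLin'_apply, mulVec_inv_mulVec]⟩)]
    have htop : iSup Dd = ⊤ := eq_top_iff.2 fun v _ => by
      rw [← hsum' v]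
      exact Submodule.sum_mem _ fun i _ => Submodule.mem_iSup_of_mem i
        ⟨v, Matrix.toLin'_apply _ _⟩
    have hindep : iSupIndep Dd := by
      intro i
      rw [Submodule.disjoint_def]
      intro v hv hv'
      have h1 : (⨆ (j : Fin t) (_ : j ≠ i), Dd j) ≤ LinearMap.ker (Matrix.toLin' (ε i).1) := by
        refine iSup₂_le fun j hj => ?_
        rintro _ ⟨w, rfl⟩
        rw [LinearMap.mem_ker, Matrix.toLin'_apply, Matrix.toLin'_apply, Matrix.mulVec_mulVec, hεε,
          if_neg hj.symm, Matrix.zero_mulVec]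
      have h2 := h1 hv'
      rw [LinearMap.mem_ker, Matrix.toLin'_apply, hfix i v hv] at h2
      exact h2
    let i₀ : Fin t := ⟨0, by omega⟩
    have hrank : ∀ i, Module.finrank F (Dd i) = Module.finrank F (Dd i₀) := by
      intro i
      have hO : ⨆ h : H, (Dd i₀).map (Matrix.toLin' (mat h.1)) = ⊤ := by
        refine ((actsIrreducibly_iff.1 hirr) _ fun g hg => ?_).resolve_left fun h0 => hne i₀ ?_
        · rw [mem_subspaceStabilizer_iff, ← map_le_iff, Submodule.map_iSup]
          refine iSup_le fun h => le_iSup_of_le ⟨g * h.1, H.mul_mem hg h.2⟩ (le_of_eq ?_)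
          rw [← Submodule.map_comp, ← Matrix.toLin'_mul]
          rfl
        · refine le_bot_iff.1 (le_trans ?_ h0.le)
          refine le_trans (le_of_eq ?_) (le_iSup _ (1 : H))
          simp
      by_contra hne'
      apply hne i
      refine le_bot_iff.1 ((hindep i) le_rfl (le_trans le_top (le_trans hO.ge ?_)))
      refine iSup_le fun h => ?_
      obtain ⟨j, hj⟩ := hperm h.1 h.2 i₀
      rw [hmap _ _ _ hj]
      refine le_iSup₂_of_le j (fun hji => hne' ?_) le_rfl
      rw [← hji, ← hmap _ _ _ hj, finrank_map_gl]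
    have hdec : Cfsg.Geo.IsMDecomposition (Module.finrank F (Dd i₀)) Dd :=
      ⟨ht, Nat.pos_of_ne_zero fun h => hne i₀ (Submodule.finrank_eq_zero.1 h), hrank, hindep, htop⟩
    refine ⟨t, _, Dd, hdec, ?_, fun h hh => mem_decompositionStabilizer_of hdec fun i => ?_,
      fun c hc i v hv => ?_⟩
    · have := finrank_eq_sum_of_indep' hindep htop
      rw [Finset.sum_congr rfl fun i _ => hrank i, Finset.sum_const, Finset.card_univ,
        Fintype.card_fin, smul_eq_mul] at this
      exact this
    · obtain ⟨j, hj⟩ := hperm h hh i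
      exact ⟨j, map_le_iff.1 (hmap h i j hj).le⟩
    · have hεc : ∀ y ∈ C, (ε i).1 * y = y * (ε i).1 := by
        intro y hy
        have h1 : ε i * ⟨y, hy⟩ = ⟨y, hy⟩ * ε i := by
          apply e.injective
          simp only [ε, map_mul, AlgEquiv.apply_symm_apply]
          funext k
          rcases eq_or_ne k i with rfl | hk
          · simp
          · simp [hk]
        exact congrArg Subtype.val h1
      rw [← hfix i v hv, Matrix.mulVec_mulVec, hc _ (ε i).2 hεc, ← Matrix.mulVec_mulVec]
      exact ⟨c *ᵥ v, Matrix.toLin'_apply _ _⟩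
where
  finrank_eq_sum_of_indep' {t : ℕ} {D : Fin t → Submodule F (ι → F)}
      (hi : iSupIndep D) (ht : iSup D = ⊤) : ∑ i, Module.finrank F (D i) = Fintype.card ι := by
    classical
    have hint : DirectSum.IsInternal D :=
      DirectSum.isInternal_submodule_of_iSupIndep_of_iSup_eq_top hi ht
    have := Module.finrank_eq_card_basis (hint.collectedBasis fun i => Module.finBasis F (D i))
    rw [Module.finrank_fintype_fun_eq_card] at this
    simpa using this.symm

end CfsgLib.Aschbacher
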