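import Cfsg.Prelude.Def_GeometricClasses

/-!
Basic API for subgroups of `GL ι F` in the vocabulary of `Def_GeometricClasses`: membership criteria,
transvections, Schur's lemma and Burnside's spanning theorem for absolutely irreducible sets of matrices.
-/

set_option autoImplicit false

namespace CfsgLib.Aschbacher

open Matrix

variable {ι : Type} [Fintype ι] [DecidableEq ι] {F : Type*} [Field F]

/-- The matrix of an element of `GL ι F`. -/
abbrev mat (g : GL ι F) : Matrix ι ι F := (g : Matrix ι ι F)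

theorem mem_matrixSet {R : Subgroup (GL ι F)} {g : GL ι F} (hg : g ∈ R) :
    mat g ∈ Cfsg.Geo.matrixSet R :=
  ⟨g, hg, rfl⟩

theorem forall_matrixSet {R : Subgroup (GL ι F)} {p : Matrix ι ι F → Prop} :
    (∀ s ∈ Cfsg.Geo.matrixSet R, p s) ↔ ∀ g ∈ R, p (mat g) :=
  Set.forall_mem_image

theorem mem_specialLinear_iff {g : GL ι F} :
    g ∈ Cfsg.Geo.specialLinear ι F ↔ (mat g).det = 1 := by
  rw [Cfsg.Geo.specialLinear, MonoidHom.mem_ker, Units.ext_iff]
  rfl

theorem mat_mul_inv (g : GL ι F) : mat g * mat g⁻¹ = 1 := by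
  rw [mat, mat, ← Units.val_mul, mul_inv_cancel, Units.val_one]

theorem mat_inv_mul (g : GL ι F) : mat g⁻¹ * mat g = 1 := by
  rw [mat, mat, ← Units.val_mul, inv_mul_cancel, Units.val_one]

theorem inv_mulVec_mulVec (g : GL ι F) (v : ι → F) : mat g⁻¹ *ᵥ (mat g *ᵥ v) = v := by
  rw [Matrix.mulVec_mulVec, mat_inv_mul, Matrix.one_mulVec]

theorem mulVec_inv_mulVec (g : GL ι F) (v : ι → F) : mat g *ᵥ (mat g⁻¹ *ᵥ v) = v := by
  rw [Matrix.mulVec_mulVec, mat_mul_inv, Matrix.one_mulVec]

theorem mulVec_injective (g : GL ι F) : Function.Injective fun v => mat g *ᵥ v :=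
  Function.LeftInverse.injective (inv_mulVec_mulVec g)

theorem map_toLin'_injective (g : GL ι F) :
    Function.Injective (Matrix.toLin' (mat g)) := by
  intro a b h
  rw [Matrix.toLin'_apply, Matrix.toLin'_apply] at h
  exact mulVec_injective g h

theorem finrank_map_gl (g : GL ι F) (W : Submodule F (ι → F)) :
    Module.finrank F (W.map (Matrix.toLin' (mat g))) = Module.finrank F W :=
  ((Submodule.equivMapOfInjective _ (map_toLin'_injective g) W).finrank_eq).symm

theorem map_le_iff {g : GL ι F} {W W' : Submodule F (ι → F)} :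
    W.map (Matrix.toLin' (mat g)) ≤ W' ↔ ∀ w ∈ W, mat g *ᵥ w ∈ W' := by
  constructor
  · intro h w hw
    have := h (Submodule.mem_map_of_mem (f := Matrix.toLin' (mat g)) hw)
    rwa [Matrix.toLin'_apply] at this
  · rintro h _ ⟨w, hw, rfl⟩
    rw [Matrix.toLin'_apply]
    exact h w hw

theorem mem_subspaceStabilizer_iff {W : Submodule F (ι → F)} {g : GL ι F} :
    g ∈ Cfsg.Geo.subspaceStabilizer W ↔ ∀ w ∈ W, mat g *ᵥ w ∈ W := by
  constructor
  · intro h w hw
    exact (h w).1 hw
  · intro h v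
    refine ⟨fun hv => h v hv, fun hv => ?_⟩
    have hle : W.map (Matrix.toLin' (mat g)) ≤ W := map_le_iff.2 h
    have heq : W.map (Matrix.toLin' (mat g)) = W :=
      Submodule.eq_of_le_of_finrank_eq hle (finrank_map_gl g W)
    have hv' : mat g *ᵥ v ∈ W.map (Matrix.toLin' (mat g)) := by rw [heq]; exact hv
    obtain ⟨w, hw, hwv⟩ := hv'
    rw [Matrix.toLin'_apply] at hwv
    have : w = v := mulVec_injective g hwv
    exact this ▸ hw

theorem actsIrreducibly_iff {R : Subgroup (GL ι F)} :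
    Cfsg.Geo.ActsIrreducibly (Cfsg.Geo.matrixSet R) ↔
      ∀ W : Submodule F (ι → F), R ≤ Cfsg.Geo.subspaceStabilizer W → W = ⊥ ∨ W = ⊤ := by
  refine forall_congr' fun W => imp_congr ?_ Iff.rfl
  rw [forall_matrixSet]
  exact forall₂_congr fun g _ => map_le_iff.trans mem_subspaceStabilizer_iff.symm

theorem actsIrreducibly_mono {S T : Set (Matrix ι ι F)} (h : S ⊆ T)
    (hS : Cfsg.Geo.ActsIrreducibly S) : Cfsg.Geo.ActsIrreducibly T :=
  fun W hW => hS W fun s hs => hW s (h hs)

theorem mem_decompositionStabilizer_of {t : ℕ} {D : Fin t → Submodule F (ι → F)} {m : ℕ}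
    (hD : Cfsg.Geo.IsMDecomposition m D) {g : GL ι F}
    (h : ∀ i, ∃ j, ∀ w ∈ D i, mat g *ᵥ w ∈ D j) :
    g ∈ Cfsg.Geo.decompositionStabilizer D := by
  choose σ hσ using h
  have heq : ∀ i, (D i).map (Matrix.toLin' (mat g)) = D (σ i) := fun i =>
    Submodule.eq_of_le_of_finrank_eq (map_le_iff.2 (hσ i))
      (by rw [finrank_map_gl, hD.finrank_eq, hD.finrank_eq])
  have hne : ∀ i, D i ≠ ⊥ := fun i hi => by
    have := hD.finrank_eq i
    rw [hi, finrank_bot] at this
    exact absurd this hD.pos.ne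
  have hDinj : Function.Injective D := hD.indep.injective hne
  have hσinj : Function.Injective σ := fun i j hij => by
    have h2 : (D i).map (Matrix.toLin' (mat g)) = (D j).map (Matrix.toLin' (mat g)) := by
      rw [heq, heq, hij]
    exact hDinj (Submodule.map_injective_of_injective (map_toLin'_injective g) h2)
  exact ⟨Equiv.ofBijective σ (Finite.injective_iff_bijective.1 hσinj), heq⟩

theorem mem_subalgebraNormalizer_of {K : Subalgebra F (Matrix ι ι F)} {g : GL ι F}
    (h : ∀ k ∈ K, mat g * k * mat g⁻¹ ∈ K) : g ∈ Cfsg.Geo.subalgebraNormalizer K := by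
  intro k
  refine ⟨fun hk => h k hk, fun hk => ?_⟩
  let c : Matrix ι ι F →ₗ[F] Matrix ι ι F :=
    (LinearMap.mulLeft F (mat g)).comp (LinearMap.mulRight F (mat g⁻¹))
  have hc : ∀ x, c x = mat g * x * mat g⁻¹ := fun x => by
    simp [c, mul_assoc]
  have hinj : Function.Injective c := fun x y hxy => by
    rw [hc, hc] at hxy
    have h1 : mat g⁻¹ * (mat g * x * mat g⁻¹) * mat g
        = mat g⁻¹ * (mat g * y * mat g⁻¹) * mat g := by rw [hxy]
    rwa [mul_assoc (mat g) x, ← mul_assoc (mat g⁻¹) (mat g), mat_inv_mul, one_mul, mul_assoc,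
      mat_inv_mul, mul_one, mul_assoc (mat g) y, ← mul_assoc (mat g⁻¹) (mat g), mat_inv_mul,
      one_mul, mul_assoc, mat_inv_mul, mul_one] at h1
  let W : Submodule F (Matrix ι ι F) := Subalgebra.toSubmodule K
  have hle : W.map c ≤ W := by
    rintro _ ⟨x, hx, rfl⟩
    rw [hc]
    exact h x hx
  have heq : W.map c = W :=
    Submodule.eq_of_le_of_finrank_eq hle
      ((Submodule.equivMapOfInjective _ hinj W).finrank_eq).symm
  have hk' : c k ∈ W.map c := by rw [heq, hc]; exact hk
  obtain ⟨x, hx, hxk⟩ := hk'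
  exact hinj hxk ▸ hx

theorem mem_subgroupNormalizer_of [Finite F] {R : Subgroup (GL ι F)} {g : GL ι F}
    (h : ∀ x ∈ R, g * x * g⁻¹ ∈ R) : g ∈ Cfsg.Geo.subgroupNormalizer R := by
  have : Finite R := inferInstance
  rw [Cfsg.Geo.subgroupNormalizer, Subgroup.mem_set_normalizer_iff]
  intro x
  refine ⟨fun hx => h x hx, fun hx => ?_⟩
  let c : R → R := fun y => ⟨g * y.1 * g⁻¹, h y.1 y.2⟩
  have hc : Function.Injective c := fun a b hab => by
    have := congrArg Subtype.val hab
    exact Subtype.ext (mul_left_cancel (mul_right_cancel this))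
  obtain ⟨y, hy⟩ := (Finite.injective_iff_surjective.1 hc) ⟨_, hx⟩
  have hy' : g * y.1 * g⁻¹ = g * x * g⁻¹ := congrArg Subtype.val hy
  exact mul_left_cancel (mul_right_cancel hy') ▸ y.2

/-! ### Transvections -/

/-- The transvection `x ↦ x + φ(x) v`, for a functional `φ` vanishing at `v`. -/
def tv (v φ : ι → F) (h : φ ⬝ᵥ v = 0) : GL ι F where
  val := 1 + vecMulVec v φ
  inv := 1 - vecMulVec v φ
  val_inv := by
    rw [mul_sub, mul_one, add_mul, one_mul, Matrix.vecMulVec_mul_vecMulVec, h]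
    simp
  inv_val := by
    rw [mul_add, mul_one, sub_mul, one_mul, Matrix.vecMulVec_mul_vecMulVec, h]
    simp

theorem mat_tv (v φ : ι → F) (h : φ ⬝ᵥ v = 0) : mat (tv v φ h) = 1 + vecMulVec v φ := rfl

theorem mat_tv_inv (v φ : ι → F) (h : φ ⬝ᵥ v = 0) : mat (tv v φ h)⁻¹ = 1 - vecMulVec v φ := rfl

theorem tv_mulVec (v φ : ι → F) (h : φ ⬝ᵥ v = 0) (x : ι → F) :
    mat (tv v φ h) *ᵥ x = x + (φ ⬝ᵥ x) • v := by
  rw [mat_tv, add_mulVec, one_mulVec, Matrix.vecMulVec_mulVec]
  simp

theorem tv_mem_specialLinear (v φ : ι → F) (h : φ ⬝ᵥ v = 0) :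
    tv v φ h ∈ Cfsg.Geo.specialLinear ι F := by
  rw [mem_specialLinear_iff, mat_tv, vecMulVec_eq Unit,
    Matrix.det_one_add_replicateCol_mul_replicateRow, h, add_zero]

/-- For a vector outside a subspace, a functional vanishing on the subspace with value one there. -/
theorem exists_dual_of_notMem {W : Submodule F (ι → F)} {u : ι → F} (hu : u ∉ W) :
    ∃ φ : ι → F, φ ⬝ᵥ u = 1 ∧ ∀ w ∈ W, φ ⬝ᵥ w = 0 := by
  obtain ⟨f, hf, hW⟩ := Submodule.exists_dual_map_eq_bot_of_notMem hu inferInstance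
  refine ⟨fun i => f (Pi.single i 1) / f u, ?_, ?_⟩
  all_goals
    have key : ∀ x : ι → F, (fun i => f (Pi.single i 1) / f u) ⬝ᵥ x = f x / f u := by
      intro x
      conv_rhs => rw [pi_eq_sum_univ' x, map_sum, Finset.sum_div]
      simp only [dotProduct, map_smul, smul_eq_mul]
      exact Finset.sum_congr rfl fun i _ => by ring
  · rw [key, div_self hf]
  · intro w hw
    have : f w ∈ W.map f := Submodule.mem_map_of_mem hw
    rw [hW, Submodule.mem_bot] at this
    rw [key, this, zero_div]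

theorem dotProduct_left_ext {φ ψ : ι → F} (h : ∀ x, φ ⬝ᵥ x = ψ ⬝ᵥ x) : φ = ψ := by
  funext i
  simpa using h (Pi.single i 1)

/-! ### Schur's lemma and Burnside's theorem -/

/-- The algebra of matrices commuting with every member of a set. -/
def commutant (S : Set (Matrix ι ι F)) : Subalgebra F (Matrix ι ι F) :=
  Subalgebra.centralizer F S

theorem mem_commutant {S : Set (Matrix ι ι F)} {M : Matrix ι ι F} :
    M ∈ commutant S ↔ ∀ s ∈ S, s * M = M * s :=
  Subalgebra.mem_centralizer_iff F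

theorem mulVec_eq_zero_of_irreducible {S : Set (Matrix ι ι F)}
    (hS : Cfsg.Geo.ActsIrreducibly S) {M : Matrix ι ι F} (hM : M ∈ commutant S) (hM0 : M ≠ 0)
    {v : ι → F} (hv : M *ᵥ v = 0) : v = 0 := by
  rw [mem_commutant] at hM
  have hinv : ∀ s ∈ S, (LinearMap.ker (Matrix.toLin' M)).map (Matrix.toLin' s)
      ≤ LinearMap.ker (Matrix.toLin' M) := by
    rintro s hs _ ⟨w, hw, rfl⟩
    have hw' : M *ᵥ w = 0 := by rw [← Matrix.toLin'_apply]; exact LinearMap.mem_ker.1 hw
    rw [LinearMap.mem_ker, Matrix.toLin'_apply, Matrix.toLin'_apply, Matrix.mulVec_mulVec,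
      ← hM s hs, ← Matrix.mulVec_mulVec, hw', Matrix.mulVec_zero]
  rcases hS _ hinv with h | h
  · have : v ∈ LinearMap.ker (Matrix.toLin' M) := by
      rw [LinearMap.mem_ker, Matrix.toLin'_apply, hv]
    rw [h, Submodule.mem_bot] at this
    exact this
  · exfalso
    apply hM0
    apply Matrix.toLin'.injective
    rw [map_zero]
    exact LinearMap.ker_eq_top.1 h

theorem commutant_isUnit {S : Set (Matrix ι ι F)} (hS : Cfsg.Geo.ActsIrreducibly S)
    {M : Matrix ι ι F} (hM : M ∈ commutant S) (hM0 : M ≠ 0) : IsUnit M := by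
  rw [← Matrix.mulVec_injective_iff_isUnit]
  intro a b hab
  refine sub_eq_zero.1 (mulVec_eq_zero_of_irreducible hS hM hM0 ?_)
  rw [Matrix.mulVec_sub, hab, sub_self]

theorem commutant_isField [Finite F] [Nonempty ι] {S : Set (Matrix ι ι F)}
    (hS : Cfsg.Geo.ActsIrreducibly S) :
    Cfsg.Geo.IsFieldSubalgebra (Module.finrank F (commutant S)) (commutant S) := by
  have : IsDomain (commutant S) := by
    have : NoZeroDivisors (commutant S) := ⟨fun {a b} hab => by
      by_contra hne
      rw [not_or] at hne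
      have ha : a.1 ≠ 0 := fun h => hne.1 (Subtype.ext h)
      have hb : b.1 ≠ 0 := fun h => hne.2 (Subtype.ext h)
      exact ((commutant_isUnit hS a.2 ha).mul (commutant_isUnit hS b.2 hb)).ne_zero
        (congrArg Subtype.val hab)⟩
    exact NoZeroDivisors.to_isDomain _
  have hF : IsField (commutant S) := Finite.isDomain_to_isField _
  refine ⟨fun x hx y hy => congrArg Subtype.val (hF.mul_comm ⟨x, hx⟩ ⟨y, hy⟩),
    fun x hx hx0 => ?_, rfl⟩
  obtain ⟨y, hy⟩ :=
    hF.mul_inv_cancel (a := (⟨x, hx⟩ : commutant S)) (fun h => hx0 (congrArg Subtype.val h))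
  exact ⟨y.1, y.2, congrArg Subtype.val hy⟩

theorem fieldSubalgebra_finrank_dvd {r : ℕ} {K : Subalgebra F (Matrix ι ι F)}
    (hK : Cfsg.Geo.IsFieldSubalgebra r K) [Nonempty ι] : r ∣ Fintype.card ι := by
  let e : Matrix ι ι F →ₐ[F] Module.End F (ι → F) := Matrix.toLinAlgEquiv'.toAlgHom
  have he : Function.Injective e := Matrix.toLinAlgEquiv'.injective
  let K' : Subalgebra F (Module.End F (ι → F)) := K.map e
  have hKf : IsField K' :=
    { exists_pair_ne := ⟨0, 1, zero_ne_one⟩
      mul_comm := by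
        rintro ⟨x', x, hx, rfl⟩ ⟨y', y, hy, rfl⟩
        apply Subtype.ext
        change e x * e y = e y * e x
        rw [← map_mul, ← map_mul, hK.comm x hx y hy]
      mul_inv_cancel := by
        rintro ⟨x', x, hx, rfl⟩ hx0
        have hx0' : x ≠ 0 := by
          rintro rfl
          exact hx0 (Subtype.ext (map_zero e))
        obtain ⟨y, hy, hxy⟩ := hK.inv x hx hx0'
        refine ⟨⟨e y, y, hy, rfl⟩, Subtype.ext ?_⟩
        change e x * e y = 1
        rw [← map_mul, hxy, map_one] }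
  have hr : Module.finrank F K' = r := by
    rw [← hK.finrank_eq]
    exact (LinearEquiv.finrank_eq (Subalgebra.equivMapOfInjective K e he).toLinearEquiv).symm
  letI : Field K' := hKf.toField
  have := Module.finrank_mul_finrank F K' (ι → F)
  rw [Module.finrank_fintype_fun_eq_card, hr] at this
  exact ⟨_, this.symm⟩

/-- Burnside: an absolutely irreducible set generates the whole matrix algebra. -/
theorem adjoin_eq_top_of_absIrred {S : Set (Matrix ι ι F)} [Nonempty ι]
    (hS : Cfsg.Geo.ActsAbsolutelyIrreducibly S) : Algebra.adjoin F S = ⊤ := by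
  let e : Matrix ι ι F →ₐ[F] Module.End F (ι → F) := Matrix.toLinAlgEquiv'.toAlgHom
  have heq : ∀ M v, e M v = M *ᵥ v := fun M v => Matrix.toLinAlgEquiv'_apply M v
  let A : Subalgebra F (Module.End F (ι → F)) := (Algebra.adjoin F S).map e
  have hmem : ∀ s ∈ S, e s ∈ A := fun s hs => ⟨s, Algebra.subset_adjoin hs, rfl⟩
  have hsimple : IsSimpleModule A (ι → F) := by
    refine { toIsSimpleOrder := ⟨fun W => ?_⟩ }
    have hinv : ∀ s ∈ S, (W.restrictScalars F).map (Matrix.toLin' s) ≤ W.restrictScalars F := by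
      rintro s hs _ ⟨w, hw, rfl⟩
      rw [Matrix.toLin'_apply, ← heq]
      exact W.smul_mem (⟨e s, hmem s hs⟩ : A) hw
    rcases hS.1 _ hinv with h | h
    · exact Or.inl ((Submodule.restrictScalars_eq_bot_iff F A (ι → F)).1 h)
    · exact Or.inr ((Submodule.restrictScalars_eq_top_iff F A (ι → F)).1 h)
  have hend : ∀ f : Module.End A (ι → F), ∃ c : F, ∀ v, f v = c • v := by
    intro f
    let fl : (ι → F) →ₗ[F] (ι → F) := f.restrictScalars F
    obtain ⟨c, hc⟩ := hS.2 (LinearMap.toMatrix' fl) (fun s hs => by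
      apply Matrix.toLin'.injective
      apply LinearMap.ext
      intro v
      simp only [Matrix.toLin'_mul, LinearMap.comp_apply, Matrix.toLin'_toMatrix']
      rw [Matrix.toLin'_apply, Matrix.toLin'_apply, ← heq, ← heq]
      exact f.map_smul (⟨e s, hmem s hs⟩ : A) v)
    refine ⟨c, fun v => ?_⟩
    have : fl = Matrix.toLin' (c • (1 : Matrix ι ι F)) := by rw [← hc, Matrix.toLin'_toMatrix']
    calc f v = fl v := rfl
      _ = c • v := by rw [this, Matrix.toLin'_apply, Matrix.smul_mulVec, Matrix.one_mulVec]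
  rw [eq_top_iff]
  intro T _
  let T' : Module.End (Module.End A (ι → F)) (ι → F) :=
    { toFun := fun v => T *ᵥ v
      map_add' := Matrix.mulVec_add T
      map_smul' := fun f v => by
        obtain ⟨c, hc⟩ := hend f
        simp only [Module.End.smul_def, hc, RingHom.id_apply, Matrix.mulVec_smul] }
  classical
  obtain ⟨⟨a', a, ha', rfl⟩, ha⟩ :=
    jacobson_density (R := A) (M := ι → F) T' (Finset.univ.image fun i => Pi.single i (1 : F))
  have : T = a := by
    ext i j
    have h := ha (Pi.single j 1) (Finset.mem_image_of_mem _ (Finset.mem_univ j))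
    have h' : T *ᵥ Pi.single j 1 = a *ᵥ Pi.single j 1 := h.trans (heq a _)
    simpa [Matrix.mulVec_single_one] using congrFun h' i
  exact this ▸ ha'

/-- Burnside for groups: the elements of an absolutely irreducible group span the matrix algebra. -/
theorem span_eq_top_of_absIrred {R : Subgroup (GL ι F)} [Nonempty ι]
    (hS : Cfsg.Geo.ActsAbsolutelyIrreducibly (Cfsg.Geo.matrixSet R)) :
    Submodule.span F (Cfsg.Geo.matrixSet R) = ⊤ := by
  have h := congrArg Subalgebra.toSubmodule (adjoin_eq_top_of_absIrred hS)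
  rw [Algebra.adjoin_eq_span, Algebra.top_toSubmodule] at h
  have hc : ((Submonoid.closure (Cfsg.Geo.matrixSet R) : Submonoid (Matrix ι ι F)) :
      Set (Matrix ι ι F)) = Cfsg.Geo.matrixSet R := by
    refine Set.Subset.antisymm ?_ Submonoid.subset_closure
    intro x hx
    induction hx using Submonoid.closure_induction with
    | mem _ h => exact h
    | one => exact ⟨1, R.one_mem, rfl⟩
    | mul x y _ _ hx hy =>
      obtain ⟨a, ha, rfl⟩ := hx
      obtain ⟨b, hb, rfl⟩ := hy
      exact ⟨a * b, R.mul_mem ha hb, rfl⟩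
  rwa [hc] at h

theorem absIrred_mono {S T : Set (Matrix ι ι F)} (h : S ⊆ T)
    (hS : Cfsg.Geo.ActsAbsolutelyIrreducibly S) : Cfsg.Geo.ActsAbsolutelyIrreducibly T :=
  ⟨actsIrreducibly_mono h hS.1, fun M hM => hS.2 M fun s hs => hM s (h hs)⟩

end CfsgLib.Aschbacher
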