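import Cfsg.Agent.Aschbacher.Basic

/-!
Clifford's theorem for a subgroup normalised by an irreducible group, in the form needed for Aschbacher's
reduction: in prime dimension the subgroup is irreducible, scalar, or diagonal with distinct characters.
-/

set_option autoImplicit false

namespace CfsgLib.Aschbacher

open Matrix

variable {ι : Type} [Fintype ι] [DecidableEq ι] {F : Type*} [Field F]

/-- `H` normalises `N`. -/
def Normalizes (H N : Subgroup (GL ι F)) : Prop := ∀ h ∈ H, ∀ x ∈ N, h * x * h⁻¹ ∈ N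

theorem Normalizes.conj_inv {H N : Subgroup (GL ι F)} (hn : Normalizes H N) {h x : GL ι F}
    (hh : h ∈ H) (hx : x ∈ N) : h⁻¹ * x * h ∈ N := by
  simpa using hn h⁻¹ (H.inv_mem hh) x hx

theorem mulVec_conj (h x : GL ι F) (v : ι → F) :
    mat x *ᵥ (mat h *ᵥ v) = mat h *ᵥ (mat (h⁻¹ * x * h) *ᵥ v) := by
  rw [Matrix.mulVec_mulVec, Matrix.mulVec_mulVec]
  congr 1
  simp only [mat, ← Units.val_mul]
  congr 1
  group

/-- A translate of an invariant subspace of a normalised subgroup is invariant. -/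
theorem translate_invariant {H N : Subgroup (GL ι F)} (hn : Normalizes H N) {h : GL ι F}
    (hh : h ∈ H) {W : Submodule F (ι → F)} (hW : N ≤ Cfsg.Geo.subspaceStabilizer W) :
    N ≤ Cfsg.Geo.subspaceStabilizer (W.map (Matrix.toLin' (mat h))) := by
  intro x hx
  rw [mem_subspaceStabilizer_iff]
  rintro _ ⟨w, hw, rfl⟩
  refine ⟨mat (h⁻¹ * x * h) *ᵥ w, mem_subspaceStabilizer_iff.1 (hW (hn.conj_inv hh hx)) w hw, ?_⟩
  rw [Matrix.toLin'_apply, Matrix.toLin'_apply]
  exact (mulVec_conj h x w).symm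

/-- A non-trivial subspace invariant under `N` contains a minimal one. -/
theorem exists_minimal_invariant (N : Subgroup (GL ι F)) [Nonempty ι] :
    ∃ W : Submodule F (ι → F), W ≠ ⊥ ∧ N ≤ Cfsg.Geo.subspaceStabilizer W ∧
      ∀ W' ≤ W, N ≤ Cfsg.Geo.subspaceStabilizer W' → W' = ⊥ ∨ W' = W := by
  let S : Set (Submodule F (ι → F)) := {W | W ≠ ⊥ ∧ N ≤ Cfsg.Geo.subspaceStabilizer W}
  have hS : S.Nonempty := ⟨⊤, top_ne_bot, fun x _ => mem_subspaceStabilizer_iff.2 fun _ _ => trivial⟩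
  obtain ⟨W, ⟨hW0, hWN⟩, hmin⟩ := (wellFounded_lt (α := Submodule F (ι → F))).has_min S hS
  refine ⟨W, hW0, hWN, fun W' hle hN => ?_⟩
  by_contra hne
  rw [not_or] at hne
  exact hmin W' ⟨hne.1, hN⟩ (lt_of_le_of_ne hle hne.2)

/-- If an irreducible group normalises `N`, the dimension of a minimal `N`-invariant subspace divides
the dimension. -/
theorem finrank_minimal_dvd {H N : Subgroup (GL ι F)}
    (hirr : Cfsg.Geo.ActsIrreducibly (Cfsg.Geo.matrixSet H)) (hn : Normalizes H N)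
    {W : Submodule F (ι → F)} (hW0 : W ≠ ⊥) (hWN : N ≤ Cfsg.Geo.subspaceStabilizer W)
    (hmin : ∀ W' ≤ W, N ≤ Cfsg.Geo.subspaceStabilizer W' → W' = ⊥ ∨ W' = W) :
    Module.finrank F W ∣ Fintype.card ι := by
  suffices key : ∀ (k : ℕ) (U : Submodule F (ι → F)), Fintype.card ι - Module.finrank F U ≤ k →
      N ≤ Cfsg.Geo.subspaceStabilizer U → Module.finrank F W ∣ Module.finrank F U →
      Module.finrank F W ∣ Fintype.card ι by
    refine key (Fintype.card ι) ⊥ (by omega) ?_ (by simp)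
    intro x _
    rw [mem_subspaceStabilizer_iff]
    intro w hw
    rw [Submodule.mem_bot] at hw ⊢
    rw [hw, Matrix.mulVec_zero]
  intro k
  induction k using Nat.strong_induction_on with
  | _ k ih =>
    intro U hk hUN hd
    by_cases hU : U = ⊤
    · subst hU
      rwa [finrank_top, Module.finrank_fintype_fun_eq_card] at hd
    let S : Submodule F (ι → F) := ⨆ h : H, W.map (Matrix.toLin' (mat h.1))
    have hSH : H ≤ Cfsg.Geo.subspaceStabilizer S := by
      intro g hg
      rw [mem_subspaceStabilizer_iff, ← map_le_iff, Submodule.map_iSup]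
      refine iSup_le fun h => le_iSup_of_le ⟨g * h.1, H.mul_mem hg h.2⟩ (le_of_eq ?_)
      rw [← Submodule.map_comp, ← Matrix.toLin'_mul]
      rfl
    have hS : S = ⊤ := by
      refine ((actsIrreducibly_iff.1 hirr) S hSH).resolve_left fun h0 => hW0 ?_
      refine le_bot_iff.1 (le_trans ?_ h0.le)
      refine le_trans (le_of_eq ?_) (le_iSup _ (1 : H))
      simp
    obtain ⟨h, hh⟩ : ∃ h : H, ¬ W.map (Matrix.toLin' (mat h.1)) ≤ U := by
      by_contra hall
      rw [not_exists] at hall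
      exact hU (top_le_iff.1 (hS ▸ iSup_le fun h => not_not.1 (hall h)))
    let W' := W.map (Matrix.toLin' (mat h.1))
    have hW'N : N ≤ Cfsg.Geo.subspaceStabilizer W' := translate_invariant hn h.2 hWN
    have hinf : W' ⊓ U = ⊥ := by
      let V := (W' ⊓ U).map (Matrix.toLin' (mat h.1⁻¹))
      have hVN : N ≤ Cfsg.Geo.subspaceStabilizer V := by
        refine translate_invariant hn (H.inv_mem h.2) fun x hx => ?_
        rw [mem_subspaceStabilizer_iff]
        exact fun w hw => ⟨mem_subspaceStabilizer_iff.1 (hW'N hx) w hw.1,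
          mem_subspaceStabilizer_iff.1 (hUN hx) w hw.2⟩
      have hVW : V ≤ W := by
        rintro _ ⟨_, ⟨⟨w, hw, rfl⟩, _⟩, rfl⟩
        rwa [Matrix.toLin'_apply, Matrix.toLin'_apply, inv_mulVec_mulVec]
      rcases hmin V hVW hVN with h0 | h0
      · rw [eq_bot_iff] at h0 ⊢
        intro v hv
        have hv' : mat h.1⁻¹ *ᵥ v = 0 := (Submodule.mem_bot F).1 (map_le_iff.1 h0 v hv)
        exact (Submodule.mem_bot F).2 (mulVec_injective h.1⁻¹ (by simpa using hv'))
      · exfalso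
        apply hh
        refine le_trans (le_of_eq ?_) inf_le_right (b := W' ⊓ U)
        refine (Submodule.eq_of_le_of_finrank_eq inf_le_left ?_).symm
        show Module.finrank F ↥(W' ⊓ U) = Module.finrank F W'
        rw [finrank_map_gl, ← h0, finrank_map_gl]
    have hdim : Module.finrank F ↥(W' ⊔ U) = Module.finrank F W + Module.finrank F U := by
      have := Submodule.finrank_sup_add_finrank_inf_eq W' U
      rw [hinf, finrank_bot, add_zero, finrank_map_gl] at this
      exact this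
    have hWpos : 0 < Module.finrank F W := by
      rwa [Nat.pos_iff_ne_zero, Ne, Submodule.finrank_eq_zero]
    have hle : Module.finrank F ↥(W' ⊔ U) ≤ Fintype.card ι := by
      simpa using Submodule.finrank_le (W' ⊔ U)
    refine ih (k - Module.finrank F W) (by omega) (W' ⊔ U) (by omega) ?_
      (hdim ▸ (dvd_refl _).add hd)
    intro x hx
    rw [mem_subspaceStabilizer_iff, ← map_le_iff, Submodule.map_sup]
    exact sup_le_sup (map_le_iff.2 (mem_subspaceStabilizer_iff.1 (hW'N hx)))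
      (map_le_iff.2 (mem_subspaceStabilizer_iff.1 (hUN hx)))

/-- The common eigenspace of `N` for the character `χ`. -/
def eigSpace (N : Subgroup (GL ι F)) (χ : N → F) : Submodule F (ι → F) where
  carrier := {v | ∀ x : N, mat x.1 *ᵥ v = χ x • v}
  add_mem' {a b} ha hb x := by rw [Matrix.mulVec_add, ha x, hb x, smul_add]
  zero_mem' x := by simp
  smul_mem' c v hv x := by rw [Matrix.mulVec_smul, hv x, smul_comm]

theorem mem_eigSpace {N : Subgroup (GL ι F)} {χ : N → F} {v : ι → F} :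
    v ∈ eigSpace N χ ↔ ∀ x : N, mat x.1 *ᵥ v = χ x • v := Iff.rfl

theorem eigSpace_disjoint (N : Subgroup (GL ι F)) (t : Finset (N → F)) :
    ∀ χ ∉ t, ∀ v ∈ eigSpace N χ, v ∈ t.sup (eigSpace N) → v = 0 := by
  classical
  induction t using Finset.induction_on with
  | empty =>
    intro χ _ v _ hv
    simpa using hv
  | insert ψ t hψ ih =>
    intro χ hχ v hv hvt
    rw [Finset.sup_insert, Submodule.mem_sup] at hvt
    obtain ⟨a, ha, b, hb, rfl⟩ := hvt
    rw [Finset.mem_insert, not_or] at hχ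
    obtain ⟨x, hx⟩ : ∃ x, χ x ≠ ψ x := Function.ne_iff.1 hχ.1
    have hinv : (t.sup (eigSpace N)).map (Matrix.toLin' (mat x.1)) ≤ t.sup (eigSpace N) := by
      rw [Finset.sup_eq_iSup, Submodule.map_iSup]
      refine iSup_mono fun φ => ?_
      rw [Submodule.map_iSup]
      refine iSup_mono fun _ => map_le_iff.2 fun w hw => ?_
      rw [mem_eigSpace.1 hw x]
      exact Submodule.smul_mem _ _ hw
    have h1 : (χ x - ψ x) • (a + b) = mat x.1 *ᵥ b - ψ x • b := by
      rw [sub_smul, ← hv x, Matrix.mulVec_add, ha x]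
      module
    have h2 : (χ x - ψ x) • (a + b) = 0 := by
      refine ih χ hχ.2 _ (Submodule.smul_mem _ _ hv) ?_
      rw [h1]
      exact Submodule.sub_mem _ (map_le_iff.1 hinv b hb) (Submodule.smul_mem _ _ hb)
    exact (smul_eq_zero.1 h2).resolve_left (sub_ne_zero.2 hx)

theorem eigSpace_indep (N : Subgroup (GL ι F)) [Finite (N → F)] :
    iSupIndep (eigSpace N) := by
  classical
  haveI := Fintype.ofFinite (N → F)
  intro χ
  rw [Submodule.disjoint_def]
  intro v hv hv'
  refine eigSpace_disjoint N (Finset.univ.erase χ) χ (Finset.notMem_erase _ _) v hv ?_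
  rw [Finset.sup_eq_iSup]
  refine (iSup_le fun ψ => iSup_le fun hψ => ?_ : (⨆ ψ, ⨆ _ : ψ ≠ χ, eigSpace N ψ) ≤ _) hv'
  exact le_iSup₂_of_le ψ (Finset.mem_erase.2 ⟨hψ, Finset.mem_univ _⟩) le_rfl

theorem finrank_eq_sum_of_indep {κ : Type*} [Fintype κ] {D : κ → Submodule F (ι → F)}
    (hi : iSupIndep D) (ht : iSup D = ⊤) :
    ∑ i, Module.finrank F (D i) = Fintype.card ι := by
  classical
  have hint : DirectSum.IsInternal D := DirectSum.isInternal_submodule_of_iSupIndep_of_iSup_eq_top hi ht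
  have := Module.finrank_eq_card_basis (hint.collectedBasis fun i => Module.finBasis F (D i))
  rw [Module.finrank_fintype_fun_eq_card] at this
  simpa using this.symm

/-- Clifford's theorem in prime dimension. -/
theorem clifford_prime [Finite F] (hp : (Fintype.card ι).Prime) {H N : Subgroup (GL ι F)}
    (hirr : Cfsg.Geo.ActsIrreducibly (Cfsg.Geo.matrixSet H)) (hn : Normalizes H N) :
    Cfsg.Geo.ActsIrreducibly (Cfsg.Geo.matrixSet N) ∨ N ≤ Cfsg.Geo.scalars ι F ∨
      ((∀ x ∈ N, ∀ y ∈ N, x * y = y * x) ∧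
        ∃ χ : Fin (Fintype.card ι) → N → F, Function.Injective χ ∧
          Cfsg.Geo.IsMDecomposition 1 (fun i => eigSpace N (χ i)) ∧
          H ≤ Cfsg.Geo.decompositionStabilizer fun i => eigSpace N (χ i)) := by
  classical
  haveI : Nonempty ι := Fintype.card_pos_iff.1 hp.pos
  obtain ⟨W, hW0, hWN, hmin⟩ := exists_minimal_invariant N
  have hle : Module.finrank F W ≤ Fintype.card ι := by simpa using Submodule.finrank_le W
  rcases hp.eq_one_or_self_of_dvd _ (finrank_minimal_dvd hirr hn hW0 hWN hmin) with h1 | h1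
  swap
  · left
    have hWtop : W = ⊤ := Submodule.eq_top_of_finrank_eq (by simpa using h1)
    subst hWtop
    rw [actsIrreducibly_iff]
    exact fun V hV => hmin V le_top hV
  right
  obtain ⟨w, hw0, hWw⟩ : ∃ w : ι → F, w ≠ 0 ∧ ∀ x ∈ W, ∃ c : F, c • w = x := by
    obtain ⟨w, hw, hspan⟩ := finrank_eq_one_iff'.1 h1
    refine ⟨w.1, fun h => hw (Subtype.ext h), fun x hx => ?_⟩
    obtain ⟨c, hc⟩ := hspan ⟨x, hx⟩
    exact ⟨c, congrArg Subtype.val hc⟩
  have hwW : w ∈ W := by
    obtain ⟨u, hu, hu0⟩ := (Submodule.ne_bot_iff W).1 hW0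
    obtain ⟨c, rfl⟩ := hWw u hu
    have hc : c ≠ 0 := by rintro rfl; simp at hu0
    simpa [hc] using W.smul_mem c⁻¹ hu
  have hχ0 : ∃ χ : N → F, w ∈ eigSpace N χ := by
    have : ∀ x : N, ∃ c : F, c • w = mat x.1 *ᵥ w := fun x =>
      hWw _ (mem_subspaceStabilizer_iff.1 (hWN x.2) w hwW)
    choose χ hχ using this
    exact ⟨χ, fun x => (hχ x).symm⟩
  have hperm : ∀ h ∈ H, ∀ χ : N → F, ∃ ψ : N → F, ∀ v ∈ eigSpace N χ,
      mat h *ᵥ v ∈ eigSpace N ψ := by
    intro h hh χ
    refine ⟨fun x => χ ⟨h⁻¹ * x.1 * h, hn.conj_inv hh x.2⟩, fun v hv x => ?_⟩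
    rw [mulVec_conj, mem_eigSpace.1 hv ⟨h⁻¹ * x.1 * h, hn.conj_inv hh x.2⟩, Matrix.mulVec_smul]
  have hsum : ⨆ χ, eigSpace N χ = ⊤ := by
    refine ((actsIrreducibly_iff.1 hirr) _ fun h hh => ?_).resolve_left fun h0 => hw0 ?_
    · rw [mem_subspaceStabilizer_iff, ← map_le_iff, Submodule.map_iSup]
      refine iSup_le fun χ => ?_
      obtain ⟨ψ, hψ⟩ := hperm h hh χ
      exact le_iSup_of_le ψ (map_le_iff.2 hψ)
    · obtain ⟨χ, hχ⟩ := hχ0
      have : w ∈ (⨆ χ, eigSpace N χ) := le_iSup (eigSpace N) χ hχ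
      rwa [h0, Submodule.mem_bot] at this
  have hcomm : ∀ x ∈ N, ∀ y ∈ N, x * y = y * x := by
    intro x hx y hy
    apply Units.ext
    rw [Units.val_mul, Units.val_mul]
    apply Matrix.toLin'.injective
    rw [← LinearMap.eqLocus_eq_top, eq_top_iff, ← hsum]
    refine iSup_le fun χ v hv => ?_
    rw [LinearMap.mem_eqLocus, Matrix.toLin'_apply, Matrix.toLin'_apply, ← Matrix.mulVec_mulVec,
      ← Matrix.mulVec_mulVec, mem_eigSpace.1 hv ⟨y, hy⟩, mem_eigSpace.1 hv ⟨x, hx⟩,
      Matrix.mulVec_smul, Matrix.mulVec_smul, mem_eigSpace.1 hv ⟨y, hy⟩,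
      mem_eigSpace.1 hv ⟨x, hx⟩, smul_comm]
  let T := {χ : N → F // eigSpace N χ ≠ ⊥}
  haveI : Fintype T := Fintype.ofFinite T
  have hsumT : ⨆ χ : T, eigSpace N χ.1 = ⊤ := by
    rw [eq_top_iff, ← hsum]
    refine iSup_le fun χ => ?_
    by_cases hχ : eigSpace N χ = ⊥
    · rw [hχ]; exact bot_le
    · exact le_iSup (fun χ : T => eigSpace N χ.1) ⟨χ, hχ⟩
  have hindT : iSupIndep fun χ : T => eigSpace N χ.1 :=
    (eigSpace_indep N).comp Subtype.val_injective
  have hcard := finrank_eq_sum_of_indep hindT hsumT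
  obtain ⟨χ₀, hχ₀⟩ := hχ0
  have hT0 : eigSpace N χ₀ ≠ ⊥ := fun h => hw0 (by rwa [h, Submodule.mem_bot] at hχ₀)
  have hconst : ∀ χ : T, Module.finrank F (eigSpace N χ.1) = Module.finrank F (eigSpace N χ₀) := by
    intro χ
    have hO : ⨆ h : H, (eigSpace N χ₀).map (Matrix.toLin' (mat h.1)) = ⊤ := by
      refine ((actsIrreducibly_iff.1 hirr) _ fun g hg => ?_).resolve_left fun h0 => hT0 ?_
      · rw [mem_subspaceStabilizer_iff, ← map_le_iff, Submodule.map_iSup]
        refine iSup_le fun h => le_iSup_of_le ⟨g * h.1, H.mul_mem hg h.2⟩ (le_of_eq ?_)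
        rw [← Submodule.map_comp, ← Matrix.toLin'_mul]
        rfl
      · refine le_bot_iff.1 (le_trans ?_ h0.le)
        refine le_trans (le_of_eq ?_) (le_iSup _ (1 : H))
        simp
    by_contra hne
    apply χ.2
    refine le_bot_iff.1 ((eigSpace_indep N χ.1) le_rfl (le_trans le_top (le_trans hO.ge ?_)))
    refine iSup_le fun h => ?_
    obtain ⟨ψ, hψ⟩ := hperm h.1 h.2 χ₀
    refine le_trans (map_le_iff.2 hψ) (le_iSup₂_of_le ψ ?_ le_rfl)
    intro hψχ
    apply hne
    have hback : ∀ v ∈ eigSpace N ψ, mat h.1⁻¹ *ᵥ v ∈ eigSpace N χ₀ := by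
      obtain ⟨φ, hφ⟩ := hperm _ (H.inv_mem h.2) ψ
      have : φ = χ₀ := by
        funext x
        have h3 := hφ _ (hψ w hχ₀)
        rw [inv_mulVec_mulVec] at h3
        have h4 := (h3 x).symm.trans (hχ₀ x)
        exact smul_left_injective F hw0 h4
      exact this ▸ hφ
    refine le_antisymm ?_ ?_
    · rw [← hψχ, ← finrank_map_gl (h.1⁻¹) (eigSpace N ψ)]
      exact Submodule.finrank_mono (map_le_iff.2 hback)
    · rw [← hψχ, ← finrank_map_gl h.1 (eigSpace N χ₀)]
      exact Submodule.finrank_mono (map_le_iff.2 hψ)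
  rw [Finset.sum_congr rfl fun χ _ => hconst χ, Finset.sum_const, Finset.card_univ, smul_eq_mul]
    at hcard
  rcases hp.eq_one_or_self_of_dvd _ ⟨_, hcard.symm⟩ with ht | ht
  · left
    intro x hx
    obtain ⟨χ, hχ⟩ := Fintype.card_eq_one_iff.1 ht
    have htop : eigSpace N χ.1 = ⊤ := by
      rw [eq_top_iff, ← hsumT]
      exact iSup_le fun ψ => (hχ ψ) ▸ le_rfl
    have hxv : mat x = χ.1 ⟨x, hx⟩ • (1 : Matrix ι ι F) := by
      apply Matrix.toLin'.injective
      apply LinearMap.ext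
      intro v
      have hv : v ∈ eigSpace N χ.1 := htop ▸ trivial
      rw [Matrix.toLin'_apply, Matrix.toLin'_apply, Matrix.smul_mulVec, Matrix.one_mulVec]
      exact hv ⟨x, hx⟩
    have hne : χ.1 ⟨x, hx⟩ ≠ 0 := fun h0 => by
      have := Units.ne_zero x
      rw [show (x : Matrix ι ι F) = χ.1 ⟨x, hx⟩ • 1 from hxv, h0, zero_smul] at this
      exact this rfl
    exact (Cfsg.Geo.mem_scalars_iff x).2 ⟨Units.mk0 _ hne, hxv⟩
  · right
    refine ⟨hcomm, ?_⟩
    have hd1 : Module.finrank F (eigSpace N χ₀) = 1 := by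
      rw [ht] at hcard
      exact (Nat.mul_eq_left hp.ne_zero).1 hcard
    let e : Fin (Fintype.card ι) ≃ T := (finCongr ht.symm).trans (Fintype.equivFin T).symm
    have hD : Cfsg.Geo.IsMDecomposition 1 fun i => eigSpace N (e i).1 :=
      ⟨hp.two_le, one_pos, fun i => (hconst _).trans hd1, hindT.comp e.injective,
        (e.surjective.iSup_comp fun χ : T => eigSpace N χ.1).trans hsumT⟩
    refine ⟨fun i => (e i).1, Subtype.val_injective.comp e.injective, hD,
      fun h hh => mem_decompositionStabilizer_of hD fun i => ?_⟩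
    obtain ⟨ψ, hψ⟩ := hperm h hh (e i).1
    have hψ0 : eigSpace N ψ ≠ ⊥ := by
      obtain ⟨v, hv, hv0⟩ := (Submodule.ne_bot_iff _).1 (e i).2
      refine (Submodule.ne_bot_iff _).2 ⟨_, hψ v hv, fun h0 => hv0 ?_⟩
      exact mulVec_injective h (by simpa using h0)
    exact ⟨e.symm ⟨ψ, hψ0⟩, by simpa using hψ⟩

end CfsgLib.Aschbacher
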