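import Cfsg.Agent.Aschbacher.SymplecticType

/-!
Aschbacher's reduction in odd prime dimension: a subgroup of the special linear group is reducible, monomial,
normalises an extension field of full degree, normalises a Heisenberg group, or is almost simple modulo scalars
with an absolutely irreducible perfect core.
-/

set_option autoImplicit false

namespace CfsgLib.Aschbacher

open Matrix
open scoped commutatorElement

variable {ι : Type} [Fintype ι] [DecidableEq ι] {F : Type*} [Field F]

/-- The residual-class conditions other than non-realisability over proper subfields. -/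
structure IsSimpleCore (H P : Subgroup (GL ι F)) : Prop where
  le : P ≤ H
  normal : Normalizes H P
  perfect : ⁅P, P⁆ = P
  simple : IsSimpleGroup (P ⧸ (Cfsg.Geo.scalars ι F).subgroupOf P)
  nonabelian : ¬ IsMulCommutative (P ⧸ (Cfsg.Geo.scalars ι F).subgroupOf P)
  centralizer_scalar : ∀ h ∈ H, (∀ x ∈ P, h * x * h⁻¹ * x⁻¹ ∈ Cfsg.Geo.scalars ι F) →
    h ∈ Cfsg.Geo.scalars ι F
  absIrred : Cfsg.Geo.ActsAbsolutelyIrreducibly (Cfsg.Geo.matrixSet P)

theorem IsSimpleCore.toResidualCore {H P : Subgroup (GL ι F)} (h : IsSimpleCore H P)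
    (hno : ∀ F₀ : Subfield F, F₀ ≠ ⊤ → ¬ Cfsg.Geo.RealisableOver F₀ (Cfsg.Geo.matrixSet P)) :
    Cfsg.Geo.IsResidualCore H P :=
  ⟨h.le, h.normal, h.perfect, h.simple, h.nonabelian, h.centralizer_scalar, h.absIrred, hno⟩

theorem conj_mul_scalar {h x s : GL ι F} (hs : s ∈ Cfsg.Geo.scalars ι F) :
    h * (x * s) * h⁻¹ = h * x * h⁻¹ * s := by
  simp only [mul_assoc]
  rw [scalars_comm hs (g := h⁻¹)]

theorem commutatorElement_mul_scalar {x y s t : GL ι F} (hs : s ∈ Cfsg.Geo.scalars ι F)
    (ht : t ∈ Cfsg.Geo.scalars ι F) : ⁅x * s, y * t⁆ = ⁅x, y⁆ := by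
  rw [commutatorElement_def, commutatorElement_def]
  calc x * s * (y * t) * (x * s)⁻¹ * (y * t)⁻¹
      = x * s * (y * t) * s⁻¹ * x⁻¹ * t⁻¹ * y⁻¹ := by simp only [_root_.mul_inv_rev, mul_assoc]
    _ = x * (s * (y * t) * s⁻¹) * x⁻¹ * t⁻¹ * y⁻¹ := by simp only [mul_assoc]
    _ = x * (y * t) * x⁻¹ * t⁻¹ * y⁻¹ := by rw [scalars_comm hs (g := y * t), mul_inv_cancel_right]
    _ = x * y * (t * x⁻¹) * t⁻¹ * y⁻¹ := by simp only [mul_assoc]
    _ = _ := by rw [scalars_comm ht (g := x⁻¹)]; simp [mul_assoc]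

theorem commutator_le_of_le_sup {M A B : Subgroup (GL ι F)} {Z : Subgroup (GL ι F)}
    (hZ : Z ≤ Cfsg.Geo.scalars ι F) (hA : M ≤ A ⊔ Z) (hB : M ≤ B ⊔ Z) : ⁅M, M⁆ ≤ ⁅A, B⁆ := by
  rw [Subgroup.commutator_le]
  intro x hx y hy
  obtain ⟨a, ha, s, hs, rfl⟩ := Subgroup.mem_sup_of_normal_right.1
    ((sup_le_sup_left hZ A) (hA hx))
  obtain ⟨b, hb, t, ht, rfl⟩ := Subgroup.mem_sup_of_normal_right.1
    ((sup_le_sup_left hZ B) (hB hy))
  rw [commutatorElement_mul_scalar hs ht]
  exact Subgroup.commutator_mem_commutator ha hb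

/-- An element whose commutators with a group are scalar centralises its derived group. -/
theorem commute_commutator {Q : Subgroup (GL ι F)} {g : GL ι F}
    (h : ∀ x ∈ Q, g * x * g⁻¹ * x⁻¹ ∈ Cfsg.Geo.scalars ι F) :
    ∀ x ∈ ⁅Q, Q⁆, g * x = x * g := by
  intro x hx
  have hle : ⁅Q, Q⁆ ≤ Subgroup.centralizer {g} := by
    rw [Subgroup.commutator_le]
    intro a ha b hb
    rw [Subgroup.mem_centralizer_singleton_iff]
    have ea : g * a * g⁻¹ = a * (g * a * g⁻¹ * a⁻¹) := by
      rw [← scalars_comm (h a ha) (g := a)]; group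
    have eb : g * b * g⁻¹ = b * (g * b * g⁻¹ * b⁻¹) := by
      rw [← scalars_comm (h b hb) (g := b)]; group
    have e : g * ⁅a, b⁆ * g⁻¹ = ⁅g * a * g⁻¹, g * b * g⁻¹⁆ := by
      simp only [commutatorElement_def]; group
    rw [ea, eb, commutatorElement_mul_scalar (h a ha) (h b hb)] at e
    rw [eq_comm]
    calc g * ⁅a, b⁆ = g * ⁅a, b⁆ * g⁻¹ * g := by group
      _ = ⁅a, b⁆ * g := by rw [e]
  exact (Subgroup.mem_centralizer_singleton_iff.1 (hle hx)).symm

theorem commutant_normalized {H N : Subgroup (GL ι F)} (hn : Normalizes H N) :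
    H ≤ Cfsg.Geo.subalgebraNormalizer (commutant (Cfsg.Geo.matrixSet N)) := by
  intro h hh
  refine mem_subalgebraNormalizer_of fun k hk => ?_
  rw [mem_commutant, forall_matrixSet] at hk ⊢
  intro x hx
  have e : mat x * mat h = mat h * mat (h⁻¹ * x * h) := by
    simp only [mat, ← Units.val_mul]; congr 1; group
  have e' : mat h⁻¹ * mat x = mat (h⁻¹ * x * h) * mat h⁻¹ := by
    simp only [mat, ← Units.val_mul]; congr 1; group
  calc mat x * (mat h * k * mat h⁻¹) = mat h * (mat (h⁻¹ * x * h) * k) * mat h⁻¹ := by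
        rw [← mul_assoc, ← mul_assoc, e]; simp only [mul_assoc]
    _ = mat h * k * mat h⁻¹ * mat x := by
        rw [hk _ (hn.conj_inv hh hx)]; simp only [mul_assoc, e']

theorem irred_field_or_absIrred [Finite F] (hp : (Fintype.card ι).Prime) {N : Subgroup (GL ι F)}
    (hirr : Cfsg.Geo.ActsIrreducibly (Cfsg.Geo.matrixSet N)) :
    Cfsg.Geo.IsFieldSubalgebra (Fintype.card ι) (commutant (Cfsg.Geo.matrixSet N)) ∨
      Cfsg.Geo.ActsAbsolutelyIrreducibly (Cfsg.Geo.matrixSet N) := by
  haveI : Nonempty ι := Fintype.card_pos_iff.1 hp.pos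
  have hK := commutant_isField hirr
  rcases hp.eq_one_or_self_of_dvd _ (fieldSubalgebra_finrank_dvd hK) with h1 | h1
  · refine Or.inr ⟨hirr, fun M hM => ?_⟩
    have hMK : M ∈ commutant (Cfsg.Geo.matrixSet N) := mem_commutant.2 fun s hs => (hM s hs).symm
    rw [Subalgebra.eq_bot_of_finrank_one h1, Algebra.mem_bot] at hMK
    obtain ⟨c, hc⟩ := hMK
    exact ⟨c, by rw [← hc, Algebra.algebraMap_eq_smul_one]⟩
  · exact Or.inl (h1 ▸ hK)

/-- A group commuting with a field of full degree is commutative. -/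
theorem commutative_of_field [Finite F] {K : Subalgebra F (Matrix ι ι F)}
    (hK : Cfsg.Geo.IsFieldSubalgebra (Fintype.card ι) K) [Nonempty ι] {x y : Matrix ι ι F}
    (hx : ∀ k ∈ K, x * k = k * x) (hy : ∀ k ∈ K, y * k = k * y) : x * y = y * x := by
  obtain ⟨i⟩ := ‹Nonempty ι›
  let v : ι → F := Pi.single i 1
  let f : Subalgebra.toSubmodule K →ₗ[F] (ι → F) :=
    { toFun := fun k => k.1 *ᵥ v
      map_add' := fun a b => Matrix.add_mulVec a.1 b.1 v
      map_smul' := fun c a => Matrix.smul_mulVec c a.1 v }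
  have hf : Function.Injective f := by
    rw [← LinearMap.ker_eq_bot, LinearMap.ker_eq_bot']
    intro k hk
    by_contra hk0
    obtain ⟨k', hk', hkk⟩ := hK.inv k.1 k.2 fun h => hk0 (Subtype.ext h)
    have h1 : k' *ᵥ (k.1 *ᵥ v) = 0 := by rw [show k.1 *ᵥ v = 0 from hk, Matrix.mulVec_zero]
    rw [Matrix.mulVec_mulVec, hK.comm k' hk' k.1 k.2, hkk, Matrix.one_mulVec] at h1
    simpa [v] using congrFun h1 i
  have hsurj : Function.Surjective f := by
    refine (LinearMap.injective_iff_surjective_of_finrank_eq_finrank ?_).1 hf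
    rw [Module.finrank_fintype_fun_eq_card]
    exact hK.finrank_eq
  have key : ∀ z : Matrix ι ι F, (∀ k ∈ K, z * k = k * z) → z ∈ K := by
    intro z hz
    obtain ⟨k, hk⟩ := hsurj (z *ᵥ v)
    have hk' : k.1 *ᵥ v = z *ᵥ v := hk
    suffices z = k.1 from this ▸ k.2
    apply Matrix.toLin'.injective
    apply LinearMap.ext
    intro w
    obtain ⟨k', rfl⟩ := hsurj w
    show Matrix.toLin' z (k'.1 *ᵥ v) = Matrix.toLin' k.1 (k'.1 *ᵥ v)
    rw [Matrix.toLin'_apply, Matrix.toLin'_apply, Matrix.mulVec_mulVec, hz _ k'.2,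
      ← Matrix.mulVec_mulVec, ← hk', Matrix.mulVec_mulVec, Matrix.mulVec_mulVec,
      hK.comm _ k'.2 _ k.2]
  exact hK.comm _ (key x hx) _ (key y hy)

set_option maxHeartbeats 1000000 in
/-- Almost simple case: the derived group of a minimal normalised non-scalar subgroup is a simple core. -/
theorem exists_simpleCore [Finite F] (hp : (Fintype.card ι).Prime) {H N Z : Subgroup (GL ι F)}
    (hZs : Z ≤ Cfsg.Geo.scalars ι F) (hNH : N ≤ H) (hn : Normalizes H N) (hZN : Z ≤ N)
    (hZ : ∀ x ∈ N, x ∈ Cfsg.Geo.scalars ι F → x ∈ Z)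
    (hmin : ∀ M ≤ N, Normalizes H M → M ≤ Z ∨ M ⊔ Z = N)
    (habs : Cfsg.Geo.ActsAbsolutelyIrreducibly (Cfsg.Geo.matrixSet N))
    (hD : ¬ ⁅N, N⁆ ≤ Cfsg.Geo.scalars ι F) : IsSimpleCore H ⁅N, N⁆ := by
  classical
  haveI : Nonempty ι := Fintype.card_pos_iff.1 hp.pos
  set P := ⁅N, N⁆ with hP
  have hPN : P ≤ N := by
    rw [hP, Subgroup.commutator_le]
    intro a ha b hb
    rw [commutatorElement_def]
    exact mul_mem (mul_mem (mul_mem ha hb) (inv_mem ha)) (inv_mem hb)
  have hPn : Normalizes H P := by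
    intro h hh x hx
    have : P ≤ (P.comap (MulAut.conj h).toMonoidHom) := by
      rw [hP, Subgroup.commutator_le]
      intro a ha b hb
      show (MulAut.conj h) ⁅a, b⁆ ∈ P
      rw [map_commutatorElement]
      exact Subgroup.commutator_mem_commutator (hn h hh a ha) (hn h hh b hb)
    exact this hx
  have hPZ : P ⊔ Z = N :=
    (hmin P hPN hPn).resolve_left fun h => hD (le_trans h hZs)
  have hperf : ⁅P, P⁆ = P := by
    refine le_antisymm ?_ ?_
    · exact Subgroup.commutator_mono hPN hPN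
    · exact commutator_le_of_le_sup hZs hPZ.ge hPZ.ge
  have hPabs : Cfsg.Geo.ActsAbsolutelyIrreducibly (Cfsg.Geo.matrixSet P) := by
    refine ⟨actsIrreducibly_iff.2 fun W hW => (actsIrreducibly_iff.1 habs.1) W ?_,
      fun M hM => habs.2 M ?_⟩
    · refine hPZ.ge.trans (sup_le hW fun s hs => ?_)
      obtain ⟨d, hd⟩ := (Cfsg.Geo.mem_scalars_iff s).1 (hZs hs)
      rw [mem_subspaceStabilizer_iff]
      intro w hw
      rw [show mat s = (d : F) • 1 from hd, Matrix.smul_mulVec, Matrix.one_mulVec]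
      exact W.smul_mem _ hw
    · rw [forall_matrixSet]
      intro x hx
      rw [← hPZ] at hx
      obtain ⟨y, hy, s, hs, rfl⟩ := Subgroup.mem_sup_of_normal_right.1
        ((sup_le_sup_left hZs P) hx)
      obtain ⟨d, hd⟩ := (Cfsg.Geo.mem_scalars_iff s).1 hs
      simp only [mat, Units.val_mul]
      rw [hd, Matrix.mul_smul, mul_one, Matrix.mul_smul, Matrix.smul_mul,
        (forall_matrixSet.1 hM) y hy]
  -- normal subgroups of `N` above `Z` are trivial
  have hnormal : ∀ M, Z ≤ M → M ≤ N → Normalizes N M → M = Z ∨ M = N := by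
    intro M₀ hM₀Z hM₀N hM₀n
    by_contra hne
    rw [not_or] at hne
    let S : Set (Subgroup (GL ι F)) := {M | Z < M ∧ M ≤ N ∧ Normalizes N M}
    obtain ⟨M, ⟨hZM, hMN, hMn⟩, hMmin⟩ := (wellFounded_lt (α := Subgroup (GL ι F))).has_min S
      ⟨M₀, lt_of_le_of_ne hM₀Z (Ne.symm hne.1), hM₀N, hM₀n⟩
    have hMlt : M ≠ N := by
      intro h
      exact hMmin M₀ ⟨lt_of_le_of_ne hM₀Z (Ne.symm hne.1), hM₀N, hM₀n⟩
        (h ▸ lt_of_le_of_ne hM₀N hne.2)
    -- a normal subgroup of `N` inside `M` is central or everything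
    have hsub : ∀ L ≤ M, Normalizes N L → L ≤ Z ∨ L ⊔ Z = M := by
      intro L hL hLn
      by_cases h : L ≤ Z
      · exact Or.inl h
      · refine Or.inr ?_
        have hle : L ⊔ Z ≤ M := sup_le hL hZM.le
        by_contra hne'
        refine hMmin (L ⊔ Z) ⟨?_, hle.trans hMN, ?_⟩ (lt_of_le_of_ne hle hne')
        · exact lt_of_le_of_ne le_sup_right fun he => h (he ▸ le_sup_left)
        · intro g hg x hx
          obtain ⟨a, ha, s, hs, rfl⟩ := Subgroup.mem_sup_of_normal_right.1
            ((sup_le_sup_left hZs L) hx)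
          have hsZ : s ∈ Z := by
            refine hZ s ?_ hs
            have h1 : a * s ∈ N := hMN (hle hx)
            simpa using mul_mem (inv_mem (hMN (hL ha))) h1
          rw [conj_mul_scalar hs]
          exact mul_mem (Subgroup.mem_sup_left (hLn g hg a ha)) (Subgroup.mem_sup_right hsZ)
    -- conjugates of `M` under `H`
    let c : H → Subgroup (GL ι F) := fun h => M.map (MulAut.conj h.1).toMonoidHom
    have hcN : ∀ h, c h ≤ N := by
      rintro h _ ⟨x, hx, rfl⟩
      exact hn h.1 h.2 x (hMN hx)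
    have hcn : ∀ h, Normalizes N (c h) := by
      rintro h g hg _ ⟨x, hx, rfl⟩
      refine ⟨(h.1⁻¹ * g * h.1) * x * (h.1⁻¹ * g * h.1)⁻¹, hMn _ (hn.conj_inv h.2 hg) x hx, ?_⟩
      simp [mul_assoc]
    have hcgen : (⨆ h, c h) ⊔ Z = N := by
      refine (hmin _ (iSup_le hcN) fun g hg x hx => ?_).resolve_left fun h => ?_
      · have : (⨆ h, c h) ≤ (⨆ h, c h).comap (MulAut.conj g).toMonoidHom := by
          refine iSup_le fun h => ?_
          rintro _ ⟨y, hy, rfl⟩
          refine (le_iSup c ⟨g * h.1, H.mul_mem hg h.2⟩) ⟨y, hy, ?_⟩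
          simp [mul_assoc]
        exact this hx
      · refine hZM.not_ge (le_trans ?_ h)
        refine le_trans (le_of_eq ?_) (le_iSup c 1)
        ext x
        simp [c]
    -- `[M, M]` is scalar
    have hMM : ⁅M, M⁆ ≤ Z := by
      by_contra hMM
      have hMMn : Normalizes N ⁅M, M⁆ := by
        intro g hg x hx
        have : ⁅M, M⁆ ≤ ⁅M, M⁆.comap (MulAut.conj g).toMonoidHom := by
          rw [Subgroup.commutator_le]
          intro a ha b hb
          show (MulAut.conj g) ⁅a, b⁆ ∈ ⁅M, M⁆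
          rw [map_commutatorElement]
          exact Subgroup.commutator_mem_commutator (hMn g hg a ha) (hMn g hg b hb)
        exact this hx
      have hMMle : ⁅M, M⁆ ≤ M := by
        rw [Subgroup.commutator_le]
        intro a ha b hb
        rw [commutatorElement_def]
        exact mul_mem (mul_mem (mul_mem ha hb) (inv_mem ha)) (inv_mem hb)
      have hsup : ⁅M, M⁆ ⊔ Z = M := (hsub _ hMMle hMMn).resolve_left hMM
      have hnc : ¬ ∀ x ∈ M, ∀ y ∈ M, x * y = y * x := by
        intro hcomm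
        apply hMM
        rw [Subgroup.commutator_le]
        intro a ha b hb
        rw [commutatorElement_eq_one_iff_mul_comm.2 (hcomm a ha b hb)]
        exact one_mem Z
      have hMabs : Cfsg.Geo.ActsAbsolutelyIrreducibly (Cfsg.Geo.matrixSet M) := by
        rcases clifford_prime hp habs.1 hMn with h1 | h1 | h1
        · refine (irred_field_or_absIrred hp h1).resolve_left fun hK => hnc fun x hx y hy => ?_
          refine Units.ext ?_
          rw [Units.val_mul, Units.val_mul]
          refine commutative_of_field hK (fun k hk => ?_) (fun k hk => ?_)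
          · exact (mem_commutant.1 hk _ (mem_matrixSet hx))
          · exact (mem_commutant.1 hk _ (mem_matrixSet hy))
        · exact absurd (fun x hx y hy => scalars_comm (h1 hx)) hnc
        · exact absurd h1.1 hnc
      -- every conjugate equals `M`
      have hall : ∀ h, c h ≤ M := by
        intro h
        have hint : Normalizes N (c h ⊓ M) := fun g hg x hx => ⟨hcn h g hg x hx.1, hMn g hg x hx.2⟩
        rcases hsub (c h ⊓ M) inf_le_right hint with hint' | hint'
        · exfalso
          apply hZM.not_ge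
          intro x hx
          have hsc : ∀ y ∈ c h, y ∈ Cfsg.Geo.scalars ι F := by
            intro y hy
            refine mem_scalars_of_commute hMabs fun z hz => ?_
            rw [← hsup] at hz
            obtain ⟨w, hw, s, hs, rfl⟩ := Subgroup.mem_sup_of_normal_right.1
              ((sup_le_sup_left hZs _) hz)
            have hyw := commute_commutator (Q := M) (g := y) (fun a ha => hZs (hint' (Subgroup.mem_inf.2 ⟨?_, ?_⟩))) w hw
            · rw [← mul_assoc, hyw, mul_assoc, ← scalars_comm hs (g := y), ← mul_assoc]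
            · rw [show y * a * y⁻¹ * a⁻¹ = y * (a * y⁻¹ * a⁻¹) by group]
              exact mul_mem hy (hcn h a (hMN ha) _ (inv_mem hy))
            · exact mul_mem (hMn y (hcN h hy) a ha) (inv_mem ha)
          have h1 := hsc _ ⟨x, hx, rfl⟩
          obtain ⟨d, hd⟩ := (Cfsg.Geo.mem_scalars_iff _).1 h1
          refine hZ x (hMN hx) ((Cfsg.Geo.mem_scalars_iff x).2 ⟨d, ?_⟩)
          have e : x = h.1⁻¹ * (MulAut.conj h.1).toMonoidHom x * h.1 := by simp [mul_assoc]
          show mat x = _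
          rw [e]
          simp only [mat, Units.val_mul]
          rw [hd, Matrix.mul_smul, mul_one, Matrix.smul_mul, Units.inv_mul]
        · have h1 : M ≤ c h ⊔ Z := hint'.ge.trans (sup_le_sup_right inf_le_left Z)
          have hZc : Z ≤ c h := fun s hs => ⟨s, hZM.le hs, by
            show h.1 * s * h.1⁻¹ = s
            rw [← scalars_comm (hZs hs) (g := h.1), mul_inv_cancel_right]⟩
          have hMc : M ≤ c h := h1.trans (sup_le le_rfl hZc)
          have hcard : Nat.card (c h) = Nat.card M :=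
            Nat.card_congr (M.equivMapOfInjective _ (MulAut.conj h.1).injective).toEquiv.symm
          exact (Subgroup.eq_of_le_of_card_ge hMc hcard.le).ge
      refine hMlt (le_antisymm hMN ?_)
      rw [← hcgen]
      exact sup_le (iSup_le hall) hZM.le
    -- hence `M` commutes modulo scalars with `N`
    have hMc : ∀ h, ∀ x ∈ M, ∀ y ∈ c h, x * y * x⁻¹ * y⁻¹ ∈ Z := by
      intro h x hx y hy
      have hint : Normalizes N (c h ⊓ M) := fun g hg z hz => ⟨hcn h g hg z hz.1, hMn g hg z hz.2⟩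
      rcases hsub (c h ⊓ M) inf_le_right hint with hint' | hint'
      · refine hint' (Subgroup.mem_inf.2 ⟨mul_mem (hcn h x (hMN hx) y hy) (inv_mem hy), ?_⟩)
        rw [show x * y * x⁻¹ * y⁻¹ = x * (y * x⁻¹ * y⁻¹) by group]
        exact mul_mem hx (hMn y (hcN h hy) _ (inv_mem hx))
      · have h1 : M ≤ c h ⊔ Z := hint'.ge.trans (sup_le_sup_right inf_le_left Z)
        have hZc : Z ≤ c h := fun s hs => ⟨s, hZM.le hs, by
          show h.1 * s * h.1⁻¹ = s
          rw [← scalars_comm (hZs hs) (g := h.1), mul_inv_cancel_right]⟩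
        have hMc : M ≤ c h := h1.trans (sup_le le_rfl hZc)
        have hcard : Nat.card (c h) = Nat.card M :=
          Nat.card_congr (M.equivMapOfInjective _ (MulAut.conj h.1).injective).toEquiv.symm
        have heq := Subgroup.eq_of_le_of_card_ge hMc hcard.le
        rw [← heq] at hy
        rw [← commutatorElement_def]
        exact hMM (Subgroup.commutator_mem_commutator hx hy)
    have hMscal : M ≤ Z := by
      intro x hx
      refine hZ x (hMN hx) (mem_scalars_of_commute hPabs fun y hy => ?_)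
      rw [← hperf] at hy
      refine commute_commutator (fun z hz => ?_) y hy
      have hz' : z ∈ N := hPN hz
      let C : Subgroup (GL ι F) :=
        { carrier := {z | z ∈ N ∧ x * z * x⁻¹ * z⁻¹ ∈ Cfsg.Geo.scalars ι F}
          one_mem' := ⟨one_mem N, by simp⟩
          mul_mem' := fun {a b} ha hb => ⟨mul_mem ha.1 hb.1, by
            have e : x * (a * b) * x⁻¹ * (a * b)⁻¹ =
                (x * a * x⁻¹ * a⁻¹) * (a * (x * b * x⁻¹ * b⁻¹) * a⁻¹) := by group
            rw [e]
            exact mul_mem ha.2 (Cfsg.Geo.scalars_normal.conj_mem _ hb.2 a)⟩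
          inv_mem' := fun {a} ha => ⟨inv_mem ha.1, by
            have e : x * a⁻¹ * x⁻¹ * a⁻¹⁻¹ = a⁻¹ * (x * a * x⁻¹ * a⁻¹)⁻¹ * a⁻¹⁻¹ := by
              group
            rw [e]
            exact Cfsg.Geo.scalars_normal.conj_mem _ (inv_mem ha.2) a⁻¹⟩ }
      have hle : N ≤ C := by
        conv_lhs => rw [← hcgen]
        refine sup_le (iSup_le fun h y hy => ⟨hcN h hy, hZs (hMc h x hx y hy)⟩) fun s hs =>
          ⟨hZN hs, ?_⟩
        rw [← scalars_comm (hZs hs) (g := x), mul_inv_cancel_right, mul_inv_cancel]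
        exact one_mem _
      exact (hle hz').2
    exact hZM.not_ge hMscal
  refine ⟨hPN.trans hNH, hPn, hperf, ?_, ?_, fun h _ hc => ?_, hPabs⟩
  · haveI : Nontrivial (P ⧸ (Cfsg.Geo.scalars ι F).subgroupOf P) := by
      rw [QuotientGroup.nontrivial_iff, Ne, Subgroup.subgroupOf_eq_top]
      exact hD
    refine ⟨fun K hK => ?_⟩
    let K₀ : Subgroup P := K.comap (QuotientGroup.mk' _)
    have hK₀n : K₀.Normal := hK.comap _
    let M : Subgroup (GL ι F) := K₀.map P.subtype ⊔ Z
    have hMN : M ≤ N := sup_le (fun _ ⟨k, _, hk⟩ => hk ▸ hPN k.2) hZN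
    have hMn : Normalizes N M := by
      intro g hg x hx
      obtain ⟨_, ⟨k, hk, rfl⟩, s, hs, rfl⟩ := Subgroup.mem_sup_of_normal_right.1
        ((sup_le_sup_left hZs _) hx)
      rw [← hPZ] at hg
      obtain ⟨p, hp', t, ht, rfl⟩ := Subgroup.mem_sup_of_normal_right.1
        ((sup_le_sup_left hZs P) hg)
      have e : p * t * (P.subtype k * s) * (p * t)⁻¹ = p * P.subtype k * p⁻¹ * s := by
        rw [← conj_mul_scalar hs, _root_.mul_inv_rev]
        calc p * t * (P.subtype k * s) * (t⁻¹ * p⁻¹)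
            = p * (t * (P.subtype k * s) * t⁻¹) * p⁻¹ := by simp only [mul_assoc]
          _ = p * (P.subtype k * s) * p⁻¹ := by
            rw [scalars_comm ht (g := P.subtype k * s), mul_inv_cancel_right]
      rw [e]
      refine mul_mem (Subgroup.mem_sup_left ⟨⟨p, hp'⟩ * k * ⟨p, hp'⟩⁻¹, hK₀n.conj_mem k hk _, ?_⟩)
        ?_
      · simp
      · refine Subgroup.mem_sup_right (hZ s ?_ hs)
        simpa using mul_mem (inv_mem (hPN k.2)) (hMN hx)
    rcases hnormal M le_sup_right hMN hMn with hM | hM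
    · left
      rw [eq_bot_iff]
      intro q hq
      obtain ⟨p, rfl⟩ := QuotientGroup.mk'_surjective _ q
      rw [Subgroup.mem_bot, QuotientGroup.mk'_apply, QuotientGroup.eq_one_iff, Subgroup.mem_subgroupOf]
      exact hZs (hM ▸ (Subgroup.mem_sup_left ⟨p, hq, rfl⟩ : (p : GL ι F) ∈ M))
    · right
      rw [eq_top_iff]
      intro q _
      obtain ⟨p, rfl⟩ := QuotientGroup.mk'_surjective _ q
      have h1 : P ≤ ⁅K₀.map P.subtype, K₀.map P.subtype⁆ :=
        commutator_le_of_le_sup hZs hM.ge hM.ge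
      have h2 : ⁅K₀.map P.subtype, K₀.map P.subtype⁆ ≤ K₀.map P.subtype := by
        rw [Subgroup.commutator_le]
        intro a ha b hb
        rw [commutatorElement_def]
        exact mul_mem (mul_mem (mul_mem ha hb) (inv_mem ha)) (inv_mem hb)
      obtain ⟨k, hk, hkp⟩ := h2 (h1 p.2)
      exact (Subtype.ext hkp : k = p) ▸ hk
  · intro hab
    apply hD
    intro x hx
    have hsc : ⁅P, P⁆ ≤ Cfsg.Geo.scalars ι F := by
      rw [Subgroup.commutator_le]
      intro a ha b hb
      have h1 : ((⁅(⟨a, ha⟩ : P), (⟨b, hb⟩ : P)⁆ : P) : P ⧸ (Cfsg.Geo.scalars ι F).subgroupOf P) = 1 := by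
        rw [← QuotientGroup.mk'_apply, map_commutatorElement]
        exact commutatorElement_eq_one_iff_mul_comm.2 (hab.is_comm.comm _ _)
      rw [QuotientGroup.eq_one_iff, Subgroup.mem_subgroupOf] at h1
      exact h1
    exact hsc (hperf.symm ▸ hx)
  · refine mem_scalars_of_commute hPabs fun x hx => ?_
    rw [← hperf] at hx
    exact commute_commutator hc x hx

/-- Aschbacher's reduction in odd prime dimension. -/
theorem aschbacher_prime [Fintype F] (hp : (Fintype.card ι).Prime) (h3 : 3 ≤ Fintype.card ι)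
    {H : Subgroup (GL ι F)} (hH : H ≤ Cfsg.Geo.specialLinear ι F)
    (hirr : Cfsg.Geo.ActsIrreducibly (Cfsg.Geo.matrixSet H)) :
    (∃ N ≤ H, ∃ χ : Fin (Fintype.card ι) → N → F, Normalizes H N ∧ Function.Injective χ ∧
      Cfsg.Geo.IsMDecomposition 1 (fun i => eigSpace N (χ i)) ∧
      H ≤ Cfsg.Geo.decompositionStabilizer fun i => eigSpace N (χ i)) ∨
    (∃ N ≤ H, Normalizes H N ∧
      Cfsg.Geo.IsFieldSubalgebra (Fintype.card ι) (commutant (Cfsg.Geo.matrixSet N)) ∧
      H ≤ Cfsg.Geo.subalgebraNormalizer (commutant (Cfsg.Geo.matrixSet N))) ∨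
    (∃ (R : Subgroup (GL ι F)) (ω : F), IsHeisenberg (Fintype.card ι) R ω ∧ Normalizes H R ∧
      R ≤ H ⊔ Cfsg.Geo.scalars ι F) ∨
    (∃ P, IsSimpleCore H P) := by
  classical
  haveI : Nonempty ι := Fintype.card_pos_iff.1 hp.pos
  have hHH : Normalizes H H := fun h hh x hx => mul_mem (mul_mem hh hx) (inv_mem hh)
  rcases irred_field_or_absIrred hp hirr with hK | habsH
  · exact Or.inr (Or.inl ⟨H, le_rfl, hHH, hK, commutant_normalized hHH⟩)
  let Z := H ⊓ Cfsg.Geo.scalars ι F
  have hHZ : ¬ H ≤ Cfsg.Geo.scalars ι F := by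
    intro h
    obtain ⟨i, j, hij⟩ := Fintype.exists_pair_of_one_lt_card (α := ι) (by omega)
    obtain ⟨c, hc⟩ := commute_of_absIrred habsH (M := Matrix.single i j (1 : F)) fun x hx => by
      obtain ⟨d, hd⟩ := (Cfsg.Geo.mem_scalars_iff x).1 (h hx)
      rw [show mat x = (d : F) • 1 from hd, Matrix.smul_mul, Matrix.mul_smul, one_mul, mul_one]
    have h1 := congrFun (congrFun hc i) j
    simp [hij] at h1
  let S : Set (Subgroup (GL ι F)) := {N | Z < N ∧ N ≤ H ∧ Normalizes H N}
  obtain ⟨N, ⟨hZN, hNH, hn⟩, hNmin⟩ := (wellFounded_lt (α := Subgroup (GL ι F))).has_min S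
    ⟨H, lt_of_le_of_ne inf_le_left fun h => hHZ (h ▸ inf_le_right), le_rfl, hHH⟩
  have hZ : ∀ x ∈ N, x ∈ Cfsg.Geo.scalars ι F → x ∈ Z := fun x hx hs => ⟨hNH hx, hs⟩
  have hNs : ¬ N ≤ Cfsg.Geo.scalars ι F := fun h =>
    hZN.not_ge fun x hx => hZ x hx (h hx)
  have hmin : ∀ M ≤ N, Normalizes H M → M ≤ Z ∨ M ⊔ Z = N := by
    intro M hM hMn
    by_cases h : M ≤ Z
    · exact Or.inl h
    refine Or.inr (by_contra fun hne => ?_)
    have hle : M ⊔ Z ≤ N := sup_le hM hZN.le
    refine hNmin (M ⊔ Z) ⟨lt_of_le_of_ne le_sup_right fun he => h (he ▸ le_sup_left),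
      hle.trans hNH, ?_⟩ (lt_of_le_of_ne hle hne)
    intro g hg x hx
    obtain ⟨a, ha, s, hs, rfl⟩ := Subgroup.mem_sup_of_normal_right.1
      ((sup_le_sup_left (inf_le_right : Z ≤ _) M) hx)
    have hsZ : s ∈ Z := by
      refine hZ s ?_ hs
      simpa using mul_mem (inv_mem (hM ha)) (hle hx)
    rw [conj_mul_scalar hs]
    exact mul_mem (Subgroup.mem_sup_left (hMn g hg a ha)) (Subgroup.mem_sup_right hsZ)
  rcases clifford_prime hp hirr hn with h1 | h1 | ⟨-, χ, hχ, hD, hst⟩
  · rcases irred_field_or_absIrred hp h1 with hK | habs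
    · exact Or.inr (Or.inl ⟨N, hNH, hn, hK, commutant_normalized hn⟩)
    · by_cases hD : ⁅N, N⁆ ≤ Cfsg.Geo.scalars ι F
      · refine Or.inr (Or.inr (Or.inl ((exists_symplecticType hp h3 hn habs (hNH.trans hH) hD ?_).imp
          fun R ⟨ω, hω, hRn, hRN⟩ => ⟨ω, hω, hRn, hRN.trans (sup_le_sup_right hNH _)⟩)))
        intro M hM hMn hMc
        rcases hmin M hM hMn with h | h
        · exact h.trans inf_le_right
        · exfalso
          apply hNs
          intro x hx
          refine mem_scalars_of_commute habs fun y hy => ?_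
          rw [← h] at hx hy
          obtain ⟨a, ha, s, hs, rfl⟩ := Subgroup.mem_sup_of_normal_right.1
            ((sup_le_sup_left (inf_le_right : Z ≤ _) M) hx)
          obtain ⟨b, hb, t, ht, rfl⟩ := Subgroup.mem_sup_of_normal_right.1
            ((sup_le_sup_left (inf_le_right : Z ≤ _) M) hy)
          calc a * s * (b * t) = a * b * (s * t) := by
                rw [mul_assoc a, ← mul_assoc s, scalars_comm hs (g := b)]; simp only [mul_assoc]
            _ = b * a * (t * s) := by rw [hMc a ha b hb, scalars_comm hs (g := t)]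
            _ = b * t * (a * s) := by
                rw [mul_assoc b t, ← mul_assoc t, scalars_comm ht (g := a)]; simp only [mul_assoc]
      · exact Or.inr (Or.inr (Or.inr
          ⟨_, exists_simpleCore hp inf_le_right hNH hn hZN.le hZ hmin habs hD⟩))
  · exact absurd h1 hNs
  · exact Or.inl ⟨N, hNH, χ, hn, hχ, hD, hst⟩

end CfsgLib.Aschbacher
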