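import Cfsg.Agent.Aschbacher.Subfield

/-!
Class 8: a group normalising an absolutely irreducible group of isometries of a form consists of similarities.
-/

set_option autoImplicit false

namespace CfsgLib.Aschbacher

open Matrix

variable {ι : Type} [Fintype ι] [DecidableEq ι] {F : Type*} [Field F]

/-- A form that is linear on the left and semilinear on the right. -/
structure IsSesq (σ : F ≃+* F) (f : (ι → F) → (ι → F) → F) : Prop where
  add_left : ∀ x y v, f (x + y) v = f x v + f y v
  smul_left : ∀ (c : F) (x v : ι → F), f (c • x) v = c * f x v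
  add_right : ∀ v x y, f v (x + y) = f v x + f v y
  smul_right : ∀ (c : F) (v x : ι → F), f v (c • x) = σ c * f v x

theorem isSesq_of_bilinear {f : (ι → F) → (ι → F) → F} (h : Cfsg.Geo.IsBilinearForm f) :
    IsSesq (RingEquiv.refl F) f :=
  ⟨h.add_left, h.smul_left, h.add_right, h.smul_right⟩

theorem isSesq_of_unitary {σ : F ≃+* F} {f : (ι → F) → (ι → F) → F}
    (h : Cfsg.Geo.IsUnitaryForm σ f) : IsSesq σ f :=
  ⟨h.add_left, h.smul_left, fun v x y => by rw [h.herm, h.add_left, map_add, ← h.herm, ← h.herm],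
    fun c v x => by rw [h.herm, h.smul_left, map_mul, ← h.herm]⟩

theorem IsSesq.zero_left {σ : F ≃+* F} {f : (ι → F) → (ι → F) → F} (h : IsSesq σ f) (v : ι → F) :
    f 0 v = 0 := by
  simpa using h.smul_left 0 0 v

theorem IsSesq.zero_right {σ : F ≃+* F} {f : (ι → F) → (ι → F) → F} (h : IsSesq σ f) (v : ι → F) :
    f v 0 = 0 := by
  simpa using h.smul_right 0 v 0

theorem IsSesq.sum_left {σ : F ≃+* F} {f : (ι → F) → (ι → F) → F} (h : IsSesq σ f) {κ : Type*}
    (s : Finset κ) (g : κ → ι → F) (v : ι → F) : f (∑ i ∈ s, g i) v = ∑ i ∈ s, f (g i) v := by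
  classical
  induction s using Finset.induction_on with
  | empty => simp [h.zero_left]
  | insert a s ha ih => rw [Finset.sum_insert ha, Finset.sum_insert ha, h.add_left, ih]

theorem IsSesq.sum_right {σ : F ≃+* F} {f : (ι → F) → (ι → F) → F} (h : IsSesq σ f) {κ : Type*}
    (s : Finset κ) (g : κ → ι → F) (v : ι → F) : f v (∑ i ∈ s, g i) = ∑ i ∈ s, f v (g i) := by
  classical
  induction s using Finset.induction_on with
  | empty => simp [h.zero_right]
  | insert a s ha ih => rw [Finset.sum_insert ha, Finset.sum_insert ha, h.add_right, ih]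

theorem IsSesq.gram_eq {σ : F ≃+* F} {f : (ι → F) → (ι → F) → F} (h : IsSesq σ f) (u v : ι → F) :
    f u v = u ⬝ᵥ (Cfsg.Geo.gramMatrix f *ᵥ fun i => σ (v i)) := by
  conv_lhs => rw [pi_eq_sum_univ' u, pi_eq_sum_univ' v]
  rw [h.sum_left]
  refine Finset.sum_congr rfl fun i _ => ?_
  rw [h.smul_left, h.sum_right]
  congr 1
  refine Finset.sum_congr rfl fun j _ => ?_
  rw [h.smul_right]
  exact mul_comm _ _

theorem gram_isUnit {σ : F ≃+* F} {f : (ι → F) → (ι → F) → F} (h : IsSesq σ f)
    (hnd : Cfsg.Geo.IsNondegenerateForm f) : IsUnit (Cfsg.Geo.gramMatrix f) := by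
  rw [← Matrix.mulVec_injective_iff_isUnit]
  intro a b hab
  by_contra hne
  have hd : (fun i => σ.symm ((a - b) i)) ≠ 0 := fun h0 => hne <| sub_eq_zero.1 <| funext fun i =>
    σ.symm.injective (by
      have h1 := congrFun h0 i
      simp only [Pi.zero_apply] at h1 ⊢
      rw [h1, map_zero])
  obtain ⟨x, hx⟩ := (hnd _ hd).1
  apply hx
  rw [h.gram_eq]
  simp only [RingEquiv.apply_symm_apply]
  have : (fun i => (a - b) i) = a - b := rfl
  rw [this, Matrix.mulVec_sub, hab, sub_self, dotProduct_zero]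

theorem IsSesq.gram_transform {σ : F ≃+* F} {f : (ι → F) → (ι → F) → F} (h : IsSesq σ f)
    (g : Matrix ι ι F) (u v : ι → F) :
    f (g *ᵥ u) (g *ᵥ v) =
      u ⬝ᵥ ((gᵀ * Cfsg.Geo.gramMatrix f * g.map σ) *ᵥ fun i => σ (v i)) := by
  rw [h.gram_eq]
  have hσ : (fun i => σ ((g *ᵥ v) i)) = g.map σ *ᵥ fun i => σ (v i) := by
    funext i
    simp [Matrix.mulVec, dotProduct, map_sum, map_mul]
  rw [hσ, ← Matrix.mulVec_mulVec, ← Matrix.mulVec_mulVec, dotProduct_mulVec u gᵀ,
    Matrix.vecMul_transpose]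

theorem IsSesq.gram_of_eq {σ : F ≃+* F} {f : (ι → F) → (ι → F) → F} (h : IsSesq σ f)
    {g : Matrix ι ι F} {c : F} (hg : ∀ u v, f (g *ᵥ u) (g *ᵥ v) = c * f u v) :
    gᵀ * Cfsg.Geo.gramMatrix f * g.map σ = c • Cfsg.Geo.gramMatrix f := by
  ext i j
  have h1 := hg (Pi.single i 1) (Pi.single j 1)
  rw [h.gram_transform] at h1
  have hs : (fun k => σ ((Pi.single j (1 : F) : ι → F) k)) = Pi.single j 1 := by
    funext k
    by_cases hk : k = j <;> simp [hk]
  rw [hs, Matrix.mulVec_single_one, single_dotProduct, one_mul] at h1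
  exact h1

theorem map_mat_mul (σ : F ≃+* F) (a b : Matrix ι ι F) :
    (a * b).map σ = a.map σ * b.map σ :=
  Matrix.map_mul (f := σ.toRingHom)

/-- A group normalising an absolutely irreducible group of isometries of a non-degenerate sesquilinear
form consists of similarities. -/
theorem normalizer_le_similarityGroup {σ : F ≃+* F} {f : (ι → F) → (ι → F) → F} (hf : IsSesq σ f)
    (hnd : Cfsg.Geo.IsNondegenerateForm f) {H R : Subgroup (GL ι F)} [Nonempty ι]
    (hR : Cfsg.Geo.ActsAbsolutelyIrreducibly (Cfsg.Geo.matrixSet R))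
    (hfix : Cfsg.Geo.FixesForm (Cfsg.Geo.matrixSet R) f) (hn : Normalizes H R) :
    H ≤ Cfsg.Geo.similarityGroup f := by
  intro h hh
  set G := Cfsg.Geo.gramMatrix f with hG
  have hGu : IsUnit G := gram_isUnit hf hnd
  obtain ⟨Gh, hGh⟩ : ∃ Gh, Gh = (mat h)ᵀ * G * (mat h).map σ := ⟨_, rfl⟩
  have hfix' : ∀ x ∈ R, (mat x)ᵀ * G * (mat x).map σ = G := fun x hx => by
    rw [hf.gram_of_eq (c := 1) fun u v => by rw [one_mul]; exact hfix _ (mem_matrixSet hx) u v,
      one_smul]
  have hfixh : ∀ x ∈ R, (mat x)ᵀ * Gh * (mat x).map σ = Gh := fun x hx => by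
    have h1 := hfix' _ (hn h hh x hx)
    have e : mat h * mat x = mat (h * x * h⁻¹) * mat h := by
      simp only [mat, ← Units.val_mul]; congr 1; group
    calc (mat x)ᵀ * Gh * (mat x).map σ
        = (mat h * mat x)ᵀ * G * (mat h * mat x).map σ := by
          rw [hGh, Matrix.transpose_mul, map_mat_mul]; simp only [mul_assoc]
      _ = (mat h)ᵀ * ((mat (h * x * h⁻¹))ᵀ * G * (mat (h * x * h⁻¹)).map σ) * (mat h).map σ := by
          rw [e, Matrix.transpose_mul, map_mat_mul]; simp only [mul_assoc]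
      _ = Gh := by rw [h1, hGh]
  set M := (↑hGu.unit⁻¹ : Matrix ι ι F) * Gh with hM
  have hMc : ∀ x ∈ R, M * (mat x).map σ = (mat x).map σ * M := by
    intro x hx
    have hinv : (mat x).map σ * (mat x⁻¹).map σ = 1 := by
      rw [← map_mat_mul, mat_mul_inv, Matrix.map_one _ (map_zero σ) (map_one σ)]
    have hG' : G * (↑hGu.unit⁻¹ : Matrix ι ι F) = 1 := IsUnit.mul_val_inv hGu
    have hG'' : (↑hGu.unit⁻¹ : Matrix ι ι F) * G = 1 := IsUnit.val_inv_mul hGu
    have a1 : (mat x)ᵀ * G = G * (mat x⁻¹).map σ := by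
      calc (mat x)ᵀ * G = (mat x)ᵀ * G * ((mat x).map σ * (mat x⁻¹).map σ) := by
            rw [hinv, mul_one]
        _ = G * (mat x⁻¹).map σ := by rw [← mul_assoc, hfix' x hx]
    have a2 : G * (mat x⁻¹).map σ * M = Gh * (mat x⁻¹).map σ := by
      calc G * (mat x⁻¹).map σ * M = (mat x)ᵀ * (G * M) := by rw [← a1, mul_assoc]
        _ = (mat x)ᵀ * Gh := by rw [hM, ← mul_assoc G, hG', one_mul]
        _ = (mat x)ᵀ * Gh * ((mat x).map σ * (mat x⁻¹).map σ) := by rw [hinv, mul_one]
        _ = Gh * (mat x⁻¹).map σ := by rw [← mul_assoc, hfixh x hx]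
    have a3 : (mat x⁻¹).map σ * M = M * (mat x⁻¹).map σ := by
      calc (mat x⁻¹).map σ * M
          = (↑hGu.unit⁻¹ : Matrix ι ι F) * (G * (mat x⁻¹).map σ * M) := by
            rw [mul_assoc G, ← mul_assoc _ G, hG'', one_mul]
        _ = M * (mat x⁻¹).map σ := by rw [a2, hM, mul_assoc]
    have hinv' : (mat x⁻¹).map σ * (mat x).map σ = 1 := by
      rw [← map_mat_mul, mat_inv_mul, Matrix.map_one _ (map_zero σ) (map_one σ)]
    calc M * (mat x).map σ = (mat x).map σ * ((mat x⁻¹).map σ * M) * (mat x).map σ := by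
          rw [← mul_assoc, hinv, one_mul]
      _ = (mat x).map σ * M := by rw [a3, mul_assoc, mul_assoc, hinv', mul_one]
  obtain ⟨c, hc⟩ := commute_of_absIrred hR (M := M.map σ.symm) fun x hx => by
    have h1 := congrArg (fun N : Matrix ι ι F => N.map σ.symm) (hMc x hx)
    simp only [map_mat_mul] at h1
    have e : ((mat x).map σ).map σ.symm = mat x := by ext i j; simp
    rwa [e] at h1
  have hc' : M = σ c • 1 := by
    have e : (M.map σ.symm).map σ = M := by ext i j; simp
    rw [← e, hc]
    ext i j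
    by_cases hij : i = j <;> simp [hij]
  have hGh' : Gh = σ c • G := by
    have : G * M = Gh := by
      rw [hM, ← mul_assoc, IsUnit.mul_val_inv hGu, one_mul]
    rw [← this, hc', Matrix.mul_smul, mul_one]
  have hhu : IsUnit Gh := by
    rw [hGh]
    refine (IsUnit.mul (IsUnit.mul ?_ hGu) ?_)
    · exact Matrix.isUnit_transpose (mat h) |>.2 h.isUnit
    · exact h.isUnit.map (RingHom.mapMatrix σ.toRingHom)
  have hc0 : σ c ≠ 0 := by
    intro h0
    rw [hGh', h0, zero_smul] at hhu
    exact hhu.ne_zero rfl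
  refine ⟨Units.mk0 _ hc0, fun u v => ?_⟩
  rw [hf.gram_transform, Units.val_mk0, hf.gram_eq u v, ← hG, ← hGh, hGh', Matrix.smul_mulVec,
    dotProduct_smul, smul_eq_mul]

theorem quad_polar_self {Q : (ι → F) → F} (hQ : Cfsg.Geo.IsNondegenerateQuadraticForm Q)
    (v : ι → F) : QuadraticMap.polar Q v v = 2 * Q v := by
  have h : v + v = (2 : F) • v := (two_smul F v).symm
  rw [QuadraticMap.polar, h, hQ.smul]
  ring

/-- The quadratic version of `normalizer_le_similarityGroup`. -/
theorem normalizer_le_quadSimilarityGroup [Finite F] (hn2 : 2 ≤ Fintype.card ι)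
    {Q : (ι → F) → F} (hQ : Cfsg.Geo.IsNondegenerateQuadraticForm Q) {H R : Subgroup (GL ι F)}
    (hR : Cfsg.Geo.ActsAbsolutelyIrreducibly (Cfsg.Geo.matrixSet R))
    (hfix : Cfsg.Geo.FixesQuadForm (Cfsg.Geo.matrixSet R) Q) (hn : Normalizes H R) :
    H ≤ Cfsg.Geo.quadSimilarityGroup Q := by
  haveI : Nonempty ι := Fintype.card_pos_iff.1 (by omega)
  intro h hh
  have hpol : Cfsg.Geo.FixesForm (Cfsg.Geo.matrixSet R) (QuadraticMap.polar Q) := fun s hs u v => by
    simp only [QuadraticMap.polar, ← Matrix.mulVec_add, hfix s hs]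
  obtain ⟨c, hc⟩ := normalizer_le_similarityGroup (isSesq_of_bilinear hQ.polar_bilinear)
    hQ.nondegenerate hR hpol hn hh
  refine ⟨c, fun v => ?_⟩
  by_cases h2 : (2 : F) = 0
  · haveI : CharP F 2 := CharTwo.of_one_ne_zero_of_two_eq_zero one_ne_zero h2
    let d : (ι → F) → F := fun x => Q (mat h *ᵥ x) - (c : F) * Q x
    have hadd : ∀ x y, d (x + y) = d x + d y := fun x y => by
      have h3 := hc x y
      simp only [QuadraticMap.polar, ← Matrix.mulVec_add] at h3
      simp only [d]
      linear_combination h3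
    have hsm : ∀ (a : F) (x : ι → F), d (a • x) = a ^ 2 * d x := fun a x => by
      simp only [d, Matrix.mulVec_smul, hQ.smul]
      ring
    let K : Submodule F (ι → F) :=
      { carrier := {x | d x = 0}
        add_mem' := fun {x y} hx hy => by
          show d (x + y) = 0
          rw [hadd, hx, hy, add_zero]
        zero_mem' := by
          show d 0 = 0
          simpa using hsm 0 0
        smul_mem' := fun a x hx => by
          show d (a • x) = 0
          rw [hsm, hx, mul_zero] }
    have hinv : R ≤ Cfsg.Geo.subspaceStabilizer K := fun x hx => by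
      rw [mem_subspaceStabilizer_iff]
      intro w hw
      show d (mat x *ᵥ w) = 0
      have e : mat h *ᵥ (mat x *ᵥ w) = mat (h * x * h⁻¹) *ᵥ (mat h *ᵥ w) := by
        rw [Matrix.mulVec_mulVec, Matrix.mulVec_mulVec]
        congr 1
        simp only [mat, ← Units.val_mul]; congr 1; group
      simp only [d, e, hfix _ (mem_matrixSet (hn h hh x hx)), hfix _ (mem_matrixSet hx)]
      exact hw
    rcases (actsIrreducibly_iff.1 hR.1) K hinv with hK | hK
    · exfalso
      obtain ⟨i, j, hij⟩ := Fintype.exists_pair_of_one_lt_card (α := ι) (by omega)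
      let e : ι → ι → F := fun k => Pi.single k 1
      have hzero : ∀ x, d x = 0 → x = 0 := fun x hx => by
        have : x ∈ K := hx
        rwa [hK, Submodule.mem_bot] at this
      have hei : d (e i) ≠ 0 := fun h0 => by
        have := congrFun (hzero _ h0) i
        simp [e] at this
      obtain ⟨s, hs⟩ := FiniteField.isSquare_of_char_two (F := F) (ringChar.eq F 2) (d (e j) / d (e i))
      have hx : d (s • e i + e j) = 0 := by
        rw [hadd, hsm, pow_two, ← hs, div_mul_cancel₀ _ hei]
        exact CharTwo.add_self_eq_zero _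
      have := congrFun (hzero _ hx) j
      simp [e, hij.symm] at this
    · have : v ∈ K := hK ▸ trivial
      exact sub_eq_zero.1 this
  · have h3 := hc v v
    rw [quad_polar_self hQ, quad_polar_self hQ] at h3
    exact mul_left_cancel₀ h2 (by rw [h3]; ring)

theorem no_symplectic_of_odd {f : (ι → F) → (ι → F) → F} (hf : Cfsg.Geo.IsSymplecticForm f)
    (hodd : Odd (Fintype.card ι)) : False := by
  have hsesq := isSesq_of_bilinear hf.bilinear
  have hG := gram_isUnit hsesq hf.nondegenerate
  have hdiag : ∀ i, Cfsg.Geo.gramMatrix f i i = 0 := fun i => hf.alternating _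
  have hskew : ∀ i j, Cfsg.Geo.gramMatrix f i j = - Cfsg.Geo.gramMatrix f j i := fun i j => hf.skew _ _
  exact (Matrix.isUnit_iff_isUnit_det _).1 hG |>.ne_zero (det_alternating_eq_zero hodd hdiag hskew)
where
  det_alternating_eq_zero (hodd : Odd (Fintype.card ι)) {G : Matrix ι ι F}
      (hdiag : ∀ i, G i i = 0) (hskew : ∀ i j, G i j = - G j i) : G.det = 0 := by
    rw [Matrix.det_apply]
    refine Finset.sum_ninvolution (fun σ => σ⁻¹) ?_ ?_ (fun σ => Finset.mem_univ _) inv_inv
    · intro σ
      rw [Equiv.Perm.sign_inv, ← smul_add]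
      have hrw : ∏ i, G (σ⁻¹ i) i = ∏ i, G i (σ i) :=
        Fintype.prod_equiv σ⁻¹ _ _ fun i => by simp
      rw [hrw]
      have hneg : ∏ i, G i (σ i) = - ∏ i, G (σ i) i := by
        calc ∏ i, G i (σ i) = ∏ i, (-1 : F) * G (σ i) i :=
              Finset.prod_congr rfl fun i _ => by rw [hskew, neg_one_mul]
          _ = - ∏ i, G (σ i) i := by
              rw [Finset.prod_mul_distrib, Finset.prod_const, Finset.card_univ,
                Odd.neg_one_pow hodd, neg_one_mul]
      rw [hneg, add_neg_cancel, smul_zero]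
    · intro σ hσ heq
      apply hσ
      rw [smul_eq_zero_iff_eq]
      obtain ⟨i, hi⟩ : ∃ i, σ i = i := by
        by_contra hall
        rw [not_exists] at hall
        have hsupp : σ.support = Finset.univ :=
          Finset.eq_univ_iff_forall.2 fun i => Equiv.Perm.mem_support.2 (hall i)
        have hsq : σ ^ 2 = 1 := by
          rw [pow_two]
          nth_rewrite 1 [← heq]
          exact inv_mul_cancel σ
        have h2 : 2 ∣ Fintype.card ι := by
          have := Equiv.Perm.two_dvd_card_support hsq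
          rwa [hsupp, Finset.card_univ] at this
        exact (Nat.not_even_iff_odd.2 hodd) (even_iff_two_dvd.2 h2)
      exact Finset.prod_eq_zero (Finset.mem_univ i) (by rw [hi, hdiag])

theorem odd_card_of_quadratic [Finite F] {Q : (ι → F) → F}
    (hQ : Cfsg.Geo.IsNondegenerateQuadraticForm Q) (hodd : Odd (Fintype.card ι)) [Fintype F] :
    Odd (Fintype.card F) := by
  rw [Nat.odd_iff]
  refine FiniteField.odd_card_of_char_ne_two fun hchar => ?_
  haveI := ringChar.of_eq hchar
  refine no_symplectic_of_odd (f := QuadraticMap.polar Q) ⟨hQ.polar_bilinear, fun v w => ?_,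
    fun v => ?_, hQ.nondegenerate⟩ hodd
  · rw [CharTwo.neg_eq, QuadraticMap.polar_comm]
  · rw [quad_polar_self hQ, CharTwo.two_eq_zero, zero_mul]

end CfsgLib.Aschbacher
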