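import Cfsg.Agent.MaxSub.LinearStructure

/-!
Maximal subgroups of the special linear group in arbitrary dimension at least three, with the geometric classes
stated as equalities.
-/

set_option autoImplicit false

namespace CfsgLib.Aschbacher

open Matrix CfsgLib.MaxSub CfsgLib.TensorNonmax

variable {ι : Type} [Fintype ι] [DecidableEq ι] {F : Type*} [Field F]

/-- The symplectic type group of an abelian socle, together with the fact that its commutators are scalar. -/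
theorem abelianSocle_cases_comm [Fintype F] {H : Subgroup (GL ι F)} (hn : 3 ≤ Fintype.card ι)
    (h : HasAbelianSocle H) :
    (∃ (F₁ : Subfield F) (s : ℕ) (P : GL ι F), s.Prime ∧ Fintype.card F = Nat.card F₁ ^ s ∧
      H ≤ Cfsg.Geo.subfieldSubgroup F₁ P) ∨
    (∃ (r m : ℕ) (R : Subgroup (GL ι F)), Fintype.card ι = r ^ m ∧ Cfsg.Geo.IsLinearSymplecticTypeData r R ∧
      ⁅R, R⁆ ≤ Cfsg.Geo.scalars ι F ∧ H ≤ Cfsg.Geo.subgroupNormalizer R) ∨
    (∃ (σ : F ≃+* F) (f : (ι → F) → (ι → F) → F), Cfsg.Geo.IsUnitaryForm σ f ∧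
      H ≤ Cfsg.Geo.similarityGroup f) ∨
    (∃ f : (ι → F) → (ι → F) → F, Cfsg.Geo.IsSymplecticForm f ∧ H ≤ Cfsg.Geo.similarityGroup f) ∨
    (Odd (Fintype.card F) ∧ ∃ Q : (ι → F) → F, Cfsg.Geo.IsNondegenerateQuadraticForm Q ∧
      H ≤ Cfsg.Geo.quadSimilarityGroup Q) := by
  classical
  haveI : Nonempty ι := Fintype.card_pos_iff.1 (by omega)
  obtain ⟨E, r, m, hS, hm⟩ := exists_socleData h
  obtain ⟨κ, hκ⟩ := hS.exists_kappa
  obtain ⟨x, hx, y, hy, hxy⟩ := exists_kappa_ne_one hS (by omega) hκ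
  haveI : Fact r.Prime := ⟨hS.prime⟩
  have hord : IsPrimitiveRoot (κ x y) r := by
    rw [← orderOf_eq_prime (kappa_pow_eq_one hS hκ hx hy) hxy]
    exact IsPrimitiveRoot.orderOf _
  -- the socle classes, remembering the origin of the group
  have root : ∀ k ζ, ((r ≠ 2 ∧ k = r) ∨ (r = 2 ∧ k = 4)) → IsPrimitiveRoot (ζ : Fˣ) k →
      (∃ (F₁ : Subfield F) (s : ℕ) (P : GL ι F), s.Prime ∧ Fintype.card F = Nat.card F₁ ^ s ∧
        H ≤ Cfsg.Geo.subfieldSubgroup F₁ P) ∨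
      (∃ (r m : ℕ) (R : Subgroup (GL ι F)), Fintype.card ι = r ^ m ∧ Cfsg.Geo.IsLinearSymplecticTypeData r R ∧
        ⁅R, R⁆ ≤ Cfsg.Geo.scalars ι F ∧ H ≤ Cfsg.Geo.subgroupNormalizer R) ∨
      (∃ (σ : F ≃+* F) (f : (ι → F) → (ι → F) → F), Cfsg.Geo.IsUnitaryForm σ f ∧
        H ≤ Cfsg.Geo.similarityGroup f) := by
    intro k ζ hk hζ
    obtain ⟨R, hR, hRn⟩ := exists_socleCore hS hk fun z hz => exists_scale hS hk hζ hz
    have hcomm : ⁅R, R⁆ ≤ Cfsg.Geo.scalars ι F := Subgroup.commutator_le.2 fun a ha b hb => by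
      rw [commutatorElement_def]; exact hS.comm a (hR.le ha) b (hR.le hb)
    rcases socle_classes_root hS hR hRn hm hn hk hζ with h1 | ⟨h1, h1'⟩ | h1
    · exact Or.inl h1
    · exact Or.inr (Or.inl ⟨r, m, R, hm, h1, hcomm, h1'⟩)
    · exact Or.inr (Or.inr h1)
  by_cases hr2 : r = 2
  swap
  · rcases root r (κ x y) (Or.inl ⟨hr2, rfl⟩) hord with h1 | h1 | h1
    · exact Or.inl h1
    · exact Or.inr (Or.inl h1)
    · exact Or.inr (Or.inr (Or.inl h1))
  subst hr2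
  by_cases hi : IsSquare (-1 : F)
  · obtain ⟨i, hi⟩ := hi
    have hm1 : ((κ x y : Fˣ) : F) = -1 := by
      have h1 : ((κ x y : Fˣ) : F) ^ 2 = 1 := by
        rw [← Units.val_pow_eq_pow_val, kappa_pow_eq_one hS hκ hx hy, Units.val_one]
      exact (sq_eq_one_iff.1 h1).resolve_left fun e => hxy (Units.ext e)
    have hi0 : i ≠ 0 := fun e => by rw [e, mul_zero] at hi; exact neg_ne_zero.2 one_ne_zero hi
    have hsq : (Units.mk0 i hi0) ^ 2 = κ x y := Units.ext (by simp [sq, ← hi, hm1])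
    have hζ : IsPrimitiveRoot (Units.mk0 i hi0) 4 := by
      have h4 : orderOf (Units.mk0 i hi0) = 2 ^ (1 + 1) := by
        refine orderOf_eq_prime_pow ?_ ?_
        · rw [pow_one, hsq]; exact hxy
        · rw [pow_succ, pow_one, pow_mul, hsq, kappa_pow_eq_one hS hκ hx hy]
      have : IsPrimitiveRoot (Units.mk0 i hi0) (2 ^ (1 + 1)) := h4 ▸ IsPrimitiveRoot.orderOf _
      simpa using this
    rcases root 4 _ (Or.inr ⟨rfl, rfl⟩) hζ with h1 | h1 | h1
    · exact Or.inl h1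
    · exact Or.inr (Or.inl h1)
    · exact Or.inr (Or.inr (Or.inl h1))
  · have hscale : ∀ z ∈ E, ∃ β : Fˣ, (scHom ι F β * z) ^ 4 = 1 := by
      intro z hz
      obtain ⟨α, hα⟩ := exists_scHom (hS.pow_mem z hz)
      obtain ⟨s, hs⟩ : ∃ s : F, s * s = (α : F) ∨ s * s = -(α : F) := by
        by_cases hsq : IsSquare (α : F)
        · obtain ⟨s, hs⟩ := hsq; exact ⟨s, Or.inl hs.symm⟩
        · have h2 : ringChar F ≠ 2 := fun hc => hi (FiniteField.isSquare_of_char_two hc _)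
          have : IsSquare (-(α : F)) := by
            rw [← quadraticChar_one_iff_isSquare (neg_ne_zero.2 α.ne_zero), neg_eq_neg_one_mul, map_mul,
              quadraticChar_neg_one_iff_not_isSquare.2 hi, quadraticChar_neg_one_iff_not_isSquare.2 hsq]
            norm_num
          obtain ⟨s, hs⟩ := this; exact ⟨s, Or.inr hs.symm⟩
      have hs0 : s ≠ 0 := by rintro rfl; rcases hs with h | h <;> simp [eq_comm] at h
      refine ⟨(Units.mk0 s hs0)⁻¹, ?_⟩
      rw [Commute.mul_pow (scHom_comm _ _), show (4 : ℕ) = 2 * 2 from rfl, pow_mul z, hα, ← map_pow,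
        ← map_pow, ← map_mul]
      convert map_one (scHom ι F) using 2
      refine Units.ext ?_
      simp only [Units.val_mul, Units.val_pow_eq_pow_val, Units.val_inv_eq_inv_val, Units.val_mk0, Units.val_one]
      have e2 : (α : F) ^ 2 = s ^ 4 := by
        rcases hs with h | h
        · linear_combination (-(s * s) - (α : F)) * h
        · linear_combination ((α : F) - s * s) * h
      rw [e2, ← mul_pow, inv_mul_cancel₀ hs0, one_pow]
    obtain ⟨R, hR, hRn⟩ := exists_socleCore hS (Or.inr ⟨rfl, rfl⟩) hscale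
    rcases socle_classes_four hS hR hRn hm hn hi with h1 | h1
    · exact Or.inr (Or.inr (Or.inr (Or.inl h1)))
    · exact Or.inr (Or.inr (Or.inr (Or.inr h1)))

/-- A stabiliser of a tensor power decomposition does not contain the special linear group. -/
theorem not_le_tensorWreathSubgroup [Fintype F] {d t : ℕ} (hd : 2 ≤ d) (ht : 2 ≤ t)
    (e : ι ≃ (Fin t → Fin d)) (P : GL ι F) :
    ¬ Cfsg.Geo.specialLinear ι F ≤ Cfsg.Geo.tensorWreathSubgroup d t e P := by
  classical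
  intro hle
  let o : Fin d := ⟨0, by omega⟩
  let u : Fin d := ⟨1, by omega⟩
  let i₀ : Fin t := ⟨0, by omega⟩
  let i₁ : Fin t := ⟨1, by omega⟩
  have hou : o ≠ u := fun h => by simpa [o, u] using congrArg Fin.val h
  have hi : i₀ ≠ i₁ := fun h => by simpa [i₀, i₁] using congrArg Fin.val h
  let a : Fin t → Fin d := fun _ => o
  let b : Fin t → Fin d := Function.update (Function.update a i₀ u) i₁ u
  let a₀ : Fin t → Fin d := Function.update a i₀ u
  let a₁ : Fin t → Fin d := Function.update a i₁ u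
  have hab : e.symm a ≠ e.symm b := fun h => hou (by
    have := congrFun (e.symm.injective h) i₁
    simpa [a, b] using this)
  let v : ι → F := Pi.single (e.symm b) 1
  let φ : ι → F := Pi.single (e.symm a) 1
  have hφv : φ ⬝ᵥ v = 0 := by simp [φ, v, hab]
  let g : GL ι F := P * tv v φ hφv * P⁻¹
  have hg : g ∈ Cfsg.Geo.specialLinear ι F := by
    rw [mem_specialLinear_iff, show mat g = mat P * mat (tv v φ hφv) * mat P⁻¹ from rfl, Matrix.det_units_conj]
    exact mem_specialLinear_iff.1 (tv_mem_specialLinear v φ hφv)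
  obtain ⟨σ, as, has⟩ := TensorNonmax.mem_tensorWreathSubgroup e P (hle hg)
  let xs : Fin t → Fin d → F := fun _ => Pi.single o 1
  let x : (Fin t → Fin d) → F := fun c => ∏ i, xs i (c i)
  let w : (Fin t → Fin d) → F := fun c => ∏ i, (mat (as i) *ᵥ xs (σ i)) (c i)
  have hx : ∀ c, x c = if c = a then 1 else 0 := by
    intro c
    simp only [x, xs]
    by_cases hc : c = a
    · simp [hc, a]
    · obtain ⟨j, hj⟩ := Function.ne_iff.1 hc
      rw [if_neg hc]
      exact Finset.prod_eq_zero (Finset.mem_univ j) (Pi.single_eq_of_ne hj _)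
  have e1 : ∀ y : (Fin t → Fin d) → F, cvec e P y = mat P *ᵥ (y ∘ e) := fun y => by
    rw [cvec_apply]
  have h1 := has xs
  simp only [ptmul, e1] at h1
  have h2 : mat P *ᵥ (mat (tv v φ hφv) *ᵥ (x ∘ e)) = mat P *ᵥ (w ∘ e) := by
    rw [← h1]
    simp only [g, x, mat, Units.val_mul, Matrix.mulVec_mulVec, Matrix.mul_assoc, Units.inv_mul, Matrix.mul_one]
  have h3 := mulVec_injective P h2
  have hval : ∀ c, w c = (if c = a then 1 else 0) + (if c = b then 1 else 0) := by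
    intro c
    have h4 := congrFun h3 (e.symm c)
    rw [tv_mulVec] at h4
    simp only [Function.comp_apply, Equiv.apply_symm_apply, Pi.add_apply, Pi.smul_apply, smul_eq_mul] at h4
    rw [← h4, hx]
    congr 1
    have : φ ⬝ᵥ (x ∘ e) = 1 := by simp [φ, hx]
    rw [this, one_mul]
    simp [v, Pi.single_apply]
  have hprod : w a * w b = w a₀ * w a₁ := by
    simp only [w, ← Finset.prod_mul_distrib]
    refine Finset.prod_congr rfl fun i _ => ?_
    rcases eq_or_ne i i₀ with rfl | h0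
    · simp [a, b, a₀, a₁, hi, mul_comm]
    rcases eq_or_ne i i₁ with rfl | h1
    · simp [a, b, a₀, a₁, hi.symm]
    simp [a, b, a₀, a₁, h0, h1]
  have na : ∀ {p q : Fin t → Fin d} (i : Fin t), p i ≠ q i → p ≠ q := fun i hne h => hne (congrFun h i)
  have ha0 : w a₀ = 0 := by
    rw [hval, if_neg (na i₀ (by simp [a₀, a, hou.symm])), if_neg (na i₁ (by simp [a₀, b, a, hi.symm, hou])), add_zero]
  have hne : a ≠ b := fun h => hab (by rw [h])
  rw [hval a, hval b, ha0, if_pos rfl, if_neg hne, if_neg hne.symm, if_pos rfl] at hprod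
  simp at hprod

/-- Maximal subgroups of the special linear group in dimension at least three. -/
theorem linear_structure_cases [Fintype F] {n : ℕ} (hn : 3 ≤ n) {H : Subgroup (GL (Fin n) F)}
    (hH : Cfsg.Geo.IsMaximalIn (Cfsg.Geo.specialLinear (Fin n) F) H) :
    (∃ W : Submodule F (Fin n → F), W ≠ ⊥ ∧ W ≠ ⊤ ∧
      H = Cfsg.Geo.subspaceStabilizer W ⊓ Cfsg.Geo.specialLinear (Fin n) F) ∨
    (∃ (t m : ℕ) (D : Fin t → Submodule F (Fin n → F)), t * m = n ∧ Cfsg.Geo.IsMDecomposition m D ∧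
      (m = 1 → 5 ≤ Fintype.card F) ∧ (m = 2 → 3 ≤ Fintype.card F) ∧
      H = Cfsg.Geo.decompositionStabilizer D ⊓ Cfsg.Geo.specialLinear (Fin n) F) ∨
    (∃ (r : ℕ) (K : Subalgebra F (Matrix (Fin n) (Fin n) F)), r.Prime ∧ r ∣ n ∧ Cfsg.Geo.IsFieldSubalgebra r K ∧
      H = Cfsg.Geo.subalgebraNormalizer K ⊓ Cfsg.Geo.specialLinear (Fin n) F) ∨
    (∃ (k d : ℕ) (e : Fin n ≃ Fin k × Fin d) (P : GL (Fin n) F), 2 ≤ k ∧ k < d ∧ k * d = n ∧
      (k = 2 → 3 ≤ Fintype.card F) ∧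
      H = Cfsg.Geo.tensorProductSubgroup k d e P ⊓ Cfsg.Geo.specialLinear (Fin n) F) ∨
    (∃ (F₀ : Subfield F) (r : ℕ) (P : GL (Fin n) F), r.Prime ∧ Fintype.card F = Nat.card F₀ ^ r ∧
      H = Cfsg.Geo.subfieldSubgroup F₀ P ⊓ Cfsg.Geo.specialLinear (Fin n) F) ∨
    (∃ (r m : ℕ) (R : Subgroup (GL (Fin n) F)), n = r ^ m ∧ Cfsg.Geo.IsLinearSymplecticTypeData r R ∧
      H = Cfsg.Geo.subgroupNormalizer R ⊓ Cfsg.Geo.specialLinear (Fin n) F) ∨
    (∃ (d t : ℕ) (e : Fin n ≃ (Fin t → Fin d)) (P : GL (Fin n) F), 3 ≤ d ∧ 2 ≤ t ∧ d ^ t = n ∧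
      H = Cfsg.Geo.tensorWreathSubgroup d t e P ⊓ Cfsg.Geo.specialLinear (Fin n) F) ∨
    (Odd (Fintype.card F) ∧ ∃ Q : (Fin n → F) → F, Cfsg.Geo.IsNondegenerateQuadraticForm Q ∧
      H = Cfsg.Geo.quadSimilarityGroup Q ⊓ Cfsg.Geo.specialLinear (Fin n) F) ∨
    (∃ f : (Fin n → F) → (Fin n → F) → F, Cfsg.Geo.IsSymplecticForm f ∧
      H = Cfsg.Geo.similarityGroup f ⊓ Cfsg.Geo.specialLinear (Fin n) F) ∨
    (∃ (σ : F ≃+* F) (f : (Fin n → F) → (Fin n → F) → F), Cfsg.Geo.IsUnitaryForm σ f ∧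
      H = Cfsg.Geo.similarityGroup f ⊓ Cfsg.Geo.specialLinear (Fin n) F) ∨
    Cfsg.Geo.InLinearResidualClass H := by
  classical
  haveI : Nonempty (Fin n) := ⟨⟨0, by omega⟩⟩
  have hcard : Fintype.card (Fin n) = n := Fintype.card_fin n
  have h3 : 3 ≤ Fintype.card (Fin n) := by rw [hcard]; exact hn
  have hsub : ∀ {F₀ : Subfield F} {r : ℕ} {P : GL (Fin n) F}, r.Prime → Fintype.card F = Nat.card F₀ ^ r →
      H ≤ Cfsg.Geo.subfieldSubgroup F₀ P →
      H = Cfsg.Geo.subfieldSubgroup F₀ P ⊓ Cfsg.Geo.specialLinear (Fin n) F := by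
    intro F₀ r P hr hc hle
    refine eq_inf_of_maximal hH hle (not_le_subfieldSubgroup h3 (fun htop => ?_) P)
    subst htop
    have h1 : Nat.card (⊤ : Subfield F) = Fintype.card F := by
      rw [Nat.card_congr (Subfield.topEquiv (K := F)).toEquiv, Nat.card_eq_fintype_card]
    rw [h1] at hc
    have h2 : 1 < Fintype.card F := Fintype.one_lt_card
    have h3' := Nat.pow_lt_pow_right h2 hr.one_lt
    rw [pow_one] at h3'
    omega
  have hquad : ∀ {Q : (Fin n → F) → F}, Cfsg.Geo.IsNondegenerateQuadraticForm Q →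
      H ≤ Cfsg.Geo.quadSimilarityGroup Q →
      H = Cfsg.Geo.quadSimilarityGroup Q ⊓ Cfsg.Geo.specialLinear (Fin n) F :=
    fun hQ hle => eq_inf_of_maximal hH hle (Aschbacher.not_le_quadSimilarityGroup h3 hQ)
  have hsymp : ∀ {f : (Fin n → F) → (Fin n → F) → F}, Cfsg.Geo.IsSymplecticForm f →
      H ≤ Cfsg.Geo.similarityGroup f →
      H = Cfsg.Geo.similarityGroup f ⊓ Cfsg.Geo.specialLinear (Fin n) F :=
    fun hf hle => eq_inf_of_maximal hH hle
      (Aschbacher.not_le_similarityGroup h3 (isSesq_of_bilinear hf.bilinear) hf.nondegenerate)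
  have hunit : ∀ {σ : F ≃+* F} {f : (Fin n → F) → (Fin n → F) → F}, Cfsg.Geo.IsUnitaryForm σ f →
      H ≤ Cfsg.Geo.similarityGroup f →
      H = Cfsg.Geo.similarityGroup f ⊓ Cfsg.Geo.specialLinear (Fin n) F :=
    fun hf hle => eq_inf_of_maximal hH hle
      (Aschbacher.not_le_similarityGroup h3 (isSesq_of_unitary hf) hf.nondegenerate)
  by_cases hirr : Cfsg.Geo.ActsIrreducibly (Cfsg.Geo.matrixSet H)
  swap
  · rw [actsIrreducibly_iff] at hirr
    simp only [not_forall, not_or] at hirr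
    obtain ⟨W, hW, h0, h1⟩ := hirr
    exact Or.inl ⟨W, h0, h1, eq_inf_of_maximal hH hW (Aschbacher.not_le_subspaceStabilizer h0 h1)⟩
  right
  have hslots : ∀ {d t : ℕ} (e : Fin n ≃ (Fin t → Fin d)) (P : GL (Fin n) F), 2 ≤ d → 2 ≤ t →
      (∀ g ∈ H, ∃ (σ : Equiv.Perm (Fin t)) (as : Fin t → GL (Fin d) F),
        ∀ xs, (g : Matrix (Fin n) (Fin n) F) *ᵥ ptmul e P xs =
          ptmul e P (fun j => (as j : Matrix (Fin d) (Fin d) F) *ᵥ xs (σ j))) →
      (∃ (d t : ℕ) (e : Fin n ≃ (Fin t → Fin d)) (P : GL (Fin n) F), 3 ≤ d ∧ 2 ≤ t ∧ d ^ t = n ∧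
        H = Cfsg.Geo.tensorWreathSubgroup d t e P ⊓ Cfsg.Geo.specialLinear (Fin n) F) ∨
      (Odd (Fintype.card F) ∧ ∃ Q : (Fin n → F) → F, Cfsg.Geo.IsNondegenerateQuadraticForm Q ∧
        H = Cfsg.Geo.quadSimilarityGroup Q ⊓ Cfsg.Geo.specialLinear (Fin n) F) ∨
      (∃ f : (Fin n → F) → (Fin n → F) → F, Cfsg.Geo.IsSymplecticForm f ∧
        H = Cfsg.Geo.similarityGroup f ⊓ Cfsg.Geo.specialLinear (Fin n) F) := by
    intro d t e P hd ht hact
    rcases Nat.lt_or_eq_of_le hd with hd3 | rfl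
    · refine Or.inl ⟨d, t, e, P, hd3, ht, ?_, eq_inf_of_maximal hH (fun g hg => ?_)
        (not_le_tensorWreathSubgroup hd ht e P)⟩
      · simpa using (Fintype.card_congr e).symm
      · obtain ⟨σ, as, h⟩ := hact g hg
        exact mem_tensorWreathSubgroup_of h
    · rcases similarity_of_planes ht e P hact with ⟨f, hf, hle⟩ | ⟨Q, hQ, ho, hle⟩
      · exact Or.inr (Or.inr ⟨f, hf, hsymp hf hle⟩)
      · exact Or.inr (Or.inl ⟨ho, Q, hQ, hquad hQ hle⟩)
  rcases reduction (by omega) hirr with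
    ⟨t, m, D, hD, htm, hst⟩ | ⟨r, K, hr, hrd, hK, hle⟩ | ⟨k, d, e, P, hk, hd, hkd, hle⟩ | hsoc | hcp |
    ⟨P, hP⟩
  · rw [hcard] at htm
    have hne := Aschbacher.not_le_decompositionStabilizer h3 hD
    by_cases hm1 : m = 1 ∧ Fintype.card F < 5
    · obtain ⟨rfl, hq⟩ := hm1
      obtain rfl : t = Fintype.card (Fin n) := by omega
      rcases monomial_small_field h3 hq hirr hD hst with ⟨ho, Q, hQ, hle⟩ | ⟨σ, f, hf, hle⟩
      · exact Or.inr (Or.inr (Or.inr (Or.inr (Or.inr (Or.inr (Or.inl ⟨ho, Q, hQ, hquad hQ hle⟩))))))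
      · exact Or.inr (Or.inr (Or.inr (Or.inr (Or.inr (Or.inr (Or.inr (Or.inr (Or.inl
          ⟨σ, f, hf, hunit hf hle⟩))))))))
    by_cases hm2 : m = 2 ∧ Fintype.card F = 2
    · obtain ⟨rfl, hq⟩ := hm2
      obtain ⟨f, hf, hle⟩ := pairs_small_field hq hD
      exact Or.inr (Or.inr (Or.inr (Or.inr (Or.inr (Or.inr (Or.inr (Or.inl
        ⟨f, hf, hsymp hf (hst.trans hle)⟩)))))))
    refine Or.inl ⟨t, m, D, htm, hD, fun h => ?_, fun h => ?_, eq_inf_of_maximal hH hst hne⟩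
    · exact not_lt.1 fun hq => hm1 ⟨h, hq⟩
    · have h1 : 1 < Fintype.card F := Fintype.one_lt_card
      by_contra hq
      exact hm2 ⟨h, by omega⟩
  · exact Or.inr (Or.inl ⟨r, K, hr, by rwa [hcard] at hrd, hK,
      eq_inf_of_maximal hH hle (Aschbacher.not_le_subalgebraNormalizer h3 hr.two_le hK)⟩)
  · rw [hcard] at hkd
    have hlt : ∀ {k d : ℕ} (e : Fin n ≃ Fin k × Fin d), 2 ≤ k → k < d → k * d = n →
        H ≤ Cfsg.Geo.tensorProductSubgroup k d e P →
        (∃ (r : ℕ) (K : Subalgebra F (Matrix (Fin n) (Fin n) F)), r.Prime ∧ r ∣ n ∧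
          Cfsg.Geo.IsFieldSubalgebra r K ∧
          H = Cfsg.Geo.subalgebraNormalizer K ⊓ Cfsg.Geo.specialLinear (Fin n) F) ∨
        (∃ (k d : ℕ) (e : Fin n ≃ Fin k × Fin d) (P : GL (Fin n) F), 2 ≤ k ∧ k < d ∧ k * d = n ∧
          (k = 2 → 3 ≤ Fintype.card F) ∧
          H = Cfsg.Geo.tensorProductSubgroup k d e P ⊓ Cfsg.Geo.specialLinear (Fin n) F) := by
      intro k d e hk hkd' hmul hle
      by_cases hk2 : k = 2 ∧ Fintype.card F = 2
      · obtain ⟨rfl, hq⟩ := hk2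
        obtain ⟨K, hK, hKle⟩ := tensor_small_field hq e P
        exact Or.inl ⟨2, K, Nat.prime_two, ⟨d, hmul.symm⟩, hK,
          eq_inf_of_maximal hH (hle.trans hKle) (Aschbacher.not_le_subalgebraNormalizer h3 le_rfl hK)⟩
      refine Or.inr ⟨k, d, e, P, hk, hkd', hmul, fun h => ?_,
        eq_inf_of_maximal hH hle (Aschbacher.not_le_tensorProductSubgroup hk (by omega) e P)⟩
      have h1 : 1 < Fintype.card F := Fintype.one_lt_card
      by_contra hq
      exact hk2 ⟨h, by omega⟩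
    rcases lt_trichotomy k d with h | rfl | h
    · rcases hlt e hk h hkd hle with h' | h'
      · exact Or.inr (Or.inl h')
      · exact Or.inr (Or.inr (Or.inl h'))
    · rcases hslots (e.trans (finTwoArrowEquiv _).symm) P hk le_rfl (fun g hg => by
        obtain ⟨as, has⟩ := slot_action_of_tensor (hle hg)
        exact ⟨1, as, has⟩) with h' | h' | h'
      · exact Or.inr (Or.inr (Or.inr (Or.inr (Or.inr (Or.inl h')))))
      · exact Or.inr (Or.inr (Or.inr (Or.inr (Or.inr (Or.inr (Or.inl h'))))))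
      · exact Or.inr (Or.inr (Or.inr (Or.inr (Or.inr (Or.inr (Or.inr (Or.inl h')))))))
    · rcases hlt _ hd h (by rw [mul_comm, hkd]) (hle.trans (Aschbacher.tensorProductSubgroup_swap e P)) with h' | h'
      · exact Or.inr (Or.inl h')
      · exact Or.inr (Or.inr (Or.inl h'))
  · rcases abelianSocle_cases_comm h3 hsoc with ⟨F₀, s, P, hs, hc, hle⟩ |
      ⟨r, m, R, hm, hR, hcomm, hle⟩ | ⟨σ, f, hf, hle⟩ | ⟨f, hf, hle⟩ | ⟨ho, Q, hQ, hle⟩
    · exact Or.inr (Or.inr (Or.inr (Or.inl ⟨F₀, s, P, hs, hc, hsub hs hc hle⟩)))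
    · exact Or.inr (Or.inr (Or.inr (Or.inr (Or.inl ⟨r, m, R, by rw [← hm, hcard], hR,
        eq_inf_of_maximal hH hle (Aschbacher.not_normalizes_specialLinear h3 hR.absIrred hcomm)⟩))))
    · exact Or.inr (Or.inr (Or.inr (Or.inr (Or.inr (Or.inr (Or.inr (Or.inr (Or.inl
        ⟨σ, f, hf, hunit hf hle⟩))))))))
    · exact Or.inr (Or.inr (Or.inr (Or.inr (Or.inr (Or.inr (Or.inr (Or.inl ⟨f, hf, hsymp hf hle⟩)))))))
    · exact Or.inr (Or.inr (Or.inr (Or.inr (Or.inr (Or.inr (Or.inl ⟨ho, Q, hQ, hquad hQ hle⟩))))))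
  · obtain ⟨d, t, e, P, hd, ht, -, hact⟩ := exists_slot_decomposition hcp
    rcases hslots e P hd ht hact with h' | h' | h'
    · exact Or.inr (Or.inr (Or.inr (Or.inr (Or.inr (Or.inl h')))))
    · exact Or.inr (Or.inr (Or.inr (Or.inr (Or.inr (Or.inr (Or.inl h'))))))
    · exact Or.inr (Or.inr (Or.inr (Or.inr (Or.inr (Or.inr (Or.inr (Or.inl h')))))))
  · rcases residual_or_form_general (by omega) hP with ⟨F₀, r, B, hr, hc, hle⟩ | ⟨ho, Q, hQ, hle⟩ |
      ⟨f, hf, hle⟩ | ⟨σ, f, hf, hle⟩ | hres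
    · exact Or.inr (Or.inr (Or.inr (Or.inl ⟨F₀, r, B, hr, hc, hsub hr hc hle⟩)))
    · exact Or.inr (Or.inr (Or.inr (Or.inr (Or.inr (Or.inr (Or.inl ⟨ho, Q, hQ, hquad hQ hle⟩))))))
    · exact Or.inr (Or.inr (Or.inr (Or.inr (Or.inr (Or.inr (Or.inr (Or.inl ⟨f, hf, hsymp hf hle⟩)))))))
    · exact Or.inr (Or.inr (Or.inr (Or.inr (Or.inr (Or.inr (Or.inr (Or.inr (Or.inl
        ⟨σ, f, hf, hunit hf hle⟩))))))))
    · exact Or.inr (Or.inr (Or.inr (Or.inr (Or.inr (Or.inr (Or.inr (Or.inr (Or.inr hres))))))))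

end CfsgLib.Aschbacher
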