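import Cfsg.Agent.Aschbacher.FourFiveData
import Cfsg.Agent.Aschbacher.LinearPrimePower

/-!
Over five elements an irreducible determinant-one monomial group in dimension four lies in the normaliser of a
symplectic type group of order 64, or in a similarity group.
-/

set_option autoImplicit false

namespace CfsgLib.Aschbacher.FourFive

open Matrix
open scoped commutatorElement

instance : Fact (Nat.Prime 5) := ⟨by norm_num⟩

/-- The explicit group of order 64. -/
def base : Subgroup (GL (Fin 4) (ZMod 5)) where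
  carrier := {x | ∃ l, mat x = elem l}
  one_mem' := ⟨(0, 0, 0), elem_zero.symm⟩
  mul_mem' := by
    rintro x y ⟨l, hl⟩ ⟨l', hl'⟩
    exact ⟨mulLabel l l', by rw [show mat (x * y) = mat x * mat y from Units.val_mul x y, hl, hl', elem_mul]⟩
  inv_mem' := by
    rintro x ⟨l, hl⟩
    obtain ⟨l', h1, -⟩ := elem_inv l
    refine ⟨l', ?_⟩
    calc mat x⁻¹ = mat x⁻¹ * (mat x * elem l') := by rw [hl, elem_mul, h1, elem_zero, mul_one]
      _ = elem l' := by rw [← mul_assoc, mat_inv_mul, one_mul]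

/-- The elements normalising the explicit group, tested on generators. -/
theorem mem_normalizer_base {x : GL (Fin 4) (ZMod 5)}
    (h : ∀ g : Fin 5, ∃ l, mat x * elem (gen g) = elem l * mat x) :
    x ∈ Cfsg.Geo.subgroupNormalizer base := by
  have hmul : ∀ l l', (∃ m, mat x * elem l = elem m * mat x) → (∃ m, mat x * elem l' = elem m * mat x) →
      ∃ m, mat x * elem (mulLabel l l') = elem m * mat x := by
    rintro l l' ⟨m, hm⟩ ⟨m', hm'⟩
    refine ⟨mulLabel m m', ?_⟩
    rw [← elem_mul, ← elem_mul, ← mul_assoc, hm, mul_assoc, hm', ← mul_assoc]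
  have h0 : ∃ m, mat x * elem (0, 0, 0) = elem m * mat x := ⟨(0, 0, 0), by rw [elem_zero, mul_one, one_mul]⟩
  have hall : ∀ l, ∃ m, mat x * elem l = elem m * mat x := by
    rintro ⟨c, v, k⟩
    rw [elem_word c v k]
    refine hmul _ _ (hmul _ _ ?_ ?_) ?_
    · fin_cases c
      · exact h0
      · exact h 0
      · exact hmul _ _ (h 0) (h 0)
      · exact hmul _ _ (h 0) (hmul _ _ (h 0) (h 0))
    · fin_cases k
      · exact h0
      · exact h 3
      · exact h 4
      · exact hmul _ _ (h 3) (h 4)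
    · fin_cases v
      · exact h0
      · exact h 1
      · exact h 2
      · exact hmul _ _ (h 1) (h 2)
  refine mem_subgroupNormalizer_of fun y hy => ?_
  obtain ⟨l, hl⟩ := hy
  obtain ⟨m, hm⟩ := hall l
  refine ⟨m, ?_⟩
  show mat x * mat y * mat x⁻¹ = elem m
  rw [hl, hm, mul_assoc, mat_mul_inv, mul_one]

/-- The witnesses as group elements. -/
def witGL (t : Fin 3) : GL (Fin 4) (ZMod 5) := ⟨wit t, witInv t, (wit_inv t).1, (wit_inv t).2⟩

theorem witGL_mem (t : Fin 3) : witGL t ∈ Cfsg.Geo.subgroupNormalizer base :=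
  mem_normalizer_base (wit_normalises t)

theorem elem_scalar_mem {x : GL (Fin 4) (ZMod 5)} {c : Fin 4} (h : mat x = elem (c, 0, 0)) :
    x ∈ Cfsg.Geo.scalars (Fin 4) (ZMod 5) := by
  rw [Cfsg.Geo.mem_scalars_iff]
  exact ⟨Units.mk0 (2 ^ c.1) (pow_ne_zero _ (by decide)), by rw [Units.val_mk0, ← elem_scalar]; exact h⟩

theorem base_absIrred : Cfsg.Geo.ActsAbsolutelyIrreducibly (Cfsg.Geo.matrixSet base) := by
  have hunit : ∀ l, ∃ y ∈ base, mat y = elem l := by
    intro l
    obtain ⟨l', h1, h2⟩ := elem_inv l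
    exact ⟨⟨elem l, elem l', by rw [elem_mul, h1, elem_zero], by rw [elem_mul, h2, elem_zero]⟩, ⟨l, rfl⟩, rfl⟩
  refine ⟨actsIrreducibly_iff.2 fun W hW => ?_, fun M hM => ?_⟩
  · by_contra hne
    rw [not_or] at hne
    obtain ⟨w, hw, hw0⟩ := Submodule.exists_mem_ne_zero_of_ne_bot hne.1
    obtain ⟨j, hj⟩ := Function.ne_iff.1 hw0
    refine hne.2 (eq_top_iff.2 fun x _ => ?_)
    have hsingle : ∀ i, Matrix.single i j (1 : ZMod 5) *ᵥ w ∈ W := by
      intro i
      rw [single_eq, Matrix.sum_mulVec]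
      refine Submodule.sum_mem _ fun k _ => ?_
      rw [Matrix.smul_mulVec]
      refine W.smul_mem _ ?_
      obtain ⟨y, hy, hye⟩ := hunit (0, xr i j, k)
      rw [← hye]
      exact mem_subspaceStabilizer_iff.1 (hW hy) w hw
    have hx : x = ∑ i, (x i / w j) • (Matrix.single i j (1 : ZMod 5) *ᵥ w) := by
      funext i
      simp only [Finset.sum_apply, Pi.smul_apply, Matrix.single_mulVec, smul_eq_mul]
      rw [Finset.sum_eq_single i]
      · simp only [Function.update_self, one_mul]; exact (div_mul_cancel₀ _ hj).symm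
      · intro k _ hk; simp [Ne.symm hk]
      · simp
    rw [hx]
    exact Submodule.sum_mem _ fun i _ => W.smul_mem _ (hsingle i)
  · have hcomm : ∀ i j, M * Matrix.single i j 1 = Matrix.single i j 1 * M := by
      intro i j
      rw [single_eq, Finset.mul_sum, Finset.sum_mul]
      refine Finset.sum_congr rfl fun k _ => ?_
      obtain ⟨y, hy, hye⟩ := hunit (0, xr i j, k)
      rw [Matrix.mul_smul, Matrix.smul_mul, ← hye, hM _ (mem_matrixSet hy)]
    refine ⟨M 0 0, Matrix.ext fun a b => ?_⟩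
    have e := congrFun (congrFun (hcomm 0 a) 0) b
    rcases eq_or_ne a b with rfl | hab
    · simpa [Matrix.mul_apply, Matrix.single_apply, eq_comm] using e
    · simpa [Matrix.mul_apply, Matrix.single_apply, hab, eq_comm] using e.symm

theorem base_comm {x y : GL (Fin 4) (ZMod 5)} (hx : x ∈ base) (hy : y ∈ base) :
    ⁅x, y⁆ ∈ Cfsg.Geo.scalars (Fin 4) (ZMod 5) := by
  obtain ⟨l, hl⟩ := hx
  obtain ⟨l', hl'⟩ := hy
  obtain ⟨c, hc⟩ := elem_comm l l'
  refine elem_scalar_mem (c := c) ?_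
  rw [commutatorElement_def]
  calc mat (x * y * x⁻¹ * y⁻¹) = elem l * elem l' * mat x⁻¹ * mat y⁻¹ := by
        simp only [mat, Units.val_mul, ← hl, ← hl']
    _ = elem (c, 0, 0) * (mat y * mat x) * mat x⁻¹ * mat y⁻¹ := by rw [hc, hl, hl']
    _ = elem (c, 0, 0) := by
        rw [mul_assoc, mul_assoc, mul_assoc, ← mul_assoc (mat x), mat_mul_inv, one_mul, mat_mul_inv, mul_one]

theorem base_sq {x : GL (Fin 4) (ZMod 5)} (hx : x ∈ base) : x ^ 2 ∈ Cfsg.Geo.scalars (Fin 4) (ZMod 5) := by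
  obtain ⟨l, hl⟩ := hx
  obtain ⟨c, hc⟩ := elem_sq l
  refine elem_scalar_mem (c := c) ?_
  rw [sq, show mat (x * x) = mat x * mat x from Units.val_mul x x, hl, hc]

theorem base_abelian {M : Subgroup (GL (Fin 4) (ZMod 5))} (hM : M ≤ base)
    (hn : Normalizes (Cfsg.Geo.subgroupNormalizer base) M) (hab : ∀ x ∈ M, ∀ y ∈ M, x * y = y * x) :
    M ≤ Cfsg.Geo.scalars (Fin 4) (ZMod 5) := by
  intro x hx
  obtain ⟨⟨c, v, k⟩, hl⟩ := hM hx
  by_cases h0 : (v, k) = (0, 0)
  · obtain ⟨rfl, rfl⟩ := Prod.mk.inj h0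
    exact elem_scalar_mem hl
  exfalso
  obtain ⟨t, ht⟩ := wit_noncomm (c, v, k) h0
  apply ht
  have e := congrArg mat (hab x hx _ (hn (witGL t) (witGL_mem t) x hx))
  simp only [mat, Units.val_mul] at e
  rw [← hl]
  exact e

theorem socle_base : HasAbelianSocle (Cfsg.Geo.subgroupNormalizer base) := by
  refine ⟨base, 2, 2, Nat.prime_two, rfl, Subgroup.le_normalizer, fun g hg x hx => ?_, base_absIrred,
    Subgroup.commutator_le.2 fun x hx y hy => base_comm hx hy, fun x hx => base_sq hx,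
    fun M hM hn hab => base_abelian hM hn hab⟩
  exact ((Subgroup.mem_set_normalizer_iff.1 hg) x).1 hx

/-- Determinant-one monomial matrices normalise the group. -/
theorem monomial_normalises {x : GL (Fin 4) (ZMod 5)} {π : Equiv.Perm (Fin 4)} {d : Fin 4 → ZMod 5}
    (hd : ∀ i, d i ≠ 0) (hx : mat x = monomialMat π d) (hdet : (mat x).det = 1) :
    x ∈ Cfsg.Geo.subgroupNormalizer base := by
  choose a ha using fun i => pow_two_surj (d i) (hd i)
  have hperm : permMat π = monomialMat π (fun _ => (1 : ZMod 5)) := rfl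
  have hdiag : Matrix.diagonal d = Matrix.diagonal ![2 ^ (a 0).1, 2 ^ (a 1).1, 2 ^ (a 2).1, 2 ^ (a 3).1] := by
    congr 1; funext i; fin_cases i <;> exact ha _
  have hdec : monomialMat π d = Matrix.diagonal d * permMat π := by
    rw [hperm, diagonal_eq_monomialMat, monomialMat_mul]
    congr 1
    funext i
    simp
  have hsq : ((2 : ZMod 5) ^ (a 0).1 * 2 ^ (a 1).1 * 2 ^ (a 2).1 * 2 ^ (a 3).1) ^ 2 = 1 := by
    rw [hx, hdec, Matrix.det_mul, Matrix.det_diagonal, Fin.prod_univ_four] at hdet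
    have hpd : (permMat π).det ^ 2 = 1 := by
      have key : ∀ σ : Equiv.Perm (Fin 4), ((Equiv.Perm.sign σ : ℤˣ) : ℤ) ^ 2 = 1 := by decide
      have hpm : permMat π = Equiv.Perm.permMatrix (ZMod 5) π := by
        ext i j
        simp [permMat, Equiv.Perm.permMatrix, PEquiv.toMatrix_apply, eq_comm]
      rw [hpm, Matrix.det_permutation]
      exact_mod_cast congrArg (Int.cast : ℤ → ZMod 5) (key π)
    have e := congrArg (fun z => z ^ 2) hdet
    simp only [mul_pow, one_pow, hpd, mul_one] at e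
    simp only [← ha, mul_pow]
    exact e
  have hcond := square_prod _ _ _ _ hsq
  refine mem_normalizer_base fun g => ?_
  obtain ⟨l₁, h1⟩ := perm_normalises π g
  rw [hx, hdec, mul_assoc, h1, ← mul_assoc, hdiag]
  have hall : ∀ l, ∃ m, Matrix.diagonal ![2 ^ (a 0).1, 2 ^ (a 1).1, 2 ^ (a 2).1, (2 : ZMod 5) ^ (a 3).1] * elem l =
      elem m * Matrix.diagonal ![2 ^ (a 0).1, 2 ^ (a 1).1, 2 ^ (a 2).1, (2 : ZMod 5) ^ (a 3).1] := by
    intro l
    have hdet' : IsUnit (Matrix.diagonal ![2 ^ (a 0).1, 2 ^ (a 1).1, 2 ^ (a 2).1, (2 : ZMod 5) ^ (a 3).1]) := by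
      rw [← hdiag, Matrix.isUnit_iff_isUnit_det, Matrix.det_diagonal, isUnit_iff_ne_zero]
      exact Finset.prod_ne_zero_iff.2 fun i _ => hd i
    obtain ⟨u, hu⟩ := hdet'
    have hn := mem_normalizer_base (x := u) fun g' => by
      obtain ⟨s, k, hs⟩ := diag_normalises _ _ _ _ hcond g'
      exact ⟨_, by rw [show mat u = _ from hu]; exact hs⟩
    obtain ⟨y, hy, hye⟩ : ∃ y ∈ base, mat y = elem l := by
      obtain ⟨l', e1, e2⟩ := elem_inv l
      exact ⟨⟨elem l, elem l', by rw [elem_mul, e1, elem_zero], by rw [elem_mul, e2, elem_zero]⟩, ⟨l, rfl⟩, rfl⟩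
    obtain ⟨m, hm⟩ := ((Subgroup.mem_set_normalizer_iff.1 hn) y).1 hy
    refine ⟨m, ?_⟩
    rw [← hu, ← hye, ← hm]
    show mat u * mat y = mat u * mat y * mat u⁻¹ * mat u
    rw [mul_assoc _ (mat u⁻¹), mat_inv_mul, mul_one]
  obtain ⟨m, hm⟩ := hall l₁
  exact ⟨m, by rw [hm, mul_assoc]⟩

/-- Over five elements the determinant-one stabiliser of four lines lies in a larger class. -/
theorem lines_five {F : Type*} [Field F] [Fintype F] (hq : Fintype.card F = 5)
    {D : Fin 4 → Submodule F (Fin 4 → F)} (hD : Cfsg.Geo.IsMDecomposition 1 D) :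
    (∃ (m : ℕ) (R : Subgroup (GL (Fin 4) F)), Fintype.card (Fin 4) = 2 ^ m ∧
      Cfsg.Geo.IsLinearSymplecticTypeData 2 R ∧ ⁅R, R⁆ ≤ Cfsg.Geo.scalars (Fin 4) F ∧
      Cfsg.Geo.decompositionStabilizer D ⊓ Cfsg.Geo.specialLinear (Fin 4) F ≤ Cfsg.Geo.subgroupNormalizer R) ∨
    (∃ f : (Fin 4 → F) → (Fin 4 → F) → F, Cfsg.Geo.IsSymplecticForm f ∧
      Cfsg.Geo.decompositionStabilizer D ⊓ Cfsg.Geo.specialLinear (Fin 4) F ≤ Cfsg.Geo.similarityGroup f) ∨
    (Odd (Fintype.card F) ∧ ∃ Q : (Fin 4 → F) → F, Cfsg.Geo.IsNondegenerateQuadraticForm Q ∧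
      Cfsg.Geo.decompositionStabilizer D ⊓ Cfsg.Geo.specialLinear (Fin 4) F ≤ Cfsg.Geo.quadSimilarityGroup Q) := by
  classical
  obtain ⟨P, hP⟩ := mat_monomial_of_stab hD (Fintype.card_fin 4).symm
  let e : ZMod 5 ≃+* F := FiniteField.ringEquivOfCardEq (by rw [ZMod.card, hq])
  let ψ : GL (Fin 4) (ZMod 5) ≃* GL (Fin 4) F :=
    (Units.mapEquiv e.mapMatrix.toMulEquiv).trans (MulAut.conj P)
  have hψ : ∀ x, mat (ψ x) = mat P * (mat x).map e * mat P⁻¹ := fun x => rfl
  let R : Subgroup (GL (Fin 4) F) := base.map ψ.toMonoidHom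
  let K := Cfsg.Geo.subgroupNormalizer R
  have hsc : ∀ x ∈ Cfsg.Geo.scalars (Fin 4) (ZMod 5), ψ x ∈ Cfsg.Geo.scalars (Fin 4) F := by
    intro x hx
    obtain ⟨c, hc⟩ := (Cfsg.Geo.mem_scalars_iff x).1 hx
    refine (Cfsg.Geo.mem_scalars_iff _).2 ⟨Units.mk0 (e c) ((map_ne_zero e).2 c.ne_zero), ?_⟩
    rw [show ((ψ x : GL (Fin 4) F) : Matrix (Fin 4) (Fin 4) F) = mat (ψ x) from rfl, hψ,
      show mat x = (c : ZMod 5) • 1 from hc,
      show ((c : ZMod 5) • (1 : Matrix (Fin 4) (Fin 4) (ZMod 5))).map e = e c • 1 from by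
        refine Matrix.ext fun i j => ?_
        by_cases hij : i = j <;> simp [hij],
      Matrix.mul_smul, Matrix.smul_mul, mul_one, mat_mul_inv]
    rfl
  have hsc' : ∀ x, ψ x ∈ Cfsg.Geo.scalars (Fin 4) F → x ∈ Cfsg.Geo.scalars (Fin 4) (ZMod 5) := by
    intro x hx
    refine mem_scalars_of_commute base_absIrred fun y _ => ψ.injective ?_
    rw [map_mul, map_mul]
    exact scalars_comm hx
  have hnormK : ∀ x, x ∈ Cfsg.Geo.subgroupNormalizer base → ψ x ∈ K := by
    intro x hx
    refine mem_subgroupNormalizer_of ?_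
    rintro _ ⟨y, hy, rfl⟩
    exact ⟨x * y * x⁻¹, ((Subgroup.mem_set_normalizer_iff.1 hx) y).1 hy, by simp⟩
  have habs : Cfsg.Geo.ActsAbsolutelyIrreducibly (Cfsg.Geo.matrixSet R) := by
    have hsingle : ∀ i j, mat P * Matrix.single i j 1 * mat P⁻¹ ∈
        Submodule.span F (Cfsg.Geo.matrixSet R) := by
      intro i j
      have e1 : (Matrix.single i j (1 : ZMod 5)).map e = Matrix.single i j (1 : F) := by
        refine Matrix.ext fun a b => ?_
        simp [Matrix.single_apply, apply_ite e]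
      rw [← e1, single_eq]
      have e2 : ((∑ k : Fin 4, (4 * sgn k i) • elem (0, xr i j, k)).map e) =
          ∑ k : Fin 4, e (4 * sgn k i) • (elem (0, xr i j, k)).map e := by
        refine Matrix.ext fun a b => ?_
        simp [Matrix.sum_apply, map_sum]
      rw [e2, Finset.mul_sum, Finset.sum_mul]
      refine Submodule.sum_mem _ fun k _ => ?_
      rw [Matrix.mul_smul, Matrix.smul_mul]
      refine Submodule.smul_mem _ _ (Submodule.subset_span ?_)
      obtain ⟨l', e1', e2'⟩ := elem_inv (0, xr i j, k)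
      let y : GL (Fin 4) (ZMod 5) := ⟨elem (0, xr i j, k), elem l', by rw [elem_mul, e1', elem_zero],
        by rw [elem_mul, e2', elem_zero]⟩
      exact ⟨ψ y, ⟨y, ⟨_, rfl⟩, rfl⟩, rfl⟩
    have hspan : ∀ N : Matrix (Fin 4) (Fin 4) F, N ∈ Submodule.span F (Cfsg.Geo.matrixSet R) := by
      intro N
      have e1 : N = mat P * (mat P⁻¹ * N * mat P) * mat P⁻¹ := by
        simp only [mat, Matrix.mul_assoc, Units.mul_inv, Matrix.mul_one]
        rw [← Matrix.mul_assoc, Units.mul_inv, Matrix.one_mul]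
      rw [e1, Matrix.matrix_eq_sum_single (mat P⁻¹ * N * mat P)]
      simp only [Finset.mul_sum, Finset.sum_mul]
      refine Submodule.sum_mem _ fun a _ => Submodule.sum_mem _ fun b _ => ?_
      rw [show Matrix.single a b ((mat P⁻¹ * N * mat P) a b) = ((mat P⁻¹ * N * mat P) a b) • Matrix.single a b (1 : F) by
        rw [Matrix.smul_single, smul_eq_mul, mul_one], Matrix.mul_smul, Matrix.smul_mul]
      exact Submodule.smul_mem _ _ (hsingle a b)
    refine ⟨actsIrreducibly_iff.2 fun W hW => ?_, fun M hM => ?_⟩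
    · by_contra hne
      rw [not_or] at hne
      obtain ⟨w, hw, hw0⟩ := Submodule.exists_mem_ne_zero_of_ne_bot hne.1
      obtain ⟨j, hj⟩ := Function.ne_iff.1 hw0
      refine hne.2 (eq_top_iff.2 fun x _ => ?_)
      have hstab : ∀ N ∈ Submodule.span F (Cfsg.Geo.matrixSet R), N *ᵥ w ∈ W := by
        intro N hN
        induction hN using Submodule.span_induction with
        | mem N hN => obtain ⟨y, hy, rfl⟩ := hN; exact mem_subspaceStabilizer_iff.1 (hW hy) w hw
        | zero => simp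
        | add a b _ _ ha hb => rw [Matrix.add_mulVec]; exact W.add_mem ha hb
        | smul c a _ ha => rw [Matrix.smul_mulVec]; exact W.smul_mem c ha
      have hx : x = Matrix.vecMulVec x (Pi.single j (w j)⁻¹) *ᵥ w := by
        rw [Matrix.vecMulVec_mulVec, single_dotProduct, inv_mul_cancel₀ hj]
        simp
      rw [hx]
      exact hstab _ (hspan _)
    · have hcomm : ∀ N, M * N = N * M := by
        intro N
        induction hspan N using Submodule.span_induction with
        | mem N hN => exact hM N hN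
        | zero => simp
        | add a b _ _ ha hb => rw [mul_add, add_mul, ha, hb]
        | smul c a _ ha => rw [Matrix.mul_smul, Matrix.smul_mul, ha]
      refine ⟨M 0 0, Matrix.ext fun a b => ?_⟩
      have e := congrFun (congrFun (hcomm (Matrix.single 0 a 1)) 0) b
      rcases eq_or_ne a b with rfl | hab
      · simpa [Matrix.mul_apply, Matrix.single_apply, eq_comm] using e
      · simpa [Matrix.mul_apply, Matrix.single_apply, hab, eq_comm] using e.symm
  have hsoc : HasAbelianSocle K := by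
    refine ⟨R, 2, 2, Nat.prime_two, rfl, Subgroup.le_normalizer, fun g hg x hx =>
      ((Subgroup.mem_set_normalizer_iff.1 hg) x).1 hx, habs, ?_, ?_, ?_⟩
    · rw [Subgroup.commutator_le]
      rintro _ ⟨x, hx, rfl⟩ _ ⟨y, hy, rfl⟩
      rw [← map_commutatorElement]
      exact hsc _ (base_comm hx hy)
    · rintro _ ⟨x, hx, rfl⟩
      rw [← map_pow]
      exact hsc _ (base_sq hx)
    · intro M hM hn hab x hx
      obtain ⟨y, hy, rfl⟩ := hM hx
      refine hsc y (base_abelian (M := M.comap ψ.toMonoidHom) ?_ ?_ ?_ hx)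
      · intro z hz
        obtain ⟨z', hz', e'⟩ := hM hz
        exact ψ.injective e' ▸ hz'
      · intro g hg z hz
        show ψ (g * z * g⁻¹) ∈ M
        rw [map_mul, map_mul, map_inv]
        exact hn (ψ g) (hnormK g hg) (ψ z) hz
      · intro a ha b hb
        refine ψ.injective ?_
        rw [map_mul, map_mul]
        exact hab _ ha _ hb
  have hle : Cfsg.Geo.decompositionStabilizer D ⊓ Cfsg.Geo.specialLinear (Fin 4) F ≤ K := by
    rintro g ⟨hg, hdet⟩
    obtain ⟨π, d, hd, hm⟩ := hP g hg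
    obtain ⟨x, rfl⟩ := ψ.surjective g
    refine hnormK x (monomial_normalises (π := π) (d := fun i => e.symm (d i))
      (fun i => (map_ne_zero e.symm).2 (hd i)) ?_ ?_)
    · have e1 : (mat x).map e = monomialMat π d := by
        rw [← hm, hψ]
        simp only [mat, Matrix.mul_assoc, Units.inv_mul, Matrix.mul_one]
        rw [← Matrix.mul_assoc, Units.inv_mul, Matrix.one_mul]
      refine Matrix.ext fun i j => e.injective ?_
      have := congrFun (congrFun e1 i) j
      rw [Matrix.map_apply] at this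
      rw [this]
      simp [monomialMat, apply_ite e]
    · have e1 := mem_specialLinear_iff.1 hdet
      rw [hψ, Matrix.det_units_conj, show ((mat x).map e).det = e (mat x).det from
        (RingHom.map_det e.toRingHom (mat x)).symm] at e1
      exact e.injective (e1.trans (map_one e).symm)
  have hprime : ∀ (F₁ : Subfield F) (s : ℕ), s.Prime → Fintype.card F ≠ Nat.card F₁ ^ s := by
    intro F₁ s hs heq
    rw [hq] at heq
    exact (Nat.Prime.not_prime_pow hs.two_le) (heq ▸ (by norm_num : Nat.Prime 5))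
  rcases abelianSocle_cases_comm (by simp) hsoc with ⟨F₁, s, P', hs, hc, -⟩ | ⟨r, m, R', hm, hR', hcomm, hle'⟩ |
    ⟨σ, f, hf, -⟩ | ⟨f, hf, hle'⟩ | ⟨ho, Q, hQ, hle'⟩
  · exact absurd hc (hprime F₁ s hs)
  · obtain rfl : r = 2 := by
      have hrp := hR'.symplecticType.prime
      have h4 : r ∣ 2 ^ 2 := by
        have : Fintype.card (Fin 4) = 4 := Fintype.card_fin 4
        rw [show (2 : ℕ) ^ 2 = r ^ m by rw [← hm, this]; norm_num]
        exact dvd_pow_self r fun h0 => by rw [this, h0] at hm; simp at hm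
      exact (Nat.prime_dvd_prime_iff_eq hrp Nat.prime_two).1 (hrp.dvd_of_dvd_pow h4)
    exact Or.inl ⟨m, R', hm, hR', hcomm, hle.trans hle'⟩
  · exfalso
    refine hf.ne_refl (RingEquiv.ext fun x => ?_)
    have h1 := RingHom.congr_fun (Subsingleton.elim ((σ.toRingHom).comp e.toRingHom) e.toRingHom) (e.symm x)
    simpa using h1
  · exact Or.inr (Or.inl ⟨f, hf, hle.trans hle'⟩)
  · exact Or.inr (Or.inr ⟨ho, Q, hQ, hle.trans hle'⟩)

end CfsgLib.Aschbacher.FourFive
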