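import Mathlib

/-!
The group of order 64 of symplectic type in dimension four over five elements, in explicit matrices, with the
monomial matrices and three further matrices normalising it.
-/

set_option autoImplicit false

namespace CfsgLib.Aschbacher.FourFive

open Matrix

/-- Bitwise sum of two indices. -/
def xr (i v : Fin 4) : Fin 4 := ![![0, 1, 2, 3], ![1, 0, 3, 2], ![2, 3, 0, 1], ![3, 2, 1, 0]] v i

/-- The sign characters. -/
def sgn (k i : Fin 4) : ZMod 5 :=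
  ![![1, 1, 1, 1], ![1, 4, 1, 4], ![1, 1, 4, 4], ![1, 4, 4, 1]] k i

/-- The elements of the group: scalar, translation, character. -/
def elem (l : Fin 4 × Fin 4 × Fin 4) : Matrix (Fin 4) (Fin 4) (ZMod 5) :=
  Matrix.of fun i j => if j = xr i l.2.1 then 2 ^ l.1.1 * sgn l.2.2 i else 0

/-- The parity of the common bits. -/
def pairing (k v : Fin 4) : Fin 4 := ![![0, 0, 0, 0], ![0, 2, 0, 2], ![0, 0, 2, 2], ![0, 2, 2, 0]] k v

/-- The product of labels. -/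
def mulLabel (l l' : Fin 4 × Fin 4 × Fin 4) : Fin 4 × Fin 4 × Fin 4 :=
  (l.1 + l'.1 + pairing l'.2.2 l.2.1, xr l.2.1 l'.2.1, xr l.2.2 l'.2.2)

/-- Five generators. -/
def gen (g : Fin 5) : Fin 4 × Fin 4 × Fin 4 := ![(1, 0, 0), (0, 1, 0), (0, 2, 0), (0, 0, 1), (0, 0, 2)] g

theorem elem_scale : ∀ l, elem l = (2 ^ l.1.1 : ZMod 5) • elem (0, l.2.1, l.2.2) := by decide +kernel

theorem elem_mul_base : ∀ v k v' k' : Fin 4, elem (0, v, k) * elem (0, v', k') =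
    (2 ^ (pairing k' v).1 : ZMod 5) • elem (0, xr v v', xr k k') := by decide +kernel

theorem two_pow_add : ∀ a b : Fin 4, (2 ^ a.1 : ZMod 5) * 2 ^ b.1 = 2 ^ (a + b).1 := by decide +kernel

theorem elem_mul (l l' : Fin 4 × Fin 4 × Fin 4) : elem l * elem l' = elem (mulLabel l l') := by
  rw [elem_scale l, elem_scale l', Matrix.smul_mul, Matrix.mul_smul, elem_mul_base, smul_smul, smul_smul,
    two_pow_add, two_pow_add, elem_scale (mulLabel l l')]
  rfl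

theorem elem_zero : elem (0, 0, 0) = 1 := by decide +kernel

theorem elem_inv : ∀ l, ∃ l', mulLabel l l' = (0, 0, 0) ∧ mulLabel l' l = (0, 0, 0) := by decide +kernel

theorem label_comm : ∀ l l', mulLabel l l' =
    mulLabel (pairing l'.2.2 l.2.1 + pairing l.2.2 l'.2.1, 0, 0) (mulLabel l' l) := by decide +kernel

theorem elem_comm (l l' : Fin 4 × Fin 4 × Fin 4) :
    ∃ c : Fin 4, elem l * elem l' = elem (c, 0, 0) * (elem l' * elem l) :=
  ⟨_, by rw [elem_mul, elem_mul, elem_mul, ← label_comm]⟩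

theorem elem_scalar : ∀ c : Fin 4, elem (c, 0, 0) = (2 ^ c.1 : ZMod 5) • 1 := by decide +kernel

theorem elem_sq : ∀ l, ∃ c : Fin 4, elem l * elem l = elem (c, 0, 0) := by decide +kernel

theorem elem_word : ∀ c v k : Fin 4, (c, v, k) = mulLabel (mulLabel
    ((![(0, 0, 0), gen 0, mulLabel (gen 0) (gen 0), mulLabel (gen 0) (mulLabel (gen 0) (gen 0))] :
      Fin 4 → Fin 4 × Fin 4 × Fin 4) c)
    ((![(0, 0, 0), gen 3, gen 4, mulLabel (gen 3) (gen 4)] : Fin 4 → Fin 4 × Fin 4 × Fin 4) k))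
    ((![(0, 0, 0), gen 1, gen 2, mulLabel (gen 1) (gen 2)] : Fin 4 → Fin 4 × Fin 4 × Fin 4) v) := by
  decide +kernel

/-- The permutation matrix. -/
def permMat (π : Equiv.Perm (Fin 4)) : Matrix (Fin 4) (Fin 4) (ZMod 5) :=
  Matrix.of fun i j => if j = π i then 1 else 0

theorem perm_normalises : ∀ (π : Equiv.Perm (Fin 4)) (g : Fin 5), ∃ l,
    permMat π * elem (gen g) = elem l * permMat π := by decide +kernel

theorem diag_normalises : ∀ a b c d : Fin 4, (2 * (a.1 + b.1 + c.1 + d.1)) % 4 = 0 → ∀ g : Fin 5, ∃ s k : Fin 4,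
    Matrix.diagonal ![2 ^ a.1, 2 ^ b.1, 2 ^ c.1, (2 : ZMod 5) ^ d.1] * elem (gen g) =
      elem (s, (gen g).2.1, k) * Matrix.diagonal ![2 ^ a.1, 2 ^ b.1, 2 ^ c.1, (2 : ZMod 5) ^ d.1] := by decide +kernel

theorem pow_two_surj : ∀ x : ZMod 5, x ≠ 0 → ∃ a : Fin 4, x = 2 ^ a.1 := by decide +kernel

theorem square_prod : ∀ a b c d : Fin 4,
    ((2 : ZMod 5) ^ a.1 * 2 ^ b.1 * 2 ^ c.1 * 2 ^ d.1) ^ 2 = 1 → (2 * (a.1 + b.1 + c.1 + d.1)) % 4 = 0 := by
  decide +kernel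

/-- Three further matrices normalising the group. -/
def wit (t : Fin 3) : Matrix (Fin 4) (Fin 4) (ZMod 5) :=
  ![!![1, 1, 0, 0; 1, 4, 0, 0; 0, 0, 1, 1; 0, 0, 1, 4],
    !![1, 0, 1, 0; 0, 1, 0, 1; 0, 4, 0, 1; 1, 0, 4, 0],
    !![1, 0, 1, 0; 1, 0, 4, 0; 0, 1, 0, 1; 0, 4, 0, 1]] t

/-- Their inverses. -/
def witInv (t : Fin 3) : Matrix (Fin 4) (Fin 4) (ZMod 5) :=
  ![!![3, 3, 0, 0; 3, 2, 0, 0; 0, 0, 3, 3; 0, 0, 3, 2],
    !![3, 0, 0, 3; 0, 3, 2, 0; 3, 0, 0, 2; 0, 3, 3, 0],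
    !![3, 3, 0, 0; 0, 0, 3, 2; 3, 2, 0, 0; 0, 0, 3, 3]] t

theorem wit_inv : ∀ t, wit t * witInv t = 1 ∧ witInv t * wit t = 1 := by decide +kernel

theorem wit_normalises : ∀ (t : Fin 3) (g : Fin 5), ∃ l, wit t * elem (gen g) = elem l * wit t := by
  decide +kernel

theorem wit_noncomm : ∀ l : Fin 4 × Fin 4 × Fin 4, l.2 ≠ (0, 0) → ∃ t,
    elem l * (wit t * elem l * witInv t) ≠ wit t * elem l * witInv t * elem l := by decide +kernel

theorem single_eq : ∀ i j : Fin 4,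
    Matrix.single i j (1 : ZMod 5) = ∑ k : Fin 4, (4 * sgn k i) • elem (0, xr i j, k) := by decide +kernel

end CfsgLib.Aschbacher.FourFive
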