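import Cfsg.Agent.MaxSub.Decomposition
import Cfsg.Agent.Aschbacher.Basic

/-!
Over three elements the determinant-one stabiliser of a decomposition of a four-dimensional space into two planes
preserves a symplectic form up to a scalar.
-/

set_option autoImplicit false

namespace CfsgLib.Aschbacher

open Matrix

variable {F : Type*} [Field F]

theorem det_blocks (a b c d e f g h : F) :
    (!![a, b, 0, 0; c, d, 0, 0; 0, 0, e, f; 0, 0, g, h] : Matrix (Fin 4) (Fin 4) F).det =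
      (a * d - b * c) * (e * h - f * g) := by
  simp [Matrix.det_succ_row_zero, Fin.sum_univ_succ, Fin.succAbove]
  ring

theorem det_blocks_swap (a b c d e f g h : F) :
    (!![0, 0, a, b; 0, 0, c, d; e, f, 0, 0; g, h, 0, 0] : Matrix (Fin 4) (Fin 4) F).det =
      (a * d - b * c) * (e * h - f * g) := by
  simp [Matrix.det_succ_row_zero, Fin.sum_univ_succ, Fin.succAbove]
  ring

/-- The stabiliser of two planes in the special linear group over three elements is symplectic up to scalars. -/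
theorem pairs_three [Fintype F] (hq : Fintype.card F = 3) {D : Fin 2 → Submodule F (Fin 4 → F)}
    (hD : Cfsg.Geo.IsMDecomposition 2 D) :
    ∃ f : (Fin 4 → F) → (Fin 4 → F) → F, Cfsg.Geo.IsSymplecticForm f ∧
      Cfsg.Geo.decompositionStabilizer D ⊓ Cfsg.Geo.specialLinear (Fin 4) F ≤ Cfsg.Geo.similarityGroup f := by
  classical
  obtain ⟨b, a, hb, hab, hzero, hsum⟩ := CfsgLib.MaxSub.exists_decompCoords hD
  let A' : Matrix (Fin 4) (Fin 4) F := Matrix.of ![a 0 0, a 0 1, a 1 0, a 1 1]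
  let B' : Matrix (Fin 4) (Fin 4) F := (Matrix.of ![b 0 0, b 0 1, b 1 0, b 1 1])ᵀ
  have hAB : A' * B' = 1 := by
    refine Matrix.ext fun i j => ?_
    show ![a 0 0, a 0 1, a 1 0, a 1 1] i ⬝ᵥ ![b 0 0, b 0 1, b 1 0, b 1 1] j = _
    fin_cases i <;> fin_cases j <;> simp [hab, Matrix.cons_val]
  let f : (Fin 4 → F) → (Fin 4 → F) → F := fun u v =>
    ∑ i, ((a i 0 ⬝ᵥ u) * (a i 1 ⬝ᵥ v) - (a i 1 ⬝ᵥ u) * (a i 0 ⬝ᵥ v))
  refine ⟨f, ⟨⟨?_, ?_, ?_, ?_⟩, fun v u => ?_, fun v => ?_, fun v hv => ?_⟩, ?_⟩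
  · intro x y v; simp only [f, dotProduct_add, Fin.sum_univ_two]; ring
  · intro c x v; simp only [f, dotProduct_smul, smul_eq_mul, Fin.sum_univ_two]; ring
  · intro v x y; simp only [f, dotProduct_add, Fin.sum_univ_two]; ring
  · intro c v x; simp only [f, dotProduct_smul, smul_eq_mul, Fin.sum_univ_two]; ring
  · simp only [f, Fin.sum_univ_two]; ring
  · simp only [f, Fin.sum_univ_two]; ring
  · obtain ⟨i, r, hir⟩ : ∃ i r, a i r ⬝ᵥ v ≠ 0 := by
      by_contra hall
      push Not at hall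
      exact hv (by rw [hsum v]; simp [hall])
    fin_cases r
    · exact ⟨⟨b i 1, by simpa [f, Fin.sum_univ_two, hab] using (show _ from by fin_cases i <;> simpa using hir)⟩,
        ⟨b i 1, by simpa [f, Fin.sum_univ_two, hab] using (show _ from by fin_cases i <;> simpa using hir)⟩⟩
    · exact ⟨⟨b i 0, by simpa [f, Fin.sum_univ_two, hab] using (show _ from by fin_cases i <;> simpa using hir)⟩,
        ⟨b i 0, by simpa [f, Fin.sum_univ_two, hab] using (show _ from by fin_cases i <;> simpa using hir)⟩⟩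
  rintro g ⟨⟨σ, hσ⟩, hg⟩
  have hdetg : (mat g).det = 1 := mem_specialLinear_iff.1 hg
  let M : Fin 2 → Fin 2 → Fin 2 → F := fun i s r => a (σ i) s ⬝ᵥ (mat g *ᵥ b i r)
  let δ : Fin 2 → F := fun i => M i 0 0 * M i 1 1 - M i 0 1 * M i 1 0
  have hco : ∀ x i s, a (σ i) s ⬝ᵥ (mat g *ᵥ x) = (a i 0 ⬝ᵥ x) * M i s 0 + (a i 1 ⬝ᵥ x) * M i s 1 := by
    intro x i s
    rw [CfsgLib.MaxSub.coords_of_stabilizes hb hzero hsum hσ x i s, Fin.sum_univ_two]
  have hf : ∀ u v, f (mat g *ᵥ u) (mat g *ᵥ v) =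
      ∑ i, δ i * ((a i 0 ⬝ᵥ u) * (a i 1 ⬝ᵥ v) - (a i 1 ⬝ᵥ u) * (a i 0 ⬝ᵥ v)) := by
    intro u v
    simp only [f]
    rw [← Equiv.sum_comp σ]
    refine Finset.sum_congr rfl fun i _ => ?_
    rw [hco u i 0, hco u i 1, hco v i 0, hco v i 1]
    simp only [δ]; ring
  have hoff : ∀ i j r s, i ≠ σ j → a i s ⬝ᵥ (mat g *ᵥ b j r) = 0 := fun i j r s hij =>
    hzero i (σ j) s hij _ (by rw [← hσ j]; exact ⟨b j r, hb j r, by rw [Matrix.toLin'_apply]⟩)
  have hentry : ∀ i j, (A' * mat g * B') i j =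
      ![a 0 0, a 0 1, a 1 0, a 1 1] i ⬝ᵥ (mat g *ᵥ ![b 0 0, b 0 1, b 1 0, b 1 1] j) := by
    intro i j
    rw [Matrix.mul_assoc]
    rfl
  have hdet : δ 0 * δ 1 = 1 := by
    have e : (A' * mat g * B').det = 1 := by
      have e' := congrArg Matrix.det hAB
      rw [Matrix.det_mul, Matrix.det_one] at e'
      rw [Matrix.det_mul, Matrix.det_mul, hdetg, mul_one, e']
    rcases (by decide : ∀ π : Equiv.Perm (Fin 2), π = 1 ∨ π = Equiv.swap 0 1) σ with rfl | rfl
    · rw [show A' * mat g * B' = !![M 0 0 0, M 0 0 1, 0, 0; M 0 1 0, M 0 1 1, 0, 0; 0, 0, M 1 0 0, M 1 0 1;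
          0, 0, M 1 1 0, M 1 1 1] from ?_, det_blocks] at e
      · exact e
      · refine Matrix.ext fun i j => ?_
        rw [hentry]
        fin_cases i <;> fin_cases j <;> simp [M] <;> exact hoff _ _ _ _ (by decide)
    · rw [show A' * mat g * B' = !![0, 0, M 1 0 0, M 1 0 1; 0, 0, M 1 1 0, M 1 1 1; M 0 0 0, M 0 0 1, 0, 0;
          M 0 1 0, M 0 1 1, 0, 0] from ?_, det_blocks_swap] at e
      · rw [mul_comm]; exact e
      · refine Matrix.ext fun i j => ?_
        rw [hentry]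
        fin_cases i <;> fin_cases j <;> simp [M] <;> exact hoff _ _ _ _ (by decide)
  have hne : δ 0 ≠ 0 := fun h => by simp [h] at hdet
  have heq : δ 1 = δ 0 := by
    have h2 := FiniteField.pow_card_sub_one_eq_one (δ 0) hne
    rw [hq] at h2
    linear_combination (δ 0) * hdet - δ 1 * h2
  refine ⟨Units.mk0 (δ 0) hne, fun u v => ?_⟩
  rw [hf]
  simp only [f, Fin.sum_univ_two, heq, Units.val_mk0]
  ring

end CfsgLib.Aschbacher
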