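import Cfsg.Agent.Aschbacher.SymplecticType

/-!
The field of definition of a Heisenberg group: either it is realisable over a proper subfield, or the field is the
minimal one and then, in even degree, it fixes a unitary form.
-/

set_option autoImplicit false

namespace CfsgLib.Aschbacher

open Matrix

variable {ι : Type} [Fintype ι] [DecidableEq ι] {F : Type*} [Field F]

/-- The form transported from the standard sesquilinear one along a change of basis. -/
def diagForm (σ : F ≃+* F) (P : GL ι F) (x y : ι → F) : F :=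
  (mat P⁻¹ *ᵥ x) ⬝ᵥ fun i => σ ((mat P⁻¹ *ᵥ y) i)

theorem diagForm_isSesq (σ : F ≃+* F) (P : GL ι F) : IsSesq σ (diagForm σ P) where
  add_left x y v := by simp [diagForm, Matrix.mulVec_add, add_dotProduct]
  smul_left c x v := by simp [diagForm, Matrix.mulVec_smul, smul_dotProduct]
  add_right v x y := by
    simp only [diagForm, Matrix.mulVec_add, Pi.add_apply, map_add]
    exact dotProduct_add _ _ _
  smul_right c v x := by
    simp only [diagForm, Matrix.mulVec_smul, Pi.smul_apply, smul_eq_mul, map_mul]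
    exact dotProduct_smul (σ c) _ _

theorem diagForm_nondeg (σ : F ≃+* F) (P : GL ι F) :
    Cfsg.Geo.IsNondegenerateForm (diagForm σ P) := by
  intro v hv
  have h0 : mat P⁻¹ *ᵥ v ≠ 0 := fun h => hv (mulVec_injective P⁻¹ (by simpa using h))
  obtain ⟨i, hi⟩ := Function.ne_iff.1 h0
  refine ⟨⟨mat P *ᵥ Pi.single i 1, ?_⟩, ⟨mat P *ᵥ Pi.single i 1, ?_⟩⟩
  · show (mat P⁻¹ *ᵥ (mat P *ᵥ Pi.single i 1)) ⬝ᵥ _ ≠ 0
    rw [inv_mulVec_mulVec, single_dotProduct, one_mul]
    simpa using hi
  · show _ ⬝ᵥ (fun k => σ ((mat P⁻¹ *ᵥ (mat P *ᵥ Pi.single i 1)) k)) ≠ 0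
    have hs : (fun k => σ ((Pi.single i (1 : F) : ι → F) k)) = Pi.single i 1 := by
      funext k
      by_cases hk : k = i <;> simp [hk]
    rw [inv_mulVec_mulVec, hs, dotProduct_single, mul_one]
    simpa using hi

theorem diagForm_isUnitary {σ : F ≃+* F} (hne : σ ≠ RingEquiv.refl F) (hinv : ∀ a, σ (σ a) = a)
    (P : GL ι F) : Cfsg.Geo.IsUnitaryForm σ (diagForm σ P) := by
  refine ⟨hne, hinv, (diagForm_isSesq σ P).add_left, (diagForm_isSesq σ P).smul_left, fun v w => ?_,
    diagForm_nondeg σ P⟩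
  simp [diagForm, dotProduct, map_sum, hinv, mul_comm]

/-- A monomial matrix whose entries have norm one is an isometry of the standard form. -/
theorem monomialMat_isometry (σ : F ≃+* F) (π : Equiv.Perm ι) {d : ι → F}
    (hd : ∀ i, d i * σ (d i) = 1) (x y : ι → F) :
    (monomialMat π d *ᵥ x) ⬝ᵥ (fun i => σ ((monomialMat π d *ᵥ y) i)) =
      x ⬝ᵥ fun i => σ (y i) := by
  have hmv : ∀ (z : ι → F) (i : ι), (monomialMat π d *ᵥ z) i = d i * z (π i) := fun z i => by
    simp [monomialMat, Matrix.mulVec, dotProduct, ite_mul]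
  simp only [dotProduct, hmv, map_mul]
  calc ∑ i, d i * x (π i) * (σ (d i) * σ (y (π i)))
      = ∑ i, x (π i) * σ (y (π i)) :=
        Finset.sum_congr rfl fun i _ => by linear_combination (x (π i) * σ (y (π i))) * hd i
    _ = ∑ i, x i * σ (y i) := Equiv.sum_comp π fun i => x i * σ (y i)

theorem diagForm_isometry {σ : F ≃+* F} {P g : GL ι F} {π : Equiv.Perm ι} {d : ι → F}
    (hg : mat P⁻¹ * mat g * mat P = monomialMat π d) (hd : ∀ i, d i * σ (d i) = 1) (x y : ι → F) :
    diagForm σ P (mat g *ᵥ x) (mat g *ᵥ y) = diagForm σ P x y := by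
  have e : ∀ z, mat P⁻¹ *ᵥ (mat g *ᵥ z) = monomialMat π d *ᵥ (mat P⁻¹ *ᵥ z) := fun z => by
    rw [← hg, Matrix.mulVec_mulVec, Matrix.mulVec_mulVec, mul_assoc (mat P⁻¹ * mat g),
      mat_mul_inv, mul_one]
  simp only [diagForm, e]
  exact monomialMat_isometry σ π hd _ _

/-- The Frobenius power `x ↦ x ^ p ^ k` as an automorphism of a finite field. -/
noncomputable def frobEquiv (F : Type*) [Field F] [Finite F] (p : ℕ) [ExpChar F p] (k : ℕ) :
    F ≃+* F :=
  RingEquiv.ofBijective (iterateFrobenius F p k)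
    (Finite.injective_iff_bijective.1 (iterateFrobenius F p k).injective)

theorem frobEquiv_apply {F : Type*} [Field F] [Finite F] (p : ℕ) [ExpChar F p] (k : ℕ) (x : F) :
    frobEquiv F p k x = x ^ p ^ k := rfl

/-- The field alternatives for a Heisenberg group. -/
theorem heisenberg_cases [Fintype F] {r : ℕ} (hr : r.Prime) (hodd : Odd r)
    {H R : Subgroup (GL ι F)} [Nonempty ι] {ω : F} (hR : IsHeisenberg r R ω)
    (hn : Normalizes H R) :
    (∃ (F₁ : Subfield F) (s : ℕ) (P : GL ι F), s.Prime ∧ Fintype.card F = Nat.card F₁ ^ s ∧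
      H ≤ Cfsg.Geo.subfieldSubgroup F₁ P) ∨
    (∃ p e : ℕ, p.Prime ∧ CharP F p ∧ Fintype.card F = p ^ e ∧ orderOf (p : ZMod r) = e ∧
      ((Odd e ∧ Cfsg.Geo.IsLinearSymplecticTypeData r R) ∨
       (Even e ∧ ∃ (σ : F ≃+* F) (f : (ι → F) → (ι → F) → F), Cfsg.Geo.IsUnitaryForm σ f ∧
          Cfsg.Geo.FixesForm (Cfsg.Geo.matrixSet R) f))) := by
  classical
  haveI : Fact r.Prime := ⟨hr⟩
  obtain ⟨p, hchar⟩ := CharP.exists F
  haveI := hchar
  haveI : Fact p.Prime := ⟨CharP.char_is_prime F p⟩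
  haveI : ExpChar F p := ExpChar.prime Fact.out
  obtain ⟨a, hp, ha⟩ := FiniteField.card F p
  have hω := hR.primitive
  have hωu : ω ≠ 0 := hω.ne_zero hr.ne_zero
  have hdiv : r ∣ p ^ (a : ℕ) - 1 := by
    have h1 : ω ^ (Fintype.card F - 1) = 1 := FiniteField.pow_card_sub_one_eq_one ω hωu
    rw [ha] at h1
    exact hω.dvd_of_pow_eq_one _ h1
  have hcast : ∀ k : ℕ, (p : ZMod r) ^ k = 1 ↔ r ∣ p ^ k - 1 := fun k => by
    rw [← ZMod.natCast_eq_zero_iff, Nat.cast_sub (Nat.one_le_pow _ _ hp.pos), sub_eq_zero,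
      Nat.cast_pow, Nat.cast_one]
  obtain ⟨e, he⟩ : ∃ e, orderOf (p : ZMod r) = e := ⟨_, rfl⟩
  have hea : e ∣ a := he ▸ orderOf_dvd_of_pow_eq_one ((hcast a).2 hdiv)
  have he0 : 0 < e := Nat.pos_of_dvd_of_pos hea a.pos
  obtain ⟨B, hB⟩ := hR.monomial
  rcases (Nat.le_of_dvd a.pos hea).lt_or_eq with hlt | heq
  · left
    let F₀ : Subfield F := (iterateFrobenius F p e).eqLocusField (RingHom.id F)
    have hωe : ω ^ p ^ e = ω := by
      have h1 : ω ^ (p ^ e - 1) = 1 :=
        (hω.pow_eq_one_iff_dvd _).2 ((hcast e).1 (he ▸ pow_orderOf_eq_one _))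
      calc ω ^ p ^ e = ω ^ (p ^ e - 1) * ω := by
            rw [← pow_succ, Nat.sub_add_cancel (Nat.one_le_pow _ _ hp.pos)]
        _ = ω := by rw [h1, one_mul]
    have hne : F₀ ≠ ⊤ := by
      intro htop
      obtain ⟨g, hg⟩ := IsCyclic.exists_generator (α := Fˣ)
      have h1 : (g : F) ^ p ^ e = g := by
        have : (g : F) ∈ F₀ := htop ▸ trivial
        exact this
      have h2 : g ^ (p ^ e - 1) = 1 := by
        apply Units.ext
        rw [Units.val_pow_eq_pow_val, Units.val_one]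
        rw [← Nat.sub_add_cancel (Nat.one_le_pow e p hp.pos), pow_succ] at h1
        exact (mul_eq_right₀ g.ne_zero).1 h1
      have h3 : Fintype.card F - 1 ∣ p ^ e - 1 := by
        rw [← Fintype.card_units, ← Nat.card_eq_fintype_card,
          ← orderOf_eq_card_of_forall_mem_zpowers hg]
        exact orderOf_dvd_of_pow_eq_one h2
      have h4 : 1 < p ^ e := Nat.one_lt_pow he0.ne' hp.one_lt
      have h5 := Nat.le_of_dvd (by omega) h3
      have h6 : p ^ e < p ^ (a : ℕ) := Nat.pow_lt_pow_right hp.one_lt hlt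
      omega
    refine exists_subfieldSubgroup hne hR.absIrred ⟨B, forall_matrixSet.2 fun x hx i j => ?_⟩ hn
    obtain ⟨π, d, hd, hm⟩ := hB x hx
    show (mat B * mat x * mat B⁻¹) i j ∈ F₀
    rw [hm]
    simp only [monomialMat, Matrix.of_apply]
    split_ifs
    · obtain ⟨k, -, hk⟩ := hω.eq_pow_of_pow_eq_one (hd i)
      rw [← hk]
      exact F₀.pow_mem (show ω ∈ F₀ from hωe) k
    · exact F₀.zero_mem
  · right
    refine ⟨p, e, hp, hchar, heq ▸ ha, he, ?_⟩
    have hrp : r ≠ p := by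
      rintro rfl
      obtain ⟨k, hk⟩ := hdiv
      have h2 : r ∣ r ^ (a : ℕ) := dvd_pow_self r a.pos.ne'
      have h3 : r ∣ 1 := by
        have h4 : r ^ (a : ℕ) = r * k + 1 := by
          have := Nat.one_le_pow (a : ℕ) r hr.pos
          omega
        rw [h4] at h2
        exact (Nat.dvd_add_right (dvd_mul_right r k)).1 h2
      exact hr.ne_one (Nat.dvd_one.1 h3)
    rcases Nat.even_or_odd e with hev | hod
    · right
      refine ⟨hev, ?_⟩
      obtain ⟨h, hh⟩ := hev
      have hpe : (p : ZMod r) ^ e = 1 := he ▸ pow_orderOf_eq_one _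
      have hph : (p : ZMod r) ^ h = -1 := by
        have h1 : ((p : ZMod r) ^ h) * ((p : ZMod r) ^ h) = 1 := by rw [← pow_add, ← hh, hpe]
        rcases mul_self_eq_one_iff.1 h1 with h2 | h2
        · have h3 := Nat.le_of_dvd (by omega) (he ▸ orderOf_dvd_of_pow_eq_one h2)
          omega
        · exact h2
      have hdvd : r ∣ p ^ h + 1 := by
        rw [← ZMod.natCast_eq_zero_iff, Nat.cast_add, Nat.cast_pow, hph]
        simp
      let σ := frobEquiv F p h
      have hσω : ∀ c : F, c ^ r = 1 → c * σ c = 1 := fun c hc => by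
        obtain ⟨k, hk⟩ := hdvd
        rw [frobEquiv_apply, ← pow_succ', hk, pow_mul, hc, one_pow]
      have hne : σ ≠ RingEquiv.refl F := by
        intro h1
        have h2 := hσω ω hω.pow_eq_one
        rw [h1, RingEquiv.refl_apply] at h2
        have h3 : ω ^ 2 = 1 := by rw [pow_two]; exact h2
        have h4 := Nat.le_of_dvd two_pos (hω.dvd_of_pow_eq_one 2 h3)
        have h5 := hr.two_le
        have h6 : r = 2 := by omega
        subst h6
        exact absurd hodd (by decide)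
      have hinv : ∀ c : F, σ (σ c) = c := fun c => by
        rw [frobEquiv_apply, frobEquiv_apply, ← pow_mul, ← pow_add, ← hh, heq, ← ha,
          FiniteField.pow_card]
      refine ⟨σ, diagForm σ B⁻¹, diagForm_isUnitary hne hinv _, forall_matrixSet.2 fun x hx u v => ?_⟩
      obtain ⟨π, d, hd, hm⟩ := hB x hx
      exact diagForm_isometry (by rw [inv_inv]; exact hm) (fun i => hσω _ (hd i)) u v
    · left
      refine ⟨hod, hR.symplecticType, hR.absIrred, p, e, hrp, ⟨hp, hchar, heq ▸ ha, ?_, fun d hd hde hdd => ?_⟩,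
        Or.inl ⟨hodd, hod, hR.card_center, 1, le_rfl, hR.card_eq⟩⟩
      · rw [hR.card_center, heq]; exact hdiv
      · rw [hR.card_center] at hdd
        have h3 := Nat.le_of_dvd hd (he ▸ orderOf_dvd_of_pow_eq_one ((hcast d).2 hdd))
        omega

end CfsgLib.Aschbacher
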