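import Cfsg.Agent.Aschbacher.Reduce

/-!
Over the field with two elements: decompositions into planes lie in a symplectic group, and tensor decompositions
with a factor of dimension two normalise an extension field of degree two.
-/

set_option autoImplicit false

namespace CfsgLib.Aschbacher

open Matrix
open scoped Kronecker

variable {ι : Type} [Fintype ι] [DecidableEq ι] {F : Type*} [Field F]

theorem eq_zero_or_one_of_card_two [Fintype F] (hq : Fintype.card F = 2) (x : F) : x = 0 ∨ x = 1 := by
  rcases eq_or_ne x 0 with h | h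
  · exact Or.inl h
  · have := FiniteField.pow_card_sub_one_eq_one x h
    rw [hq, pow_one] at this
    exact Or.inr this

theorem two_eq_zero_of_card_two [Fintype F] (hq : Fintype.card F = 2) : (1 : F) + 1 = 0 :=
  (eq_zero_or_one_of_card_two hq (1 + 1)).resolve_right fun h =>
    one_ne_zero (add_left_cancel (h.trans (add_zero 1).symm))

/-- Over the field with two elements a decomposition into planes carries an invariant symplectic form. -/
theorem pairs_small_field [Fintype F] (hq : Fintype.card F = 2) {t : ℕ}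
    {D : Fin t → Submodule F (ι → F)} (hD : Cfsg.Geo.IsMDecomposition 2 D) :
    ∃ f : (ι → F) → (ι → F) → F, Cfsg.Geo.IsSymplecticForm f ∧
      Cfsg.Geo.decompositionStabilizer D ≤ Cfsg.Geo.similarityGroup f := by
  classical
  let w : ∀ i, Module.Basis (Fin 2) F (D i) := fun i => Module.finBasisOfFinrankEq F (D i) (hD.finrank_eq i)
  have hint : DirectSum.IsInternal D :=
    DirectSum.isInternal_submodule_of_iSupIndep_of_iSup_eq_top hD.indep hD.iSup_eq_top
  let B := hint.collectedBasis w
  let co : (ι → F) → Fin t → Fin 2 → F := fun u i k => B.repr u ⟨i, k⟩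
  let f : (ι → F) → (ι → F) → F := fun u v => ∑ i, (co u i 0 * co v i 1 - co u i 1 * co v i 0)
  have hadd : ∀ u v i k, co (u + v) i k = co u i k + co v i k := fun u v i k => by simp [co]
  have hsmul : ∀ (c : F) u i k, co (c • u) i k = c * co u i k := fun c u i k => by simp [co]
  have hB : ∀ j l i k, co (B ⟨j, l⟩) i k = if i = j ∧ k = l then 1 else 0 := by
    intro j l i k
    simp only [co, B.repr_self, Finsupp.single_apply]
    rcases eq_or_ne i j with rfl | hij
    · rcases eq_or_ne k l with rfl | hkl
      · simp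
      · simp [hkl, Ne.symm hkl]
    · simp [hij, Ne.symm hij]
  refine ⟨f, ⟨⟨?_, ?_, ?_, ?_⟩, fun v u => ?_, fun v => ?_, fun v hv => ?_⟩, fun g hg => ?_⟩
  · intro x y v
    simp only [f, hadd, ← Finset.sum_add_distrib]
    exact Finset.sum_congr rfl fun i _ => by ring
  · intro c x v
    simp only [f, hsmul, Finset.mul_sum]
    exact Finset.sum_congr rfl fun i _ => by ring
  · intro v x y
    simp only [f, hadd, ← Finset.sum_add_distrib]
    exact Finset.sum_congr rfl fun i _ => by ring
  · intro c v x
    simp only [f, hsmul, Finset.mul_sum]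
    exact Finset.sum_congr rfl fun i _ => by ring
  · simp only [f, ← Finset.sum_neg_distrib]
    exact Finset.sum_congr rfl fun i _ => by ring
  · exact Finset.sum_eq_zero fun i _ => by ring
  · obtain ⟨j, l, hjl⟩ : ∃ j l, co v j l ≠ 0 := by
      by_contra hall
      simp only [not_exists, not_not] at hall
      refine hv (B.repr.injective ?_)
      rw [map_zero]
      ext ⟨i, k⟩
      exact hall i k
    have key : ∀ k, co v j k ≠ 0 → (∃ x, f x v ≠ 0) ∧ ∃ x, f v x ≠ 0 := by
      intro k hk
      obtain ⟨l', hl'⟩ : ∃ l' : Fin 2, (k = 0 ∧ l' = 1) ∨ (k = 1 ∧ l' = 0) := by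
        fin_cases k
        · exact ⟨1, Or.inl ⟨rfl, rfl⟩⟩
        · exact ⟨0, Or.inr ⟨rfl, rfl⟩⟩
      refine ⟨⟨B ⟨j, l'⟩, ?_⟩, ⟨B ⟨j, l'⟩, ?_⟩⟩ <;>
      · simp only [f]
        rw [Fintype.sum_eq_single j (fun i hi => by simp [hB, hi])]
        rcases hl' with ⟨rfl, rfl⟩ | ⟨rfl, rfl⟩ <;> simpa [hB] using hk
    exact key l hjl
  · obtain ⟨σ, hσ⟩ := hg
    let M : Fin t → Matrix (Fin 2) (Fin 2) F := fun i => Matrix.of fun l k =>
      (w (σ i)).repr ⟨mat g *ᵥ (w i k).1, map_le_iff.1 (hσ i).le _ (w i k).2⟩ l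
    have hco : ∀ u i l, co (mat g *ᵥ u) (σ i) l = ∑ k, M i l k * co u i k := by
      intro u i l
      have hg1 : ∀ j k, mat g *ᵥ (w j k).1 = ∑ l', M j l' k • (w (σ j) l').1 := by
        intro j k
        have h1 := congrArg Subtype.val
          ((w (σ j)).sum_repr ⟨mat g *ᵥ (w j k).1, map_le_iff.1 (hσ j).le _ (w j k).2⟩)
        rw [Submodule.coe_sum] at h1
        exact h1.symm
      have hBw : ∀ j k, (B ⟨j, k⟩ : ι → F) = (w j k).1 := fun j k => by
        simp [B, DirectSum.IsInternal.collectedBasis_coe]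
      conv_lhs => rw [← B.sum_repr u]
      rw [Matrix.mulVec_sum, Fintype.sum_sigma]
      simp only [Matrix.mulVec_smul, hBw, hg1]
      simp only [← hBw]
      have hlin : ∀ (s : Finset (Fin t)) (y : Fin t → ι → F), co (∑ j ∈ s, y j) (σ i) l =
          ∑ j ∈ s, co (y j) (σ i) l := fun s y => by simp [co, map_sum, Finset.sum_apply']
      have hlin2 : ∀ (y : Fin 2 → ι → F), co (∑ j, y j) (σ i) l = ∑ j, co (y j) (σ i) l :=
        fun y => by simp [co, map_sum, Finset.sum_apply']
      rw [hlin]
      simp only [hlin2, hsmul, hB, σ.injective.eq_iff]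
      rw [Fintype.sum_eq_single i (fun j hj => by simp [hj.symm])]
      refine Finset.sum_congr rfl fun k _ => ?_
      rw [Fintype.sum_eq_single l (fun l' hl' => by simp [hl'.symm])]
      simp [co, mul_comm]
    have hdet : ∀ i, (M i).det = 1 := by
      intro i
      refine (eq_zero_or_one_of_card_two hq _).resolve_left fun h0 => ?_
      obtain ⟨x, hx, hMx⟩ := Matrix.exists_mulVec_eq_zero_iff.2 h0
      let u : ι → F := ∑ k, x k • (w i k).1
      have hu : u ≠ 0 := by
        intro hu
        have h1 : (∑ k, x k • w i k : D i) = 0 := Subtype.ext (by rw [Submodule.coe_sum]; exact hu)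
        exact hx (funext fun k => Fintype.linearIndependent_iff.1 (w i).linearIndependent x h1 k)
      apply hu
      apply mulVec_injective g
      show mat g *ᵥ u = mat g *ᵥ 0
      rw [Matrix.mulVec_zero]
      have hmem : mat g *ᵥ u ∈ D (σ i) := map_le_iff.1 (hσ i).le _
        (Submodule.sum_mem _ fun k _ => Submodule.smul_mem _ _ (w i k).2)
      have h2 : (⟨mat g *ᵥ u, hmem⟩ : D (σ i)) = ∑ k, x k • (⟨mat g *ᵥ (w i k).1,
          map_le_iff.1 (hσ i).le _ (w i k).2⟩ : D (σ i)) := by
        apply Subtype.ext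
        rw [Submodule.coe_sum]
        simp only [u, Matrix.mulVec_sum, Matrix.mulVec_smul, SetLike.val_smul]
      have h3 : (w (σ i)).repr ⟨mat g *ᵥ u, hmem⟩ = 0 := by
        ext l
        rw [h2, map_sum, Finset.sum_apply', Finsupp.coe_zero, Pi.zero_apply]
        have h4 := congrFun hMx l
        rw [Matrix.mulVec, dotProduct] at h4
        rw [← Pi.zero_apply (M := fun _ => F) l, ← h4]
        exact Finset.sum_congr rfl fun k _ => by rw [map_smul, Finsupp.smul_apply, smul_eq_mul, mul_comm]; rfl
      exact congrArg Subtype.val ((w (σ i)).repr.map_eq_zero_iff.1 h3)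
    refine ⟨1, fun u v => ?_⟩
    rw [Units.val_one, one_mul]
    simp only [f]
    rw [← Equiv.sum_comp σ]
    refine Finset.sum_congr rfl fun i _ => ?_
    simp only [hco, Fin.sum_univ_two]
    have h1 := hdet i
    rw [Matrix.det_fin_two] at h1
    linear_combination (co u i 0 * co v i 1 - co u i 1 * co v i 0) * h1

/-- The matrix of order three in `GL 2 2`. -/
def singerTwo (F : Type*) [Field F] : Matrix (Fin 2) (Fin 2) F := !![0, 1; 1, 1]

/- Over the field with two elements a tensor decomposition with a factor of dimension two normalises an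
extension field of degree two. -/
set_option maxHeartbeats 1000000 in
theorem tensor_small_field [Fintype F] [Nonempty ι] (hq : Fintype.card F = 2) {d : ℕ}
    (e : ι ≃ Fin 2 × Fin d) (P : GL ι F) :
    ∃ K : Subalgebra F (Matrix ι ι F), Cfsg.Geo.IsFieldSubalgebra 2 K ∧
      Cfsg.Geo.tensorProductSubgroup 2 d e P ≤ Cfsg.Geo.subalgebraNormalizer K := by
  classical
  have h11 := two_eq_zero_of_card_two hq
  have hd : 0 < d := (e (Classical.arbitrary ι)).2.pos
  let K₂ := Subalgebra.centralizer F ({singerTwo F} : Set (Matrix (Fin 2) (Fin 2) F))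
  have hmem : ∀ x, x ∈ K₂ ↔ x 1 0 = x 0 1 ∧ x 1 1 = x 0 0 + x 0 1 := by
    intro x
    rw [Subalgebra.mem_centralizer_iff]
    simp only [Set.mem_singleton_iff, forall_eq]
    constructor
    · intro h
      have e1 := congrFun (congrFun h 0) 0
      have e2 := congrFun (congrFun h 0) 1
      simp [singerTwo, Matrix.mul_apply, Fin.sum_univ_two] at e1 e2
      exact ⟨e1, e2⟩
    · rintro ⟨h1, h2⟩
      ext i j
      fin_cases i <;> fin_cases j <;> simp [singerTwo, Matrix.mul_apply, Fin.sum_univ_two, h1, h2] <;> ring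
  let L : Matrix (Fin 2) (Fin 2) F →ₐ[F] Matrix ι ι F :=
    (tensorEquiv e P).toAlgHom.comp
      { toFun := fun a => a ⊗ₖ (1 : Matrix (Fin d) (Fin d) F)
        map_one' := Matrix.one_kronecker_one
        map_mul' := fun a a' => by rw [← Matrix.mul_kronecker_mul, mul_one]
        map_zero' := Matrix.zero_kronecker _
        map_add' := fun a a' => Matrix.add_kronecker _ _ _
        commutes' := fun c => by
          rw [Algebra.algebraMap_eq_smul_one, Algebra.algebraMap_eq_smul_one, Matrix.smul_kronecker,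
            Matrix.one_kronecker_one] }
  have hL : Function.Injective L := fun a a' h => by
    ext u v
    have := congrFun (congrFun ((tensorEquiv e P).injective h) (u, ⟨0, hd⟩)) (v, ⟨0, hd⟩)
    simpa using this
  refine ⟨K₂.map L, ⟨?_, ?_, ?_⟩, fun g hg => mem_subalgebraNormalizer_of ?_⟩
  · rintro _ ⟨x, hx, rfl⟩ _ ⟨y, hy, rfl⟩
    show L x * L y = L y * L x
    rw [← map_mul, ← map_mul]
    congr 1
    obtain ⟨hx1, hx2⟩ := (hmem x).1 hx
    obtain ⟨hy1, hy2⟩ := (hmem y).1 hy
    ext i j
    fin_cases i <;> fin_cases j <;> simp [Matrix.mul_apply, Fin.sum_univ_two, hx1, hx2, hy1, hy2] <;> ring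
  · rintro _ ⟨x, hx, rfl⟩ hx0
    obtain ⟨hx1, hx2⟩ := (hmem x).1 hx
    have hxdet : x.det = 1 := by
      refine (eq_zero_or_one_of_card_two hq _).resolve_left fun h0 => hx0 ?_
      rw [Matrix.det_fin_two, hx1, hx2] at h0
      have hx' : x = 0 := by
        rcases eq_zero_or_one_of_card_two hq (x 0 0) with ha | ha <;>
        rcases eq_zero_or_one_of_card_two hq (x 0 1) with hb | hb <;>
        simp [ha, hb, h11] at h0
        ext i j
        fin_cases i <;> fin_cases j <;> simp [ha, hb, hx1, hx2]
      rw [hx', map_zero]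
    have hadj : x.adjugate ∈ K₂ := by
      rw [hmem, Matrix.adjugate_fin_two]
      have hneg : ∀ c : F, -c = c := fun c => by
        rw [neg_eq_iff_add_eq_zero, ← two_mul, ← one_add_one_eq_two, h11, zero_mul]
      simp [hx1, hx2, hneg, add_assoc]
      all_goals grind
    refine ⟨L x.adjugate, ⟨_, hadj, rfl⟩, ?_⟩
    show L x * L x.adjugate = 1
    rw [← map_mul, Matrix.mul_adjugate, hxdet, one_smul, map_one]
  · rw [← (Subalgebra.equivMapOfInjective K₂ L hL).toLinearEquiv.finrank_eq]
    let E : (F × F) ≃ₗ[F] K₂ :=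
      { toFun := fun p => ⟨!![p.1, p.2; p.2, p.1 + p.2], (hmem _).2 ⟨by simp, by simp⟩⟩
        invFun := fun x => (x.1 0 0, x.1 0 1)
        map_add' := fun p p' => Subtype.ext (by
          ext i j; fin_cases i <;> fin_cases j <;> simp [add_add_add_comm])
        map_smul' := fun c p => Subtype.ext (by
          ext i j; fin_cases i <;> fin_cases j <;> simp [mul_add])
        left_inv := fun p => by simp
        right_inv := fun x => by
          obtain ⟨h1, h2⟩ := (hmem x.1).1 x.2
          apply Subtype.ext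
          ext i j; fin_cases i <;> fin_cases j <;> simp [h1, h2] }
    rw [← E.finrank_eq]; simp
  · obtain ⟨a, b, hab⟩ := exists_of_mem_tensorProductSubgroup hg
    have hinv : mat g⁻¹ = tensorEquiv e P (mat a⁻¹ ⊗ₖ mat b⁻¹) := by
      refine left_inv_eq_right_inv (mat_inv_mul g) ?_
      rw [hab, ← map_mul, ← Matrix.mul_kronecker_mul, mat_mul_inv, mat_mul_inv,
        Matrix.one_kronecker_one, map_one]
    rintro _ ⟨x, hx, rfl⟩
    refine ⟨mat a * x * mat a⁻¹, ?_, ?_⟩
    · show _ ∈ K₂
      obtain ⟨hx1, hx2⟩ := (hmem x).1 hx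
      have hx' : x = x 0 0 • 1 + x 0 1 • singerTwo F := by
        ext i j
        fin_cases i <;> fin_cases j <;> simp [singerTwo, hx1, hx2]
      have hdet : (mat a).det = 1 :=
        (eq_zero_or_one_of_card_two hq _).resolve_left
          ((Matrix.isUnit_iff_isUnit_det _).1 a.isUnit).ne_zero
      have hai : mat a⁻¹ = (mat a).adjugate := left_inv_eq_right_inv (mat_inv_mul a) (by
        rw [Matrix.mul_adjugate, hdet, one_smul])
      have hw : mat a * singerTwo F * mat a⁻¹ ∈ K₂ := by
        rw [hai, hmem, Matrix.adjugate_fin_two]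
        rw [Matrix.det_fin_two] at hdet
        rcases eq_zero_or_one_of_card_two hq (mat a 0 0) with ha | ha <;>
        rcases eq_zero_or_one_of_card_two hq (mat a 0 1) with hb | hb <;>
        rcases eq_zero_or_one_of_card_two hq (mat a 1 0) with hc | hc <;>
        rcases eq_zero_or_one_of_card_two hq (mat a 1 1) with he | he <;>
        simp [ha, hb, hc, he] at hdet <;>
        simp [singerTwo, Matrix.mul_apply, Fin.sum_univ_two, ha, hb, hc, he, h11] <;>
        grind
      rw [hx', Matrix.mul_add, Matrix.add_mul, Matrix.mul_smul, Matrix.mul_smul, Matrix.smul_mul,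
        Matrix.smul_mul, mul_one, mat_mul_inv]
      exact K₂.add_mem (K₂.smul_mem K₂.one_mem _) (K₂.smul_mem hw _)
    · show tensorEquiv e P ((mat a * x * mat a⁻¹) ⊗ₖ 1) = mat g * tensorEquiv e P (x ⊗ₖ 1) * mat g⁻¹
      rw [hab, hinv, ← map_mul, ← map_mul, ← Matrix.mul_kronecker_mul, ← Matrix.mul_kronecker_mul,
        mul_one, mat_mul_inv]

end CfsgLib.Aschbacher
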