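import Cfsg.Agent.Aschbacher.LinearPrime
import Cfsg.Agent.Aschbacher.SmallField

/-!
The list of maximal subgroups of the special linear group in composite dimension, up to the residual class.
-/

set_option autoImplicit false

namespace CfsgLib.Aschbacher

open Matrix

variable {ι : Type} [Fintype ι] [DecidableEq ι] {F : Type*} [Field F]

/-- A group with a simple core preserves a subfield structure or a form, or lies in the residual class. -/
theorem residual_or_form_general [Fintype F] (h2 : 2 ≤ Fintype.card ι) {H P : Subgroup (GL ι F)}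
    (hP : IsSimpleCore H P) :
    (∃ (F₀ : Subfield F) (r : ℕ) (B : GL ι F), r.Prime ∧ Fintype.card F = Nat.card F₀ ^ r ∧
      H ≤ Cfsg.Geo.subfieldSubgroup F₀ B) ∨
    (Odd (Fintype.card F) ∧ ∃ Q : (ι → F) → F, Cfsg.Geo.IsNondegenerateQuadraticForm Q ∧
      H ≤ Cfsg.Geo.quadSimilarityGroup Q) ∨
    (∃ f : (ι → F) → (ι → F) → F, Cfsg.Geo.IsSymplecticForm f ∧ H ≤ Cfsg.Geo.similarityGroup f) ∨
    (∃ (σ : F ≃+* F) (f : (ι → F) → (ι → F) → F), Cfsg.Geo.IsUnitaryForm σ f ∧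
      H ≤ Cfsg.Geo.similarityGroup f) ∨
    Cfsg.Geo.InLinearResidualClass H := by
  haveI : Nonempty ι := Fintype.card_pos_iff.1 (by omega)
  by_cases hF : ∃ F₀ : Subfield F, F₀ ≠ ⊤ ∧ Cfsg.Geo.RealisableOver F₀ (Cfsg.Geo.matrixSet P)
  · obtain ⟨F₀, h0, hreal⟩ := hF
    exact Or.inl (exists_subfieldSubgroup h0 hP.absIrred hreal hP.normal)
  by_cases hS : ∃ f : (ι → F) → (ι → F) → F, Cfsg.Geo.IsSymplecticForm f ∧
      Cfsg.Geo.FixesForm (Cfsg.Geo.matrixSet P) f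
  · obtain ⟨f, hf, hfix⟩ := hS
    exact Or.inr (Or.inr (Or.inl ⟨f, hf,
      normalizer_le_similarityGroup (isSesq_of_bilinear hf.bilinear) hf.nondegenerate hP.absIrred hfix
        hP.normal⟩))
  by_cases hQ : ∃ Q : (ι → F) → F, Cfsg.Geo.IsNondegenerateQuadraticForm Q ∧
      Cfsg.Geo.FixesQuadForm (Cfsg.Geo.matrixSet P) Q
  · obtain ⟨Q, hQ, hfix⟩ := hQ
    have hodd : Odd (Fintype.card F) := by
      rw [Nat.odd_iff]
      refine FiniteField.odd_card_of_char_ne_two fun hchar => hS ?_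
      haveI := ringChar.of_eq hchar
      refine ⟨QuadraticMap.polar Q, ⟨hQ.polar_bilinear, fun v w => ?_, fun v => ?_, hQ.nondegenerate⟩,
        fun s hs u v => ?_⟩
      · rw [CharTwo.neg_eq, QuadraticMap.polar_comm]
      · rw [quad_polar_self hQ, CharTwo.two_eq_zero, zero_mul]
      · simp only [QuadraticMap.polar, ← Matrix.mulVec_add, hfix s hs]
    exact Or.inr (Or.inl ⟨hodd, Q, hQ,
      normalizer_le_quadSimilarityGroup h2 hQ hP.absIrred hfix hP.normal⟩)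
  by_cases hU : ∃ (σ : F ≃+* F) (f : (ι → F) → (ι → F) → F), Cfsg.Geo.IsUnitaryForm σ f ∧
      Cfsg.Geo.FixesForm (Cfsg.Geo.matrixSet P) f
  · obtain ⟨σ, f, hf, hfix⟩ := hU
    exact Or.inr (Or.inr (Or.inr (Or.inl ⟨σ, f, hf,
      normalizer_le_similarityGroup (isSesq_of_unitary hf) hf.nondegenerate hP.absIrred hfix
        hP.normal⟩)))
  exact Or.inr (Or.inr (Or.inr (Or.inr
    ⟨P, hP.toResidualCore fun F₀ h0 hr => hF ⟨F₀, h0, hr⟩, hQ, hS, hU⟩)))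

/-- Maximal subgroups of the special linear group in a dimension which is neither a prime power nor a proper
power. -/
theorem linear_composite_cases [Fintype F] (h3 : 3 ≤ Fintype.card ι)
    (hpp : ∀ r m : ℕ, r.Prime → Fintype.card ι ≠ r ^ m)
    (hpow : ∀ d t : ℕ, 2 ≤ d → 2 ≤ t → Fintype.card ι ≠ d ^ t)
    {H : Subgroup (GL ι F)} (hH : Cfsg.Geo.IsMaximalIn (Cfsg.Geo.specialLinear ι F) H) :
    (∃ W : Submodule F (ι → F), W ≠ ⊥ ∧ W ≠ ⊤ ∧
      H = Cfsg.Geo.subspaceStabilizer W ⊓ Cfsg.Geo.specialLinear ι F) ∨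
    (∃ (t m : ℕ) (D : Fin t → Submodule F (ι → F)), t * m = Fintype.card ι ∧
      Cfsg.Geo.IsMDecomposition m D ∧ (m = 1 → 5 ≤ Fintype.card F) ∧ (m = 2 → 3 ≤ Fintype.card F) ∧
      H = Cfsg.Geo.decompositionStabilizer D ⊓ Cfsg.Geo.specialLinear ι F) ∨
    (∃ (r : ℕ) (K : Subalgebra F (Matrix ι ι F)), r.Prime ∧ r ∣ Fintype.card ι ∧
      Cfsg.Geo.IsFieldSubalgebra r K ∧
      H = Cfsg.Geo.subalgebraNormalizer K ⊓ Cfsg.Geo.specialLinear ι F) ∨
    (∃ (k d : ℕ) (e : ι ≃ Fin k × Fin d) (P : GL ι F), 2 ≤ k ∧ k ≤ d ∧ k * d = Fintype.card ι ∧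
      (k = 2 → 3 ≤ Fintype.card F) ∧
      H = Cfsg.Geo.tensorProductSubgroup k d e P ⊓ Cfsg.Geo.specialLinear ι F) ∨
    (∃ (F₀ : Subfield F) (r : ℕ) (P : GL ι F), r.Prime ∧ Fintype.card F = Nat.card F₀ ^ r ∧
      H = Cfsg.Geo.subfieldSubgroup F₀ P ⊓ Cfsg.Geo.specialLinear ι F) ∨
    (Odd (Fintype.card F) ∧ ∃ Q : (ι → F) → F, Cfsg.Geo.IsNondegenerateQuadraticForm Q ∧
      H = Cfsg.Geo.quadSimilarityGroup Q ⊓ Cfsg.Geo.specialLinear ι F) ∨
    (∃ f : (ι → F) → (ι → F) → F, Cfsg.Geo.IsSymplecticForm f ∧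
      H = Cfsg.Geo.similarityGroup f ⊓ Cfsg.Geo.specialLinear ι F) ∨
    (∃ (σ : F ≃+* F) (f : (ι → F) → (ι → F) → F), Cfsg.Geo.IsUnitaryForm σ f ∧
      H = Cfsg.Geo.similarityGroup f ⊓ Cfsg.Geo.specialLinear ι F) ∨
    Cfsg.Geo.InLinearResidualClass H := by
  classical
  haveI : Nonempty ι := Fintype.card_pos_iff.1 (by omega)
  have hsub : ∀ {F₀ : Subfield F} {r : ℕ} (P : GL ι F), r.Prime → Fintype.card F = Nat.card F₀ ^ r →
      ¬ Cfsg.Geo.specialLinear ι F ≤ Cfsg.Geo.subfieldSubgroup F₀ P := by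
    intro F₀ r P hr hcard
    refine not_le_subfieldSubgroup h3 (fun htop => ?_) P
    subst htop
    have h1 : Nat.card (⊤ : Subfield F) = Fintype.card F := by
      rw [Nat.card_congr (Subfield.topEquiv (K := F)).toEquiv, Nat.card_eq_fintype_card]
    rw [h1] at hcard
    have h2 : 1 < Fintype.card F := Fintype.one_lt_card
    have h3' := Nat.pow_lt_pow_right h2 hr.one_lt
    rw [pow_one] at h3'
    omega
  have hquad : ∀ {Q : (ι → F) → F}, Cfsg.Geo.IsNondegenerateQuadraticForm Q →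
      H ≤ Cfsg.Geo.quadSimilarityGroup Q →
      H = Cfsg.Geo.quadSimilarityGroup Q ⊓ Cfsg.Geo.specialLinear ι F :=
    fun hQ hle => eq_inf_of_maximal hH hle (not_le_quadSimilarityGroup h3 hQ)
  have hsymp : ∀ {f : (ι → F) → (ι → F) → F}, Cfsg.Geo.IsSymplecticForm f →
      H ≤ Cfsg.Geo.similarityGroup f →
      H = Cfsg.Geo.similarityGroup f ⊓ Cfsg.Geo.specialLinear ι F :=
    fun hf hle => eq_inf_of_maximal hH hle
      (not_le_similarityGroup h3 (isSesq_of_bilinear hf.bilinear) hf.nondegenerate)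
  have hunit : ∀ {σ : F ≃+* F} {f : (ι → F) → (ι → F) → F}, Cfsg.Geo.IsUnitaryForm σ f →
      H ≤ Cfsg.Geo.similarityGroup f →
      H = Cfsg.Geo.similarityGroup f ⊓ Cfsg.Geo.specialLinear ι F :=
    fun hf hle => eq_inf_of_maximal hH hle
      (not_le_similarityGroup h3 (isSesq_of_unitary hf) hf.nondegenerate)
  by_cases hirr : Cfsg.Geo.ActsIrreducibly (Cfsg.Geo.matrixSet H)
  swap
  · rw [actsIrreducibly_iff] at hirr
    simp only [not_forall, not_or] at hirr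
    obtain ⟨W, hW, h0, h1⟩ := hirr
    exact Or.inl ⟨W, h0, h1, eq_inf_of_maximal hH hW (not_le_subspaceStabilizer h0 h1)⟩
  right
  have hq2 : ∀ {q : ℕ}, Fintype.card F < q + 1 → Fintype.card F ≤ q := fun h => Nat.lt_succ_iff.1 h
  rcases reduction (by omega) hirr with
    ⟨t, m, D, hD, htm, hst⟩ | ⟨r, K, hr, hrd, hK, hle⟩ | ⟨k, d, e, P, hk, hd, hkd, hle⟩ |
    ⟨_, r, m, hr, hm, -⟩ | ⟨d, t, -, hd, ht, hn, -⟩ | ⟨P, hP⟩
  · have hne := not_le_decompositionStabilizer h3 hD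
    by_cases hm1 : m = 1 ∧ Fintype.card F < 5
    · obtain ⟨rfl, hq⟩ := hm1
      obtain rfl : t = Fintype.card ι := by omega
      rcases monomial_small_field h3 hq hirr hD hst with ⟨ho, Q, hQ, hle⟩ | ⟨σ, f, hf, hle⟩
      · exact Or.inr (Or.inr (Or.inr (Or.inr (Or.inl ⟨ho, Q, hQ, hquad hQ hle⟩))))
      · exact Or.inr (Or.inr (Or.inr (Or.inr (Or.inr (Or.inr (Or.inl ⟨σ, f, hf, hunit hf hle⟩))))))
    by_cases hm2 : m = 2 ∧ Fintype.card F = 2
    · obtain ⟨rfl, hq⟩ := hm2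
      obtain ⟨f, hf, hle⟩ := pairs_small_field hq hD
      exact Or.inr (Or.inr (Or.inr (Or.inr (Or.inr (Or.inl ⟨f, hf, hsymp hf (hst.trans hle)⟩)))))
    refine Or.inl ⟨t, m, D, htm, hD, fun h => ?_, fun h => ?_, eq_inf_of_maximal hH hst hne⟩
    · exact not_lt.1 fun hq => hm1 ⟨h, hq⟩
    · have h1 : 1 < Fintype.card F := Fintype.one_lt_card
      by_contra hq
      exact hm2 ⟨h, by omega⟩
  · exact Or.inr (Or.inl ⟨r, K, hr, hrd, hK,
      eq_inf_of_maximal hH hle (not_le_subalgebraNormalizer h3 hr.two_le hK)⟩)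
  · obtain ⟨k, d, e, hk, hd, hkd, hle⟩ : ∃ (k d : ℕ) (e : ι ≃ Fin k × Fin d), 2 ≤ k ∧ k ≤ d ∧
        k * d = Fintype.card ι ∧ H ≤ Cfsg.Geo.tensorProductSubgroup k d e P := by
      rcases le_total k d with h | h
      · exact ⟨k, d, e, hk, h, hkd, hle⟩
      · exact ⟨d, k, _, hd, h, by rw [mul_comm, hkd], hle.trans (tensorProductSubgroup_swap e P)⟩
    by_cases hk2 : k = 2 ∧ Fintype.card F = 2
    · obtain ⟨rfl, hq⟩ := hk2
      obtain ⟨K, hK, hKle⟩ := tensor_small_field hq e P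
      exact Or.inr (Or.inl ⟨2, K, Nat.prime_two, ⟨d, hkd.symm⟩, hK,
        eq_inf_of_maximal hH (hle.trans hKle) (not_le_subalgebraNormalizer h3 le_rfl hK)⟩)
    refine Or.inr (Or.inr (Or.inl ⟨k, d, e, P, hk, hd, hkd, fun h => ?_,
      eq_inf_of_maximal hH hle (not_le_tensorProductSubgroup hk (le_trans hk hd) e P)⟩))
    have h1 : 1 < Fintype.card F := Fintype.one_lt_card
    by_contra hq
    exact hk2 ⟨h, by omega⟩
  · exact absurd hm (hpp r m hr)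
  · exact absurd hn (hpow d t hd ht)
  · rcases residual_or_form_general (by omega) hP with ⟨F₀, r, B, hr, hcard, hle⟩ | ⟨ho, Q, hQ, hle⟩ |
      ⟨f, hf, hle⟩ | ⟨σ, f, hf, hle⟩ | hres
    · exact Or.inr (Or.inr (Or.inr (Or.inl
        ⟨F₀, r, B, hr, hcard, eq_inf_of_maximal hH hle (hsub B hr hcard)⟩)))
    · exact Or.inr (Or.inr (Or.inr (Or.inr (Or.inl ⟨ho, Q, hQ, hquad hQ hle⟩))))
    · exact Or.inr (Or.inr (Or.inr (Or.inr (Or.inr (Or.inl ⟨f, hf, hsymp hf hle⟩)))))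
    · exact Or.inr (Or.inr (Or.inr (Or.inr (Or.inr (Or.inr (Or.inl ⟨σ, f, hf, hunit hf hle⟩))))))
    · exact Or.inr (Or.inr (Or.inr (Or.inr (Or.inr (Or.inr (Or.inr hres))))))

theorem ne_prime_pow_of_two_primes {n p q : ℕ} (hp : p.Prime) (hq : q.Prime) (hpq : p ≠ q)
    (hpn : p ∣ n) (hqn : q ∣ n) : ∀ r m : ℕ, r.Prime → n ≠ r ^ m := by
  intro r m hr h
  subst h
  exact hpq (((Nat.prime_dvd_prime_iff_eq hp hr).1 (hp.dvd_of_dvd_pow hpn)).trans
    ((Nat.prime_dvd_prime_iff_eq hq hr).1 (hq.dvd_of_dvd_pow hqn)).symm)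

theorem ne_power_of_bound {n b : ℕ} (hb : n < 2 ^ b)
    (h : ∀ t ∈ Finset.Ico 2 b, ∀ d ∈ Finset.Icc 2 n, n ≠ d ^ t) :
    ∀ d t : ℕ, 2 ≤ d → 2 ≤ t → n ≠ d ^ t := by
  intro d t hd ht heq
  refine h t (Finset.mem_Ico.2 ⟨ht, ?_⟩) d (Finset.mem_Icc.2 ⟨hd, ?_⟩) heq
  · by_contra hbt
    have h1 : 2 ^ b ≤ 2 ^ t := Nat.pow_le_pow_right (by omega) (not_lt.1 hbt)
    have h2 : 2 ^ t ≤ d ^ t := Nat.pow_le_pow_left hd t
    omega
  · exact heq ▸ Nat.le_self_pow (by omega) d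

end CfsgLib.Aschbacher
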