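import Cfsg.Agent.Aschbacher.Forms

/-!
The special linear group in dimension at least three is contained in no member of the geometric classes:
every such member meets it in a proper subgroup. All proofs use transvections.
-/

set_option autoImplicit false

namespace CfsgLib.Aschbacher

open Matrix
open scoped commutatorElement

variable {ι : Type} [Fintype ι] [DecidableEq ι] {F : Type*} [Field F]

theorem exists_not_mem_sup_pair (h3 : 3 ≤ Fintype.card ι) (x y : ι → F) :
    ∃ z : ι → F, z ∉ Submodule.span F {x, y} := by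
  classical
  by_contra hall
  simp only [not_exists, not_not] at hall
  have htop : Submodule.span F ({x, y} : Set (ι → F)) = ⊤ := eq_top_iff.2 fun z _ => hall z
  have h1 := congrArg (fun W : Submodule F (ι → F) => Module.finrank F W) htop
  simp only [finrank_top, Module.finrank_fintype_fun_eq_card] at h1
  have h2 : Module.finrank F (Submodule.span F (({x, y} : Finset (ι → F)) : Set (ι → F))) ≤ _ :=
    finrank_span_finset_le_card _
  rw [Finset.coe_pair, h1] at h2
  have h4 : ({x, y} : Finset (ι → F)).card ≤ 2 := Finset.card_le_two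
  omega

theorem not_le_subspaceStabilizer {W : Submodule F (ι → F)} (h0 : W ≠ ⊥) (h1 : W ≠ ⊤) :
    ¬ Cfsg.Geo.specialLinear ι F ≤ Cfsg.Geo.subspaceStabilizer W := by
  intro h
  obtain ⟨w, hw, hw0⟩ := (Submodule.ne_bot_iff W).1 h0
  obtain ⟨u, hu⟩ : ∃ u, u ∉ W := by
    by_contra hall
    simp only [not_exists, not_not] at hall
    exact h1 (eq_top_iff.2 fun z _ => hall z)
  obtain ⟨φ, hφw, hφu⟩ := exists_dual_of_notMem (W := Submodule.span F {u}) (u := w) (fun hmem => by
    obtain ⟨c, rfl⟩ := Submodule.mem_span_singleton.1 hmem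
    rcases eq_or_ne c 0 with rfl | hc
    · exact hw0 (zero_smul F u)
    · exact hu (by simpa [hc] using W.smul_mem c⁻¹ hw))
  have hφu' : φ ⬝ᵥ u = 0 := hφu u (Submodule.mem_span_singleton_self u)
  have := mem_subspaceStabilizer_iff.1 (h (tv_mem_specialLinear u φ hφu')) w hw
  rw [tv_mulVec, hφw, one_smul] at this
  exact hu (by simpa using W.sub_mem this hw)

theorem not_le_decompositionStabilizer (h3 : 3 ≤ Fintype.card ι) {t m : ℕ}
    {D : Fin t → Submodule F (ι → F)} (hD : Cfsg.Geo.IsMDecomposition m D) :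
    ¬ Cfsg.Geo.specialLinear ι F ≤ Cfsg.Geo.decompositionStabilizer D := by
  intro h
  have ht := hD.two_le
  have hne : ∀ i, ∃ v ∈ D i, v ≠ 0 := fun i => (Submodule.ne_bot_iff _).1 fun h0 => by
    have := hD.finrank_eq i
    rw [h0, finrank_bot] at this
    exact absurd this hD.pos.ne
  let i : Fin t := ⟨0, by omega⟩
  let j : Fin t := ⟨1, by omega⟩
  have hij : i ≠ j := by simp [i, j, Fin.ext_iff]
  obtain ⟨v, hv, hv0⟩ := hne i
  obtain ⟨u, hu, hu0⟩ := hne j
  -- `m ≥ 2` or a third member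
  have huv : u ∉ Submodule.span F {v} := fun hmem => hu0 <| by
    obtain ⟨c, rfl⟩ := Submodule.mem_span_singleton.1 hmem
    exact (Submodule.disjoint_def.1 ((hD.indep.pairwiseDisjoint) hij.symm)) _ hu (Submodule.smul_mem _ c hv)
  -- a spectator: a non-zero vector of some member outside the span of `u` and `v`
  obtain ⟨k, w, hw, hwuv⟩ : ∃ k, ∃ w ∈ D k, w ∉ Submodule.span F {u, v} := by
    by_contra hall
    simp only [not_exists, not_and, not_not] at hall
    obtain ⟨z, hz⟩ := exists_not_mem_sup_pair h3 u v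
    exact hz ((iSup_le fun k w hw => hall k w hw : iSup D ≤ _) (hD.iSup_eq_top ▸ trivial))
  obtain ⟨φ, hφu, hφ⟩ := exists_dual_of_notMem (W := Submodule.span F {v, w}) (u := u) (by
    intro hmem
    obtain ⟨a, b, hab⟩ := Submodule.mem_span_pair.1 hmem
    rcases eq_or_ne b 0 with rfl | hb
    · exact huv (Submodule.mem_span_singleton.2 ⟨a, by simpa using hab⟩)
    · refine hwuv (Submodule.mem_span_pair.2 ⟨b⁻¹, -(b⁻¹ * a), ?_⟩)
      have : b • w = u - a • v := by rw [← hab]; abel
      calc b⁻¹ • u + -(b⁻¹ * a) • v = b⁻¹ • (u - a • v) := by module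
        _ = w := by rw [← this, smul_smul, inv_mul_cancel₀ hb, one_smul])
  have hφv : φ ⬝ᵥ v = 0 := hφ v (Submodule.subset_span (by simp))
  obtain ⟨σ, hσ⟩ := h (tv_mem_specialLinear v φ hφv)
  have hmem : ∀ l, ∀ x ∈ D l, mat (tv v φ hφv) *ᵥ x ∈ D (σ l) := fun l => map_le_iff.1 (hσ l).le
  have hk : mat (tv v φ hφv) *ᵥ w = w := by
    rw [tv_mulVec, hφ w (Submodule.subset_span (by simp)), zero_smul, add_zero]
  have hvfix : mat (tv v φ hφv) *ᵥ v = v := by rw [tv_mulVec, hφv, zero_smul, add_zero]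
  have hfix : ∀ l, ∀ x ∈ D l, x ≠ 0 → mat (tv v φ hφv) *ᵥ x = x → σ l = l := fun l x hx hx0 he => by
    by_contra hne'
    have h1 := hmem l x hx
    rw [he] at h1
    exact hx0 (Submodule.disjoint_def.1 (hD.indep.pairwiseDisjoint hne') _ h1 hx)
  have hσi : σ i = i := hfix i v hv hv0 hvfix
  have h1 := hmem j u hu
  rw [tv_mulVec, hφu, one_smul] at h1
  -- the image `u + v` of `u` lies in a member other than `D i`
  have hdis : Disjoint (D i) (⨆ (l : Fin t) (_ : l ≠ i), D l) := hD.indep i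
  have hσj : σ j ≠ i := fun h' => hij (σ.injective (hσi.trans h'.symm))
  have hu' : u ∈ ⨆ (l : Fin t) (_ : l ≠ i), D l := le_iSup₂ (f := fun l _ => D l) j hij.symm hu
  have huv' : u + v ∈ ⨆ (l : Fin t) (_ : l ≠ i), D l := le_iSup₂ (f := fun l _ => D l) (σ j) hσj h1
  have := (Submodule.disjoint_def.1 hdis) v hv (by simpa using Submodule.sub_mem _ huv' hu')
  exact hv0 this

theorem not_le_subalgebraNormalizer (h3 : 3 ≤ Fintype.card ι) {r : ℕ} (hr : 2 ≤ r)
    {K : Subalgebra F (Matrix ι ι F)} (hK : Cfsg.Geo.IsFieldSubalgebra r K) :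
    ¬ Cfsg.Geo.specialLinear ι F ≤ Cfsg.Geo.subalgebraNormalizer K := by
  intro h
  haveI : Nonempty ι := Fintype.card_pos_iff.1 (by omega)
  obtain ⟨k, hk, hns⟩ : ∃ k ∈ K, ∀ c : F, k ≠ c • 1 := by
    by_contra hall
    simp only [not_exists, not_and, not_forall, not_not] at hall
    have hbot : K = ⊥ := by
      rw [eq_bot_iff]
      intro k hk
      obtain ⟨c, hc⟩ := hall k hk
      exact Algebra.mem_bot.2 ⟨c, by rw [hc, Algebra.algebraMap_eq_smul_one]⟩
    have := hK.finrank_eq
    rw [hbot, Subalgebra.finrank_bot] at this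
    omega
  -- `k` commutes with every transvection
  have hcomm : ∀ (v φ : ι → F) (hφ : φ ⬝ᵥ v = 0), k * vecMulVec v φ = vecMulVec v φ * k := by
    intro v φ hφ
    let E := mat (tv v φ hφ) * k * mat (tv v φ hφ)⁻¹ - k
    have hE : E ∈ K := sub_mem ((h (tv_mem_specialLinear v φ hφ) k).1 hk) hk
    by_cases hE0 : E = 0
    · have h1 : mat (tv v φ hφ) * k * mat (tv v φ hφ)⁻¹ * mat (tv v φ hφ) = k * mat (tv v φ hφ) := by
        rw [sub_eq_zero.1 hE0]
      rw [mul_assoc, mat_inv_mul, mul_one, mat_tv, add_mul, one_mul, mul_add, mul_one] at h1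
      exact (add_left_cancel h1).symm
    · exfalso
      obtain ⟨E', -, hEE⟩ := hK.inv E hE hE0
      obtain ⟨z, hz⟩ := exists_not_mem_sup_pair h3 v (k *ᵥ v)
      apply hz
      rw [← Matrix.one_mulVec z, ← hEE, ← Matrix.mulVec_mulVec]
      have hsh : ∀ x, E *ᵥ x ∈ Submodule.span F {v, k *ᵥ v} := fun x => by
        simp only [E, mat_tv, mat_tv_inv, Matrix.sub_mulVec, ← Matrix.mulVec_mulVec,
          Matrix.add_mulVec, Matrix.one_mulVec, Matrix.mulVec_sub, Matrix.mulVec_add,
          Matrix.vecMulVec_mulVec, op_smul_eq_smul, Matrix.mulVec_smul, dotProduct_sub,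
          dotProduct_smul]
        rw [Submodule.mem_span_pair]
        exact ⟨φ ⬝ᵥ (k *ᵥ x) - (φ ⬝ᵥ x) • (φ ⬝ᵥ (k *ᵥ v)), -(φ ⬝ᵥ x), by module⟩
      exact hsh _
  have heig : ∀ v : ι → F, ∃ c : F, k *ᵥ v = c • v := by
    intro v
    rcases eq_or_ne v 0 with rfl | hv
    · exact ⟨0, by simp⟩
    obtain ⟨u, hu⟩ := exists_not_mem_sup_pair h3 v v
    obtain ⟨φ, hφu, hφv⟩ := exists_dual_of_notMem (W := Submodule.span F {v}) (u := u)
      (by simpa using hu)
    have := congrArg (fun M => M *ᵥ u) (hcomm v φ (hφv v (Submodule.mem_span_singleton_self v)))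
    simp only [← Matrix.mulVec_mulVec, Matrix.vecMulVec_mulVec, op_smul_eq_smul, Matrix.mulVec_smul,
      hφu, one_smul] at this
    exact ⟨_, this⟩
  obtain ⟨c, hc⟩ := LinearMap.exists_eq_smul_id_of_forall_notLinearIndependent
    (f := Matrix.toLin' k) fun v hli => by
      obtain ⟨c, hc⟩ := heig v
      rw [Matrix.toLin'_apply, hc, LinearIndependent.pair_iff] at hli
      exact one_ne_zero ((hli (-c) 1 (by simp)).2)
  exact hns c (Matrix.toLin'.injective (by rw [hc, map_smul, Matrix.toLin'_one]; rfl))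

theorem not_le_subfieldSubgroup (h3 : 3 ≤ Fintype.card ι) {F₀ : Subfield F} (hF₀ : F₀ ≠ ⊤)
    (P : GL ι F) : ¬ Cfsg.Geo.specialLinear ι F ≤ Cfsg.Geo.subfieldSubgroup F₀ P := by
  intro h
  obtain ⟨a, ha⟩ : ∃ a : F, a ∉ F₀ := by
    by_contra hall
    simp only [not_exists, not_not] at hall
    exact hF₀ (eq_top_iff.2 fun z _ => hall z)
  obtain ⟨i, j, hij⟩ := Fintype.exists_pair_of_one_lt_card (α := ι) (by omega)
  let v : ι → F := Pi.single i a
  let φ : ι → F := Pi.single j 1
  have hφ : φ ⬝ᵥ v = 0 := by simp [φ, v, single_dotProduct, hij.symm]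
  have hmem : P * tv v φ hφ * P⁻¹ ∈ Cfsg.Geo.specialLinear ι F := by
    rw [mem_specialLinear_iff, mat, Units.val_mul, Units.val_mul, Matrix.det_units_conj]
    exact mem_specialLinear_iff.1 (tv_mem_specialLinear v φ hφ)
  obtain ⟨c, hc, hc'⟩ := exists_smul_of_mem_subfieldSubgroup (h hmem)
  have e : mat P⁻¹ * mat (P * tv v φ hφ * P⁻¹) * mat P = 1 + vecMulVec v φ := by
    rw [← mat_tv v φ hφ]
    simp [mat, mul_assoc]
  rw [e] at hc'
  have h1 : c ∈ F₀ := by
    have := hc' i i
    simpa [φ, v, vecMulVec_apply, hij] using this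
  have h2 : c * a ∈ F₀ := by
    have := hc' i j
    simpa [φ, v, vecMulVec_apply, hij] using this
  exact ha (by simpa [← mul_assoc, inv_mul_cancel₀ hc] using F₀.mul_mem (F₀.inv_mem h1) h2)

theorem not_le_similarityGroup (h3 : 3 ≤ Fintype.card ι) {σ : F ≃+* F}
    {f : (ι → F) → (ι → F) → F} (hf : IsSesq σ f) (hnd : Cfsg.Geo.IsNondegenerateForm f) :
    ¬ Cfsg.Geo.specialLinear ι F ≤ Cfsg.Geo.similarityGroup f := by
  intro h
  -- every transvection `1 + v φ` moves the form: `f v x = 0` whenever `φ x = 0`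
  have key : ∀ (v φ x : ι → F), φ ⬝ᵥ v = 0 → φ ⬝ᵥ x = 0 → (∃ u, φ ⬝ᵥ u = 1) → f v x = 0 := by
    intro v φ x hφ hx ⟨u, hu⟩
    obtain ⟨c, hc⟩ := h (tv_mem_specialLinear v φ hφ)
    have expand : ∀ y z, f (y + (φ ⬝ᵥ y) • v) (z + (φ ⬝ᵥ z) • v) = (c : F) * f y z := fun y z => by
      rw [← tv_mulVec v φ hφ, ← tv_mulVec v φ hφ]; exact hc y z
    -- the multiplier is one
    have hc1 : (c : F) = 1 := by
      have hker : ∃ y z, φ ⬝ᵥ y = 0 ∧ φ ⬝ᵥ z = 0 ∧ f y z ≠ 0 := by
        by_contra hall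
        simp only [not_exists, not_and, not_not] at hall
        -- a totally singular hyperplane is impossible in dimension at least three
        obtain ⟨y, hy, hy0⟩ : ∃ y, (φ ⬝ᵥ y = 0 ∧ f y u = 0) ∧ y ≠ 0 := by
          let g : (ι → F) →ₗ[F] F × F :=
            { toFun := fun y => (φ ⬝ᵥ y, f y u)
              map_add' := fun a b => by simp [dotProduct_add, hf.add_left]
              map_smul' := fun a b => by simp [dotProduct_smul, hf.smul_left] }
          have hker0 : LinearMap.ker g ≠ ⊥ := LinearMap.ker_ne_bot_of_finrank_lt (by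
            simp; omega)
          obtain ⟨y, hy, hy0⟩ := (Submodule.ne_bot_iff _).1 hker0
          exact ⟨y, ⟨congrArg Prod.fst (LinearMap.mem_ker.1 hy), congrArg Prod.snd (LinearMap.mem_ker.1 hy)⟩, hy0⟩
        obtain ⟨z, hz⟩ := (hnd y hy0).2
        apply hz
        have hz' : z = (z - (φ ⬝ᵥ z) • u) + (φ ⬝ᵥ z) • u := by abel
        rw [hz', hf.add_right, hf.smul_right, hy.2, mul_zero, add_zero]
        refine hall y _ hy.1 ?_
        rw [dotProduct_sub, dotProduct_smul, hu, smul_eq_mul, mul_one, sub_self]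
      obtain ⟨y, z, hy, hz, hyz⟩ := hker
      have := expand y z
      rw [hy, hz, zero_smul, add_zero, add_zero] at this
      exact (mul_eq_right₀ hyz).1 this.symm
    have := expand u x
    rw [hu, hx, hc1, one_smul, zero_smul, add_zero, one_mul, hf.add_left] at this
    simpa using this
  obtain ⟨v, hv⟩ : ∃ v : ι → F, v ≠ 0 :=
    haveI : Nonempty ι := Fintype.card_pos_iff.1 (by omega)
    exists_ne 0
  obtain ⟨x, hx⟩ := (hnd v hv).2
  apply hx
  obtain ⟨u, hu⟩ := exists_not_mem_sup_pair h3 v x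
  obtain ⟨φ, hφu, hφ⟩ := exists_dual_of_notMem hu
  exact key v φ x (hφ v (Submodule.subset_span (by simp))) (hφ x (Submodule.subset_span (by simp))) ⟨u, hφu⟩

theorem quadSimilarityGroup_le (Q : (ι → F) → F) :
    Cfsg.Geo.quadSimilarityGroup Q ≤ Cfsg.Geo.similarityGroup (QuadraticMap.polar Q) := by
  rintro g ⟨c, hc⟩
  refine ⟨c, fun u v => ?_⟩
  simp only [QuadraticMap.polar, ← Matrix.mulVec_add, hc]
  ring

theorem not_le_quadSimilarityGroup (h3 : 3 ≤ Fintype.card ι) {Q : (ι → F) → F}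
    (hQ : Cfsg.Geo.IsNondegenerateQuadraticForm Q) :
    ¬ Cfsg.Geo.specialLinear ι F ≤ Cfsg.Geo.quadSimilarityGroup Q := fun h =>
  not_le_similarityGroup h3 (isSesq_of_bilinear hQ.polar_bilinear) hQ.nondegenerate
    (h.trans (quadSimilarityGroup_le Q))

/-- The special linear group does not normalise an absolutely irreducible group that is commutative
modulo scalars. -/
theorem not_normalizes_specialLinear (h3 : 3 ≤ Fintype.card ι) {R : Subgroup (GL ι F)}
    (habs : Cfsg.Geo.ActsAbsolutelyIrreducibly (Cfsg.Geo.matrixSet R))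
    (hcomm : ⁅R, R⁆ ≤ Cfsg.Geo.scalars ι F) :
    ¬ Cfsg.Geo.specialLinear ι F ≤ Cfsg.Geo.subgroupNormalizer R := by
  classical
  intro h
  haveI : Nonempty ι := Fintype.card_pos_iff.1 (by omega)
  have hconj : ∀ t ∈ Cfsg.Geo.specialLinear ι F, ∀ y ∈ R, t * y * t⁻¹ * y⁻¹ ∈ R := fun t ht y hy =>
    mul_mem (((Subgroup.mem_set_normalizer_iff).1 (h ht) y).1 hy) (inv_mem hy)
  -- a member fixing a hyperplane pointwise is trivial
  have small : ∀ (v ψ : ι → F), ∀ c ∈ R, mat c = 1 + vecMulVec v ψ → c = 1 := by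
    intro v ψ c hc hm
    have hsc : ∀ z ∈ R, mat z * mat c = mat c * mat z := by
      intro z hz
      obtain ⟨l, hl⟩ := (Cfsg.Geo.mem_scalars_iff _).1 (hcomm (Subgroup.commutator_mem_commutator hz hc))
      have h1 : mat z * mat c = (l : F) • (mat c * mat z) := by
        have e : z * c = z * c * z⁻¹ * c⁻¹ * (c * z) := by group
        have e' := congrArg mat e
        rw [commutatorElement_def] at hl
        simp only [Units.val_mul] at hl
        simp only [mat, Units.val_mul] at e' ⊢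
        rw [e', hl, Matrix.smul_mul, one_mul]
      rcases eq_or_ne (l : F) 1 with hl1 | hl1
      · rw [h1, hl1, one_smul]
      · exfalso
        -- compare on a vector killed by both functionals
        obtain ⟨x, hx, hx0⟩ : ∃ x, (ψ ⬝ᵥ x = 0 ∧ ψ ⬝ᵥ (mat z *ᵥ x) = 0) ∧ x ≠ 0 := by
          let g : (ι → F) →ₗ[F] F × F :=
            { toFun := fun y => (ψ ⬝ᵥ y, ψ ⬝ᵥ (mat z *ᵥ y))
              map_add' := fun a b => by simp [dotProduct_add, Matrix.mulVec_add]
              map_smul' := fun a b => by simp [dotProduct_smul, Matrix.mulVec_smul] }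
          have hker0 : LinearMap.ker g ≠ ⊥ := LinearMap.ker_ne_bot_of_finrank_lt (by simp; omega)
          obtain ⟨y, hy, hy0⟩ := (Submodule.ne_bot_iff _).1 hker0
          exact ⟨y, ⟨congrArg Prod.fst (LinearMap.mem_ker.1 hy), congrArg Prod.snd (LinearMap.mem_ker.1 hy)⟩, hy0⟩
        have h2 := congrArg (fun M => M *ᵥ x) h1
        simp only [hm, Matrix.smul_mulVec, ← Matrix.mulVec_mulVec, Matrix.add_mulVec,
          Matrix.one_mulVec, Matrix.vecMulVec_mulVec, op_smul_eq_smul, hx.1, hx.2, zero_smul,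
          add_zero, Matrix.mulVec_zero] at h2
        have h3' : ((l : F) - 1) • (mat z *ᵥ x) = 0 := by rw [sub_smul, one_smul, ← h2, sub_self]
        refine hx0 (mulVec_injective z ?_)
        show mat z *ᵥ x = mat z *ᵥ 0
        rw [(smul_eq_zero.1 h3').resolve_left (sub_ne_zero.2 hl1), Matrix.mulVec_zero]
    obtain ⟨d, hd⟩ := commute_of_absIrred habs fun z hz => (hsc z hz).symm
    obtain ⟨x, hx, hx0⟩ : ∃ x, ψ ⬝ᵥ x = 0 ∧ x ≠ 0 := by
      let g : (ι → F) →ₗ[F] F :=
        { toFun := fun y => ψ ⬝ᵥ y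
          map_add' := fun a b => dotProduct_add ψ a b
          map_smul' := fun a b => by simp [dotProduct_smul] }
      have hker0 : LinearMap.ker g ≠ ⊥ := LinearMap.ker_ne_bot_of_finrank_lt (by simp; omega)
      obtain ⟨y, hy, hy0⟩ := (Submodule.ne_bot_iff _).1 hker0
      exact ⟨y, LinearMap.mem_ker.1 hy, hy0⟩
    have hfix := congrArg (fun M => M *ᵥ x) hd
    simp only [hm, Matrix.add_mulVec, Matrix.one_mulVec, Matrix.vecMulVec_mulVec, op_smul_eq_smul,
      hx, zero_smul, add_zero, Matrix.smul_mulVec] at hfix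
    have hd1 : d = 1 := by
      have h4 : (d - 1) • x = 0 := by rw [sub_smul, one_smul, ← hfix, sub_self]
      exact sub_eq_zero.1 ((smul_eq_zero.1 h4).resolve_right hx0)
    exact Units.ext (by rw [Units.val_one, show (c : Matrix ι ι F) = d • 1 from hd, hd1, one_smul])
  -- a member fixing a non-zero vector commutes with the transvections centred there
  have fixed : ∀ (c : GL ι F), c ∈ R → ∀ (w ψ : ι → F) (hψ : ψ ⬝ᵥ w = 0),
      mat c *ᵥ w = w → mat c * vecMulVec w ψ = vecMulVec w ψ * mat c := by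
    intro c hc w ψ hψ hw
    let t := tv w ψ hψ
    have hinv : mat c⁻¹ *ᵥ w = w := by
      conv_lhs => rw [← hw]
      rw [inv_mulVec_mulVec]
    have hψ' : (ψ ᵥ* mat c⁻¹) ⬝ᵥ w = 0 := by rw [← dotProduct_mulVec, hinv, hψ]
    have hd : mat (t * c * t⁻¹ * c⁻¹) = 1 + vecMulVec w (ψ - ψ ᵥ* mat c⁻¹) := by
      have e1 : mat c * vecMulVec w ψ * mat c⁻¹ = vecMulVec w (ψ ᵥ* mat c⁻¹) := by
        rw [Matrix.mul_vecMulVec, hw, Matrix.vecMulVec_mul]
      calc mat (t * c * t⁻¹ * c⁻¹)
          = (1 + vecMulVec w ψ) * (mat c * (1 - vecMulVec w ψ) * mat c⁻¹) := by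
            simp only [mat, Units.val_mul, mul_assoc]; rfl
        _ = (1 + vecMulVec w ψ) * (1 - vecMulVec w (ψ ᵥ* mat c⁻¹)) := by
            rw [mul_sub, mul_one, sub_mul, e1, mat_mul_inv]
        _ = _ := by
            rw [add_mul, one_mul, mul_sub, mul_one, Matrix.vecMulVec_mul_vecMulVec, hψ, zero_smul]
            ext i j
            simp [vecMulVec_apply]
            ring
    have h1 := small _ _ _ (hconj t (tv_mem_specialLinear w ψ hψ) c hc) hd
    have h2 : t * c = c * t := by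
      calc t * c = t * c * t⁻¹ * c⁻¹ * (c * t) := by group
        _ = c * t := by rw [h1, one_mul]
    have h3' := congrArg mat h2
    simp only [mat, Units.val_mul] at h3'
    change (1 + vecMulVec w ψ) * mat c = mat c * (1 + vecMulVec w ψ) at h3'
    rw [add_mul, one_mul, mul_add, mul_one] at h3'
    exact (add_left_cancel h3').symm
  -- every commutator of a transvection with a member is trivial
  have hone : ∀ (v φ : ι → F) (hφ : φ ⬝ᵥ v = 0), ∀ y ∈ R,
      tv v φ hφ * y * (tv v φ hφ)⁻¹ * y⁻¹ = 1 := by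
    intro v φ hφ y hy
    set c := tv v φ hφ * y * (tv v φ hφ)⁻¹ * y⁻¹ with hc
    have hcR : c ∈ R := hconj _ (tv_mem_specialLinear v φ hφ) y hy
    obtain ⟨w, hw, hw0⟩ : ∃ w, mat c *ᵥ w = w ∧ w ≠ 0 := by
      let g : (ι → F) →ₗ[F] F × F :=
        { toFun := fun x => (φ ⬝ᵥ x, φ ⬝ᵥ (mat y⁻¹ *ᵥ x))
          map_add' := fun a b => by simp [dotProduct_add, Matrix.mulVec_add]
          map_smul' := fun a b => by simp [dotProduct_smul, Matrix.mulVec_smul] }
      have hker0 : LinearMap.ker g ≠ ⊥ := LinearMap.ker_ne_bot_of_finrank_lt (by simp; omega)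
      obtain ⟨x, hx, hx0⟩ := (Submodule.ne_bot_iff _).1 hker0
      have hx1 : φ ⬝ᵥ x = 0 := congrArg Prod.fst (LinearMap.mem_ker.1 hx)
      have hx2 : φ ⬝ᵥ (mat y⁻¹ *ᵥ x) = 0 := congrArg Prod.snd (LinearMap.mem_ker.1 hx)
      refine ⟨x, ?_, hx0⟩
      rw [hc]
      simp only [mat, Units.val_mul, ← Matrix.mulVec_mulVec]
      change mat (tv v φ hφ) *ᵥ (mat y *ᵥ (mat (tv v φ hφ)⁻¹ *ᵥ (mat y⁻¹ *ᵥ x))) = x
      rw [mat_tv_inv, Matrix.sub_mulVec, Matrix.one_mulVec, Matrix.vecMulVec_mulVec, op_smul_eq_smul,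
        hx2, zero_smul, sub_zero, mulVec_inv_mulVec, tv_mulVec, hx1, zero_smul, add_zero]
    obtain ⟨ξ, hξw, -⟩ := exists_dual_of_notMem (W := (⊥ : Submodule F (ι → F))) (u := w)
      (by simpa using hw0)
    refine small w (ξ ᵥ* mat c - ξ) c hcR ?_
    apply Matrix.toLin'.injective
    apply LinearMap.ext
    intro x
    rw [Matrix.toLin'_apply, Matrix.toLin'_apply, Matrix.add_mulVec, Matrix.one_mulVec,
      Matrix.vecMulVec_mulVec, op_smul_eq_smul, sub_dotProduct, ← dotProduct_mulVec,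
      ← dotProduct_sub]
    have hspan : mat c *ᵥ x - x ∈ Submodule.span F {w} := by
      by_contra hout
      obtain ⟨η, hη1, hηw⟩ := exists_dual_of_notMem hout
      have hη := hηw w (Submodule.mem_span_singleton_self w)
      have h1 := congrArg (fun M => M *ᵥ x) (fixed c hcR w η hη hw)
      simp only [← Matrix.mulVec_mulVec, Matrix.vecMulVec_mulVec, op_smul_eq_smul,
        Matrix.mulVec_smul, hw] at h1
      rw [dotProduct_sub, ← smul_left_injective F hw0 h1, sub_self] at hη1
      exact zero_ne_one hη1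
    obtain ⟨a, ha⟩ := Submodule.mem_span_singleton.1 hspan
    rw [← ha, dotProduct_smul, hξw, smul_eq_mul, mul_one, ha]
    abel
  obtain ⟨y, hy, hys⟩ : ∃ y ∈ R, ∀ d : F, mat y ≠ d • 1 := by
    by_contra hall
    simp only [not_exists, not_and, not_forall, not_not] at hall
    obtain ⟨i, j, hij⟩ := Fintype.exists_pair_of_one_lt_card (α := ι) (by omega)
    obtain ⟨d, hd⟩ := commute_of_absIrred habs (M := Matrix.single i j (1 : F)) fun x hx => by
      obtain ⟨e, he⟩ := hall x hx
      rw [he, Matrix.smul_mul, Matrix.mul_smul, one_mul, mul_one]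
    have h1 := congrFun (congrFun hd i) j
    simp [hij] at h1
  obtain ⟨d, hd⟩ := LinearMap.exists_eq_smul_id_of_forall_notLinearIndependent
    (f := Matrix.toLin' (mat y)) fun v hli => by
      obtain ⟨u, hu⟩ := exists_not_mem_sup_pair h3 v v
      obtain ⟨φ, hφu, hφv⟩ := exists_dual_of_notMem (W := Submodule.span F {v}) (u := u)
        (by simpa using hu)
      have hφ := hφv v (Submodule.mem_span_singleton_self v)
      have h1 := hone v φ hφ y hy
      have h2 : tv v φ hφ * y = y * tv v φ hφ := by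
        calc _ = tv v φ hφ * y * (tv v φ hφ)⁻¹ * y⁻¹ * (y * tv v φ hφ) := by group
          _ = _ := by rw [h1, one_mul]
      have h3' := congrArg (fun g => mat g *ᵥ u) h2
      simp only [mat, Units.val_mul, ← Matrix.mulVec_mulVec] at h3'
      change mat (tv v φ hφ) *ᵥ (mat y *ᵥ u) = mat y *ᵥ (mat (tv v φ hφ) *ᵥ u) at h3'
      rw [tv_mulVec, tv_mulVec, hφu, one_smul, Matrix.mulVec_add] at h3'
      rw [Matrix.toLin'_apply, ← add_left_cancel h3', LinearIndependent.pair_iff] at hli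
      exact one_ne_zero ((hli (-(φ ⬝ᵥ (mat y *ᵥ u))) 1 (by simp)).2)
  exact hys d (Matrix.toLin'.injective (by rw [hd, map_smul, Matrix.toLin'_one]; rfl))

end CfsgLib.Aschbacher
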