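import Cfsg.Agent.Aschbacher.Core
import Cfsg.Agent.Aschbacher.Heisenberg
import Cfsg.Agent.Aschbacher.ProperSL

/-!
The list of maximal subgroups of the special linear group in odd prime dimension, up to the residual class.
-/

set_option autoImplicit false

namespace CfsgLib.Aschbacher

open Matrix

variable {ι : Type} [Fintype ι] [DecidableEq ι] {F : Type*} [Field F]

theorem eq_inf_of_maximal {G : Type*} [Group G] {K H X : Subgroup G}
    (hH : Cfsg.Geo.IsMaximalIn K H) (hle : H ≤ X) (hne : ¬ K ≤ X) : H = X ⊓ K :=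
  ((hH.2 (X ⊓ K) (le_inf hle hH.1.le) inf_le_right).resolve_right
    fun h => hne (h ▸ inf_le_left)).symm

/-- A group of determinant one normalising an absolutely irreducible group of isometries, or the residual class. -/
theorem residual_or_form [Fintype F] (hodd : Odd (Fintype.card ι)) (h3 : 3 ≤ Fintype.card ι)
    {H P : Subgroup (GL ι F)} (hP : IsSimpleCore H P) :
    (∃ (F₀ : Subfield F) (r : ℕ) (B : GL ι F), r.Prime ∧ Fintype.card F = Nat.card F₀ ^ r ∧
      H ≤ Cfsg.Geo.subfieldSubgroup F₀ B) ∨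
    (Odd (Fintype.card F) ∧ ∃ Q : (ι → F) → F, Cfsg.Geo.IsNondegenerateQuadraticForm Q ∧
      H ≤ Cfsg.Geo.quadSimilarityGroup Q) ∨
    (∃ (σ : F ≃+* F) (f : (ι → F) → (ι → F) → F), Cfsg.Geo.IsUnitaryForm σ f ∧
      H ≤ Cfsg.Geo.similarityGroup f) ∨
    Cfsg.Geo.InLinearResidualClass H := by
  haveI : Nonempty ι := Fintype.card_pos_iff.1 (by omega)
  by_cases hF : ∃ F₀ : Subfield F, F₀ ≠ ⊤ ∧ Cfsg.Geo.RealisableOver F₀ (Cfsg.Geo.matrixSet P)
  · obtain ⟨F₀, h0, hreal⟩ := hF
    exact Or.inl (exists_subfieldSubgroup h0 hP.absIrred hreal hP.normal)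
  by_cases hQ : ∃ Q : (ι → F) → F, Cfsg.Geo.IsNondegenerateQuadraticForm Q ∧
      Cfsg.Geo.FixesQuadForm (Cfsg.Geo.matrixSet P) Q
  · obtain ⟨Q, hQ, hfix⟩ := hQ
    exact Or.inr (Or.inl ⟨odd_card_of_quadratic hQ hodd, Q, hQ,
      normalizer_le_quadSimilarityGroup (by omega) hQ hP.absIrred hfix hP.normal⟩)
  by_cases hU : ∃ (σ : F ≃+* F) (f : (ι → F) → (ι → F) → F), Cfsg.Geo.IsUnitaryForm σ f ∧
      Cfsg.Geo.FixesForm (Cfsg.Geo.matrixSet P) f
  · obtain ⟨σ, f, hf, hfix⟩ := hU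
    exact Or.inr (Or.inr (Or.inl ⟨σ, f, hf,
      normalizer_le_similarityGroup (isSesq_of_unitary hf) hf.nondegenerate hP.absIrred hfix
        hP.normal⟩))
  refine Or.inr (Or.inr (Or.inr ⟨P, hP.toResidualCore fun F₀ h0 hr => hF ⟨F₀, h0, hr⟩, hQ, ?_, hU⟩))
  rintro ⟨f, hf, -⟩
  exact no_symplectic_of_odd hf hodd

theorem mat_monomial_of_stab {t : ℕ} {D : Fin t → Submodule F (ι → F)}
    (hD : Cfsg.Geo.IsMDecomposition 1 D) (ht : t = Fintype.card ι) :
    ∃ P : GL ι F, ∀ g ∈ Cfsg.Geo.decompositionStabilizer D,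
      ∃ (π : Equiv.Perm ι) (d : ι → F), (∀ i, d i ≠ 0) ∧
        mat P⁻¹ * mat g * mat P = monomialMat π d := by
  classical
  subst ht
  let e := Fintype.equivFin ι
  have hex : ∀ i, ∃ v, v ∈ D i ∧ v ≠ 0 ∧ ∀ x ∈ D i, ∃ c : F, c • v = x := by
    intro i
    obtain ⟨v, hv, hspan⟩ := finrank_eq_one_iff'.1 (hD.finrank_eq i)
    refine ⟨v.1, v.2, fun h => hv (Subtype.ext h), fun x hx => ?_⟩
    obtain ⟨c, hc⟩ := hspan ⟨x, hx⟩
    exact ⟨c, congrArg Subtype.val hc⟩
  choose v hv hv0 hspan using hex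
  have hli : LinearIndependent F fun i => v (e i) :=
    (hD.indep.comp e.injective).linearIndependent _ (fun i => hv (e i)) fun i => hv0 _
  let Pm : Matrix ι ι F := Matrix.of fun k i => v (e i) k
  have hPm : IsUnit Pm := Matrix.linearIndependent_cols_iff_isUnit.1 hli
  refine ⟨hPm.unit, ?_⟩
  rintro g ⟨σ, hσ⟩
  have him : ∀ i, ∃ c : F, c • v (σ i) = mat g *ᵥ v i := fun i =>
    hspan _ _ (map_le_iff.1 (hσ i).le _ (hv i))
  choose c hc using him
  let π : Equiv.Perm ι := e.trans (σ.trans e.symm)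
  refine ⟨π.symm, fun j => c (e (π.symm j)), fun j h0 => ?_, ?_⟩
  · have h1 := hc (e (π.symm j))
    rw [show c (e (π.symm j)) = 0 from h0, zero_smul] at h1
    exact hv0 _ (mulVec_injective g (by
      show mat g *ᵥ v (e (π.symm j)) = mat g *ᵥ 0
      rw [← h1, Matrix.mulVec_zero]))
  · have h1 : mat g * Pm = Pm * monomialMat π.symm fun j => c (e (π.symm j)) := by
      ext k i
      rw [Matrix.mul_apply, Matrix.mul_apply, Finset.sum_eq_single (π i)
        (f := fun j => Pm k j * monomialMat π.symm (fun j => c (e (π.symm j))) j i)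
        (fun j _ hj => by
          simp only [monomialMat, Matrix.of_apply]
          rw [if_neg, mul_zero]
          intro h
          exact hj (by rw [h, Equiv.apply_symm_apply]))
        (fun h => absurd (Finset.mem_univ _) h)]
      have h2 := congrFun (hc (e i)) k
      simp only [Pi.smul_apply, smul_eq_mul, Matrix.mulVec, dotProduct] at h2
      simp only [monomialMat, Pm, Matrix.of_apply]
      rw [if_pos (π.symm_apply_apply i).symm, π.symm_apply_apply]
      have he : e (π i) = σ (e i) := by simp [π]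
      rw [he]
      exact h2.symm.trans (mul_comm _ _)
    show mat hPm.unit⁻¹ * mat g * Pm = _
    rw [mul_assoc, h1, ← mul_assoc]
    show mat hPm.unit⁻¹ * mat hPm.unit * _ = _
    rw [mat_inv_mul, one_mul]

/-- For `q ≤ 4` an irreducible monomial group is contained in a similarity group. -/
theorem monomial_small_field [Fintype F] (h3 : 3 ≤ Fintype.card ι) (hq : Fintype.card F < 5)
    {H : Subgroup (GL ι F)} (hirr : Cfsg.Geo.ActsIrreducibly (Cfsg.Geo.matrixSet H))
    {D : Fin (Fintype.card ι) → Submodule F (ι → F)} (hD : Cfsg.Geo.IsMDecomposition 1 D)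
    (hHD : H ≤ Cfsg.Geo.decompositionStabilizer D) :
    (Odd (Fintype.card F) ∧ ∃ Q : (ι → F) → F, Cfsg.Geo.IsNondegenerateQuadraticForm Q ∧
      H ≤ Cfsg.Geo.quadSimilarityGroup Q) ∨
    (∃ (σ : F ≃+* F) (f : (ι → F) → (ι → F) → F), Cfsg.Geo.IsUnitaryForm σ f ∧
      H ≤ Cfsg.Geo.similarityGroup f) := by
  classical
  obtain ⟨P, hP⟩ := mat_monomial_of_stab hD rfl
  obtain ⟨p, hchar⟩ := CharP.exists F
  haveI := hchar
  haveI : Fact p.Prime := ⟨CharP.char_is_prime F p⟩
  haveI : ExpChar F p := ExpChar.prime Fact.out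
  obtain ⟨a, hp, ha⟩ := FiniteField.card F p
  have hpow : ∀ c : F, c ≠ 0 → c ^ (Fintype.card F - 1) = 1 := fun c hc =>
    FiniteField.pow_card_sub_one_eq_one c hc
  have h2q : 2 ≤ Fintype.card F := Fintype.one_lt_card
  rcases (by omega : Fintype.card F = 2 ∨ Fintype.card F = 3 ∨ Fintype.card F = 4) with hc | hc | hc
  · exfalso
    let w : ι → F := mat P *ᵥ fun _ => 1
    have hfix : H ≤ Cfsg.Geo.subspaceStabilizer (Submodule.span F {w}) := fun g hg => by
      rw [mem_subspaceStabilizer_iff]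
      intro x hx
      obtain ⟨s, rfl⟩ := Submodule.mem_span_singleton.1 hx
      obtain ⟨π, d, hd, hm⟩ := hP g (hHD hg)
      have hd1 : ∀ i, d i = 1 := fun i => by simpa [hc] using hpow (d i) (hd i)
      have h1 : mat g *ᵥ w = w := by
        have e : mat g * mat P = mat P * monomialMat π d := by
          rw [← hm, ← mul_assoc, ← mul_assoc, mat_mul_inv, one_mul]
        show mat g *ᵥ (mat P *ᵥ fun _ => 1) = w
        rw [Matrix.mulVec_mulVec, e, ← Matrix.mulVec_mulVec]
        show mat P *ᵥ _ = mat P *ᵥ _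
        congr 1
        funext i
        simp [monomialMat, Matrix.mulVec, dotProduct, hd1]
      rw [Matrix.mulVec_smul, h1]
      exact Submodule.smul_mem _ _ (Submodule.mem_span_singleton_self w)
    have hw : w ≠ 0 := fun h0 => by
      haveI : Nonempty ι := Fintype.card_pos_iff.1 (by omega)
      obtain ⟨i⟩ := ‹Nonempty ι›
      have h1 : (fun _ : ι => (1 : F)) = 0 := mulVec_injective P (by simpa using h0)
      exact one_ne_zero (congrFun h1 i)
    rcases (actsIrreducibly_iff.1 hirr) _ hfix with h | h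
    · exact hw (Submodule.span_singleton_eq_bot.1 h)
    · have h1 := congrArg (fun W : Submodule F (ι → F) => Module.finrank F W) h
      simp only [finrank_top, Module.finrank_fintype_fun_eq_card, finrank_span_singleton hw] at h1
      omega
  · left
    have h2 : (2 : F) ≠ 0 := fun h => by
      have h1 : (ringChar F) = 2 := by
        haveI : CharP F 2 := CharTwo.of_one_ne_zero_of_two_eq_zero one_ne_zero h
        exact ringChar.eq F 2
      have := FiniteField.even_card_iff_char_two.1 h1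
      omega
    have hf := diagForm_isSesq (RingEquiv.refl F) P
    have hsymm : ∀ u v, diagForm (RingEquiv.refl F) P u v = diagForm (RingEquiv.refl F) P v u :=
      fun u v => dotProduct_comm _ _
    have hpol : ∀ u v, QuadraticMap.polar (fun x => diagForm (RingEquiv.refl F) P x x) u v =
        2 * diagForm (RingEquiv.refl F) P u v := fun u v => by
      simp only [QuadraticMap.polar, hf.add_left, hf.add_right, hsymm v u]
      ring
    refine ⟨hc ▸ by decide, fun x => diagForm (RingEquiv.refl F) P x x, ⟨fun c v => ?_, ⟨?_, ?_, ?_, ?_⟩,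
      fun v hv => ?_⟩, fun g hg => ?_⟩
    · rw [hf.smul_left, hf.smul_right, RingEquiv.refl_apply]; ring
    · intro x y v; simp only [hpol, hf.add_left]; ring
    · intro c x v; simp only [hpol, hf.smul_left]; ring
    · intro v x y; simp only [hpol, hf.add_right]; ring
    · intro c v x; simp only [hpol, hf.smul_right, RingEquiv.refl_apply]; ring
    · obtain ⟨⟨x, hx⟩, ⟨y, hy⟩⟩ := diagForm_nondeg (RingEquiv.refl F) P v hv
      exact ⟨⟨x, by simp [hpol, h2, hx]⟩, ⟨y, by simp [hpol, h2, hy]⟩⟩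
    · obtain ⟨π, d, hd, hm⟩ := hP g (hHD hg)
      refine ⟨1, fun v => ?_⟩
      rw [Units.val_one, one_mul]
      refine diagForm_isometry hm (fun i => ?_) v v
      have := hpow (d i) (hd i)
      rw [hc] at this
      simpa [pow_two] using this
  · right
    have hp2 : p = 2 ∧ (a : ℕ) = 2 := by
      rw [ha] at hc
      have h1 : p ≤ 4 := hc ▸ Nat.le_self_pow a.pos.ne' p
      have ha3 : (a : ℕ) < 3 := by
        by_contra h
        have := Nat.pow_le_pow_right hp.pos (not_lt.1 h)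
        have : 2 ^ 3 ≤ p ^ 3 := Nat.pow_le_pow_left hp.two_le 3
        omega
      have := a.pos
      rcases (by omega : (a : ℕ) = 1 ∨ (a : ℕ) = 2) with h | h <;> rw [h] at hc
      · rw [pow_one] at hc
        exact absurd (hc ▸ hp) (by decide)
      · exact ⟨(Nat.pow_left_injective two_ne_zero (hc.trans (by norm_num : 4 = 2 ^ 2))), h⟩
    let σ := frobEquiv F p 1
    have hσ : ∀ c : F, σ c = c ^ 2 := fun c => by rw [frobEquiv_apply, pow_one, hp2.1]
    have hinv : ∀ c : F, σ (σ c) = c := fun c => by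
      rw [hσ, hσ, ← pow_mul]
      have := FiniteField.pow_card c
      rwa [hc] at this
    have hne : σ ≠ RingEquiv.refl F := by
      intro h
      obtain ⟨g, hg⟩ : ∃ g : F, g ≠ 0 ∧ g ≠ 1 := by
        by_contra hall
        simp only [not_exists, not_and, not_not] at hall
        have hsub : (Finset.univ : Finset F) ⊆ {0, 1} := fun x _ => by
          rcases eq_or_ne x 0 with hx | hx
          · simp [hx]
          · simp [hall x hx]
        have h1 := Finset.card_le_card hsub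
        rw [Finset.card_univ] at h1
        have h2 : ({0, 1} : Finset F).card ≤ 2 := Finset.card_le_two
        omega
      have h1 : g ^ 2 = g := by rw [← hσ, h]; rfl
      rw [pow_two] at h1
      exact hg.2 ((mul_eq_right₀ hg.1).1 h1)
    refine ⟨σ, diagForm σ P, diagForm_isUnitary hne hinv P, fun g hg => ?_⟩
    obtain ⟨π, d, hd, hm⟩ := hP g (hHD hg)
    refine ⟨1, fun u v => ?_⟩
    rw [Units.val_one, one_mul]
    refine diagForm_isometry hm (fun i => ?_) u v
    have := hpow (d i) (hd i)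
    rw [hc] at this
    rw [hσ, ← pow_succ']
    exact this

/-- Maximal subgroups of the special linear group in odd prime dimension. -/
theorem linear_prime_cases [Fintype F] (hp : (Fintype.card ι).Prime) (h3 : 3 ≤ Fintype.card ι)
    {H : Subgroup (GL ι F)} (hH : Cfsg.Geo.IsMaximalIn (Cfsg.Geo.specialLinear ι F) H) :
    (∃ W : Submodule F (ι → F), W ≠ ⊥ ∧ W ≠ ⊤ ∧
      H = Cfsg.Geo.subspaceStabilizer W ⊓ Cfsg.Geo.specialLinear ι F) ∨
    (5 ≤ Fintype.card F ∧ ∃ D : Fin (Fintype.card ι) → Submodule F (ι → F),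
      Cfsg.Geo.IsMDecomposition 1 D ∧
      H = Cfsg.Geo.decompositionStabilizer D ⊓ Cfsg.Geo.specialLinear ι F) ∨
    (∃ K : Subalgebra F (Matrix ι ι F), Cfsg.Geo.IsFieldSubalgebra (Fintype.card ι) K ∧
      H = Cfsg.Geo.subalgebraNormalizer K ⊓ Cfsg.Geo.specialLinear ι F) ∨
    (∃ (F₀ : Subfield F) (r : ℕ) (P : GL ι F), r.Prime ∧ Fintype.card F = Nat.card F₀ ^ r ∧
      H = Cfsg.Geo.subfieldSubgroup F₀ P ⊓ Cfsg.Geo.specialLinear ι F) ∨
    (∃ (p e : ℕ) (R : Subgroup (GL ι F)), p.Prime ∧ CharP F p ∧ Fintype.card F = p ^ e ∧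
      orderOf (p : ZMod (Fintype.card ι)) = e ∧ Odd e ∧
      Cfsg.Geo.IsLinearSymplecticTypeData (Fintype.card ι) R ∧
      H = Cfsg.Geo.subgroupNormalizer R ⊓ Cfsg.Geo.specialLinear ι F) ∨
    (Odd (Fintype.card F) ∧ ∃ Q : (ι → F) → F, Cfsg.Geo.IsNondegenerateQuadraticForm Q ∧
      H = Cfsg.Geo.quadSimilarityGroup Q ⊓ Cfsg.Geo.specialLinear ι F) ∨
    (∃ (σ : F ≃+* F) (f : (ι → F) → (ι → F) → F), Cfsg.Geo.IsUnitaryForm σ f ∧
      H = Cfsg.Geo.similarityGroup f ⊓ Cfsg.Geo.specialLinear ι F) ∨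
    Cfsg.Geo.InLinearResidualClass H := by
  haveI : Nonempty ι := Fintype.card_pos_iff.1 hp.pos
  have hodd : Odd (Fintype.card ι) := hp.odd_of_ne_two (by omega)
  have hsub : ∀ {F₀ : Subfield F} {r : ℕ} (P : GL ι F), r.Prime → Fintype.card F = Nat.card F₀ ^ r →
      ¬ Cfsg.Geo.specialLinear ι F ≤ Cfsg.Geo.subfieldSubgroup F₀ P := by
    intro F₀ r P hr hcard
    refine not_le_subfieldSubgroup h3 (fun htop => ?_) P
    subst htop
    have h1 : Nat.card (⊤ : Subfield F) = Fintype.card F := by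
      rw [Nat.card_congr (Subfield.topEquiv (K := F)).toEquiv, Nat.card_eq_fintype_card]
    rw [h1] at hcard
    have h2 : 1 < Fintype.card F := Fintype.one_lt_card
    have h3' := Nat.pow_lt_pow_right h2 hr.one_lt
    rw [pow_one] at h3'
    omega
  have hquad : ∀ {Q : (ι → F) → F}, Cfsg.Geo.IsNondegenerateQuadraticForm Q →
      H ≤ Cfsg.Geo.quadSimilarityGroup Q →
      H = Cfsg.Geo.quadSimilarityGroup Q ⊓ Cfsg.Geo.specialLinear ι F :=
    fun hQ hle => eq_inf_of_maximal hH hle (not_le_quadSimilarityGroup h3 hQ)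
  have hunit : ∀ {σ : F ≃+* F} {f : (ι → F) → (ι → F) → F}, Cfsg.Geo.IsUnitaryForm σ f →
      H ≤ Cfsg.Geo.similarityGroup f →
      H = Cfsg.Geo.similarityGroup f ⊓ Cfsg.Geo.specialLinear ι F :=
    fun hf hle => eq_inf_of_maximal hH hle
      (not_le_similarityGroup h3 (isSesq_of_unitary hf) hf.nondegenerate)
  by_cases hirr : Cfsg.Geo.ActsIrreducibly (Cfsg.Geo.matrixSet H)
  swap
  · rw [actsIrreducibly_iff] at hirr
    simp only [not_forall, not_or] at hirr
    obtain ⟨W, hW, h0, h1⟩ := hirr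
    exact Or.inl ⟨W, h0, h1, eq_inf_of_maximal hH hW (not_le_subspaceStabilizer h0 h1)⟩
  right
  rcases aschbacher_prime hp h3 hH.1.le hirr with ⟨N, -, χ, -, -, hD, hst⟩ | ⟨N, -, -, hK, hle⟩ |
    ⟨R, ω, hR, hn, -⟩ | ⟨P, hP⟩
  · by_cases hq : 5 ≤ Fintype.card F
    · exact Or.inl ⟨hq, _, hD, eq_inf_of_maximal hH hst (not_le_decompositionStabilizer h3 hD)⟩
    · rcases monomial_small_field h3 (not_le.1 hq) hirr hD hst with ⟨ho, Q, hQ, hle⟩ | ⟨σ, f, hf, hle⟩
      · exact Or.inr (Or.inr (Or.inr (Or.inr (Or.inl ⟨ho, Q, hQ, hquad hQ hle⟩))))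
      · exact Or.inr (Or.inr (Or.inr (Or.inr (Or.inr (Or.inl ⟨σ, f, hf, hunit hf hle⟩)))))
  · exact Or.inr (Or.inl ⟨_, hK, eq_inf_of_maximal hH hle (not_le_subalgebraNormalizer h3 hp.two_le hK)⟩)
  · rcases heisenberg_cases hp hodd hR hn with ⟨F₀, s, P, hs, hcard, hle⟩ |
      ⟨p, e, hp', hchar, hcard, hord, ⟨he, hdata⟩ | ⟨-, σ, f, hf, hfix⟩⟩
    · exact Or.inr (Or.inr (Or.inl ⟨F₀, s, P, hs, hcard, eq_inf_of_maximal hH hle (hsub P hs hcard)⟩))
    · exact Or.inr (Or.inr (Or.inr (Or.inl ⟨p, e, R, hp', hchar, hcard, hord, he, hdata,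
        eq_inf_of_maximal hH (fun h hh => mem_subgroupNormalizer_of (hn h hh))
          (not_normalizes_specialLinear h3 hR.absIrred hR.comm_scalar)⟩)))
    · exact Or.inr (Or.inr (Or.inr (Or.inr (Or.inr (Or.inl ⟨σ, f, hf, hunit hf
        (normalizer_le_similarityGroup (isSesq_of_unitary hf) hf.nondegenerate hR.absIrred hfix hn)⟩)))))
  · rcases residual_or_form hodd h3 hP with ⟨F₀, r, B, hr, hcard, hle⟩ | ⟨ho, Q, hQ, hle⟩ |
      ⟨σ, f, hf, hle⟩ | hres
    · exact Or.inr (Or.inr (Or.inl ⟨F₀, r, B, hr, hcard, eq_inf_of_maximal hH hle (hsub B hr hcard)⟩))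
    · exact Or.inr (Or.inr (Or.inr (Or.inr (Or.inl ⟨ho, Q, hQ, hquad hQ hle⟩))))
    · exact Or.inr (Or.inr (Or.inr (Or.inr (Or.inr (Or.inl ⟨σ, f, hf, hunit hf hle⟩)))))
    · exact Or.inr (Or.inr (Or.inr (Or.inr (Or.inr (Or.inr hres)))))

end CfsgLib.Aschbacher
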