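import Cfsg.Agent.Aschbacher.AlgebraReduction
import Cfsg.Agent.Aschbacher.ProperSL

/-!
Tensor decompositions: a copy of a full matrix algebra inside the matrix algebra gives a tensor decomposition, and
its normaliser is the tensor product subgroup. Dimensions of products of commuting factors multiply.
-/

set_option autoImplicit false

namespace CfsgLib.Aschbacher

open Matrix
open scoped Kronecker

variable {ι : Type} [Fintype ι] [DecidableEq ι] {F : Type*} [Field F]

/-- Coordinates of a tensor decomposition, as an algebra isomorphism. -/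
def tensorEquiv {k d : ℕ} (e : ι ≃ Fin k × Fin d) (P : GL ι F) :
    Matrix (Fin k × Fin d) (Fin k × Fin d) F ≃ₐ[F] Matrix ι ι F where
  toFun X := mat P * X.submatrix e e * mat P⁻¹
  invFun Y := (mat P⁻¹ * Y * mat P).submatrix e.symm e.symm
  left_inv X := by
    show (mat P⁻¹ * (mat P * X.submatrix e e * mat P⁻¹) * mat P).submatrix e.symm e.symm = X
    simp [mat, mul_assoc]
  right_inv Y := by
    simp [mat, mul_assoc]
  map_mul' X Y := by
    show mat P * (X * Y).submatrix e e * mat P⁻¹ =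
      mat P * X.submatrix e e * mat P⁻¹ * (mat P * Y.submatrix e e * mat P⁻¹)
    rw [← Matrix.submatrix_mul_equiv X Y e e e]
    simp only [mat, mul_assoc, Units.inv_mul_cancel_left]
  map_add' X Y := by
    rw [show (X + Y).submatrix e e = X.submatrix e e + Y.submatrix e e from rfl, mul_add, add_mul]
  commutes' c := by
    rw [Algebra.algebraMap_eq_smul_one, Algebra.algebraMap_eq_smul_one,
      show (c • (1 : Matrix (Fin k × Fin d) (Fin k × Fin d) F)).submatrix e e =
        c • (1 : Matrix ι ι F) by rw [Matrix.submatrix_smul]; simp]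
    simp [mat]

theorem tensorEquiv_apply {k d : ℕ} (e : ι ≃ Fin k × Fin d) (P : GL ι F)
    (X : Matrix (Fin k × Fin d) (Fin k × Fin d) F) :
    tensorEquiv e P X = mat P * X.submatrix e e * mat P⁻¹ := rfl

theorem mem_tensorProductSubgroup_of {k d : ℕ} {e : ι ≃ Fin k × Fin d} {P g : GL ι F}
    {a : Matrix (Fin k) (Fin k) F} {b : Matrix (Fin d) (Fin d) F} (ha : IsUnit a) (hb : IsUnit b)
    (h : mat g = tensorEquiv e P (a ⊗ₖ b)) : g ∈ Cfsg.Geo.tensorProductSubgroup k d e P := by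
  obtain ⟨a, rfl⟩ := ha
  obtain ⟨b, rfl⟩ := hb
  have h1 : (mat a ⊗ₖ mat b) * (mat a⁻¹ ⊗ₖ mat b⁻¹) = 1 := by
    rw [← Matrix.mul_kronecker_mul, mat_mul_inv, mat_mul_inv, Matrix.one_kronecker_one]
  have h2 : (mat a⁻¹ ⊗ₖ mat b⁻¹) * (mat a ⊗ₖ mat b) = 1 := by
    rw [← Matrix.mul_kronecker_mul, mat_inv_mul, mat_inv_mul, Matrix.one_kronecker_one]
  let K : GL (Fin k × Fin d) F := ⟨mat a ⊗ₖ mat b, mat a⁻¹ ⊗ₖ mat b⁻¹, h1, h2⟩
  refine ⟨Cfsg.Geo.glReindex e.symm K, ⟨K, ⟨a, b, rfl⟩, rfl⟩, ?_⟩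
  refine Units.ext ?_
  rw [show ((g : GL ι F) : Matrix ι ι F) = _ from h]
  rfl

theorem exists_of_mem_tensorProductSubgroup {k d : ℕ} {e : ι ≃ Fin k × Fin d} {P g : GL ι F}
    (h : g ∈ Cfsg.Geo.tensorProductSubgroup k d e P) :
    ∃ (a : GL (Fin k) F) (b : GL (Fin d) F), mat g = tensorEquiv e P (mat a ⊗ₖ mat b) := by
  obtain ⟨_, ⟨K, ⟨a, b, hK⟩, rfl⟩, rfl⟩ := h
  refine ⟨a, b, ?_⟩
  rw [tensorEquiv_apply]
  show mat (P * Cfsg.Geo.glReindex e.symm K * P⁻¹) = _
  simp only [mat, Units.val_mul]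
  rw [← hK]
  rfl

theorem tensorEquiv_swap {k d : ℕ} (e : ι ≃ Fin k × Fin d) (P : GL ι F)
    (a : Matrix (Fin k) (Fin k) F) (b : Matrix (Fin d) (Fin d) F) :
    tensorEquiv (e.trans (Equiv.prodComm _ _)) P (b ⊗ₖ a) = tensorEquiv e P (a ⊗ₖ b) := by
  rw [tensorEquiv_apply, tensorEquiv_apply]
  congr 2
  ext i j
  simp [Matrix.kroneckerMap_apply, mul_comm]

theorem tensorProductSubgroup_swap {k d : ℕ} (e : ι ≃ Fin k × Fin d) (P : GL ι F) :
    Cfsg.Geo.tensorProductSubgroup k d e P ≤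
      Cfsg.Geo.tensorProductSubgroup d k (e.trans (Equiv.prodComm _ _)) P := fun g hg => by
  obtain ⟨a, b, h⟩ := exists_of_mem_tensorProductSubgroup hg
  exact mem_tensorProductSubgroup_of b.isUnit a.isUnit (h.trans (tensorEquiv_swap e P _ _).symm)

theorem single_kronecker_mul_apply {k d : ℕ} (p r : Fin k)
    (X : Matrix (Fin k × Fin d) (Fin k × Fin d) F) (x y : Fin k × Fin d) :
    ((Matrix.single p r (1 : F)) ⊗ₖ (1 : Matrix (Fin d) (Fin d) F) * X) x y =
      if x.1 = p then X (r, x.2) y else 0 := by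
  rw [Matrix.mul_apply, Fintype.sum_eq_single (r, x.2)]
  · rcases eq_or_ne x.1 p with h | h
    · simp [h]
    · simp [h, Ne.symm h]
  · intro z hz
    rcases eq_or_ne z.1 r with h | h
    · have h2 : z.2 ≠ x.2 := fun h' => hz (Prod.ext h h')
      simp [Matrix.one_apply, Ne.symm h2]
    · simp [Ne.symm h]

theorem mul_single_kronecker_apply {k d : ℕ} (p r : Fin k)
    (X : Matrix (Fin k × Fin d) (Fin k × Fin d) F) (x y : Fin k × Fin d) :
    (X * (Matrix.single p r (1 : F)) ⊗ₖ (1 : Matrix (Fin d) (Fin d) F)) x y =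
      if y.1 = r then X x (p, y.2) else 0 := by
  rw [Matrix.mul_apply, Fintype.sum_eq_single (p, y.2)]
  · rcases eq_or_ne y.1 r with h | h
    · simp [h]
    · simp [h, Ne.symm h]
  · intro z hz
    rcases eq_or_ne z.1 p with h | h
    · have h2 : z.2 ≠ y.2 := fun h' => hz (Prod.ext h h')
      simp [Matrix.one_apply, h2]
    · simp [Ne.symm h]

theorem eq_one_kronecker_of_commute {k d : ℕ} (hk : 0 < k)
    {X : Matrix (Fin k × Fin d) (Fin k × Fin d) F}
    (h : ∀ a : Matrix (Fin k) (Fin k) F, a ⊗ₖ (1 : Matrix (Fin d) (Fin d) F) * X = X * a ⊗ₖ 1) :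
    ∃ b : Matrix (Fin d) (Fin d) F, X = (1 : Matrix (Fin k) (Fin k) F) ⊗ₖ b := by
  let o : Fin k := ⟨0, hk⟩
  refine ⟨fun j l => X (o, j) (o, l), ?_⟩
  ext ⟨i, j⟩ ⟨i', l⟩
  have h1 := congrFun (congrFun (h (Matrix.single o i (1 : F))) (o, j)) (i', l)
  rw [single_kronecker_mul_apply, mul_single_kronecker_apply, if_pos rfl] at h1
  show X (i, j) (i', l) = (1 : Matrix (Fin k) (Fin k) F) i i' * X (o, j) (o, l)
  rw [Matrix.one_apply]
  refine h1.trans ?_
  rcases eq_or_ne i i' with rfl | hne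
  · simp
  · simp [hne, Ne.symm hne]

/-- A copy of a full matrix algebra gives a tensor decomposition. -/
theorem exists_tensor {k : ℕ} (hk : 0 < k) {φ : Matrix (Fin k) (Fin k) F →ₐ[F] Matrix ι ι F} :
    ∃ (d : ℕ) (e : ι ≃ Fin k × Fin d) (P : GL ι F), ∀ a, φ a = tensorEquiv e P (a ⊗ₖ 1) := by
  classical
  let o : Fin k := ⟨0, hk⟩
  let E : Fin k → Fin k → Matrix ι ι F := fun i j => φ (Matrix.single i j 1)
  have hEE : ∀ i j l m, E i j * E l m = if j = l then E i m else 0 := by
    intro i j l m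
    simp only [E, ← map_mul]
    rcases eq_or_ne j l with rfl | h
    · simp
    · simp [h]
  have hsum : ∀ v, ∑ i, E i i *ᵥ v = v := by
    intro v
    rw [← Matrix.sum_mulVec, show (∑ i, E i i) = φ (∑ i, Matrix.single i i 1) from
      (map_sum φ _ _).symm, show (∑ i : Fin k, Matrix.single i i (1 : F)) = 1 from ?_, map_one,
      Matrix.one_mulVec]
    ext a b
    rw [Matrix.sum_apply, Fintype.sum_eq_single a]
    · rcases eq_or_ne a b with rfl | h <;> simp [*]
    · intro c hc; simp [hc]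
  let W : Submodule F (ι → F) := LinearMap.range (Matrix.toLin' (E o o))
  let w := Module.finBasis F W
  let d := Module.finrank F W
  have hw : ∀ j, E o o *ᵥ (w j).1 = (w j).1 := fun j => by
    obtain ⟨u, hu⟩ := (w j).2
    rw [← hu, Matrix.toLin'_apply, Matrix.mulVec_mulVec, hEE, if_pos rfl]
  let L : (Fin k × Fin d → F) →ₗ[F] (ι → F) :=
    Fintype.linearCombination F fun x => E x.1 o *ᵥ (w x.2).1
  have hL : ∀ f, L f = ∑ x, f x • (E x.1 o *ᵥ (w x.2).1) := fun f =>
    Fintype.linearCombination_apply F _ f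
  have hproj : ∀ l f, E o l *ᵥ L f = (∑ j, f (l, j) • w j : W).1 := by
    intro l f
    rw [hL, Matrix.mulVec_sum, Fintype.sum_prod_type, Submodule.coe_sum, Fintype.sum_eq_single l]
    · refine Finset.sum_congr rfl fun j _ => ?_
      rw [Matrix.mulVec_smul, Matrix.mulVec_mulVec, hEE, if_pos rfl, hw]
      rfl
    · intro i hi
      refine Finset.sum_eq_zero fun j _ => ?_
      rw [Matrix.mulVec_smul, Matrix.mulVec_mulVec, hEE, if_neg hi.symm, Matrix.zero_mulVec,
        smul_zero]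
  have hinj : Function.Injective L := by
    rw [← LinearMap.ker_eq_bot, LinearMap.ker_eq_bot']
    intro f hf
    funext x
    obtain ⟨l, j⟩ := x
    have h1 := hproj l f
    rw [hf, Matrix.mulVec_zero] at h1
    have h2 : (∑ j, f (l, j) • w j : W) = 0 := Subtype.ext h1.symm
    exact Fintype.linearIndependent_iff.1 w.linearIndependent (fun j => f (l, j)) h2 j
  have hsurj : Function.Surjective L := by
    intro v
    have h1 : ∀ i, E o i *ᵥ v ∈ W := fun i =>
      ⟨E o i *ᵥ v, by rw [Matrix.toLin'_apply, Matrix.mulVec_mulVec, hEE, if_pos rfl]⟩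
    refine ⟨fun x => w.repr ⟨_, h1 x.1⟩ x.2, ?_⟩
    rw [hL, Fintype.sum_prod_type]
    conv_rhs => rw [← hsum v]
    refine Finset.sum_congr rfl fun i _ => ?_
    have h2 : ∑ j, w.repr ⟨_, h1 i⟩ j • (w j).1 = E o i *ᵥ v := by
      have h := congrArg Subtype.val (w.sum_repr ⟨_, h1 i⟩)
      rwa [Submodule.coe_sum] at h
    calc ∑ j, w.repr ⟨_, h1 i⟩ j • (E i o *ᵥ (w j).1)
        = E i o *ᵥ ∑ j, w.repr ⟨_, h1 i⟩ j • (w j).1 := by
          rw [Matrix.mulVec_sum]; simp only [Matrix.mulVec_smul]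
      _ = E i i *ᵥ v := by rw [h2, Matrix.mulVec_mulVec, hEE, if_pos rfl]
  have hcard : Fintype.card ι = Fintype.card (Fin k × Fin d) := by
    have h := (LinearEquiv.ofBijective L ⟨hinj, hsurj⟩).finrank_eq
    rw [Module.finrank_fintype_fun_eq_card, Module.finrank_fintype_fun_eq_card] at h
    exact h.symm
  let e : ι ≃ Fin k × Fin d := Fintype.equivOfCardEq hcard
  let Pm : Matrix ι ι F := Matrix.of fun r c => (E (e c).1 o *ᵥ (w (e c).2).1) r
  have hPm : ∀ f : ι → F, Pm *ᵥ f = L (f ∘ e.symm) := by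
    intro f
    rw [hL]
    funext r
    rw [Finset.sum_apply]
    exact Fintype.sum_equiv e _ _ fun c => by
      simp [Pm, Function.comp, mul_comm]
  have hu : IsUnit Pm := by
    rw [← Matrix.mulVec_injective_iff_isUnit]
    intro f g hfg
    rw [hPm, hPm] at hfg
    funext c
    simpa using congrFun (hinj hfg) (e c)
  refine ⟨d, e, hu.unit, fun a => ?_⟩
  have hcol : ∀ (M : Matrix ι ι F) r c, (M * Pm) r c = (M *ᵥ (E (e c).1 o *ᵥ (w (e c).2).1)) r :=
    fun M r c => rfl
  have hkey : φ a * Pm = Pm * (a ⊗ₖ (1 : Matrix (Fin d) (Fin d) F)).submatrix e e := by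
    ext r c
    rw [hcol, Matrix.mulVec_mulVec, Matrix.mul_apply,
      show φ a * E (e c).1 o = ∑ i, a i (e c).1 • E i o from ?_]
    · rw [Matrix.sum_mulVec, Finset.sum_apply]
      have : ∀ y : ι, Pm r y * (a ⊗ₖ (1 : Matrix (Fin d) (Fin d) F)).submatrix e e y c =
          (fun x : Fin k × Fin d => (E x.1 o *ᵥ (w x.2).1) r * (a x.1 (e c).1 *
            (1 : Matrix (Fin d) (Fin d) F) x.2 (e c).2)) (e y) := fun y => rfl
      rw [Finset.sum_congr rfl fun y _ => this y]
      rw [e.sum_comp (fun x : Fin k × Fin d => (E x.1 o *ᵥ (w x.2).1) r * (a x.1 (e c).1 *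
            (1 : Matrix (Fin d) (Fin d) F) x.2 (e c).2)), Fintype.sum_prod_type]
      refine Finset.sum_congr rfl fun i _ => ?_
      rw [Fintype.sum_eq_single (e c).2 (fun j hj => by simp [hj]), Matrix.one_apply_eq, mul_one,
        Matrix.smul_mulVec, Pi.smul_apply, smul_eq_mul, mul_comm]
    · simp only [E, ← map_mul, ← map_smul, ← map_sum]
      congr 1
      ext x y
      rw [Matrix.sum_apply, Matrix.mul_apply, Fintype.sum_eq_single (e c).1 (fun z hz => by simp [Ne.symm hz]),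
        Fintype.sum_eq_single x (fun z hz => by simp [hz])]
      rcases eq_or_ne o y with rfl | hy <;> simp [*]
  rw [tensorEquiv_apply]
  have h1 : mat hu.unit = Pm := hu.unit_spec
  rw [h1, ← hkey, mul_assoc]
  conv_rhs => rw [show Pm * mat hu.unit⁻¹ = 1 from (by rw [← mat_mul_inv hu.unit, h1])]
  rw [mul_one]

/-- The centraliser of a copy of a full matrix algebra in tensor coordinates. -/
theorem eq_tensorEquiv_of_commute {k d : ℕ} (hk : 0 < k) {e : ι ≃ Fin k × Fin d} {P : GL ι F}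
    {M : Matrix ι ι F}
    (h : ∀ a : Matrix (Fin k) (Fin k) F, tensorEquiv e P (a ⊗ₖ 1) * M = M * tensorEquiv e P (a ⊗ₖ 1)) :
    ∃ b : Matrix (Fin d) (Fin d) F, M = tensorEquiv e P (1 ⊗ₖ b) := by
  obtain ⟨X, rfl⟩ := (tensorEquiv e P).surjective M
  obtain ⟨b, hb⟩ := eq_one_kronecker_of_commute hk (X := X) fun a =>
    (tensorEquiv e P).injective (by rw [map_mul, map_mul]; exact h a)
  exact ⟨b, by rw [hb]⟩

theorem exists_inner {k : ℕ} (ψ : Matrix (Fin k) (Fin k) F ≃ₐ[F] Matrix (Fin k) (Fin k) F) :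
    ∃ A : GL (Fin k) F, ∀ a, ψ a * mat A = mat A * a := by
  let t : Matrix (Fin k) (Fin k) F ≃ₐ[F] Module.End F (Fin k → F) := Matrix.toLinAlgEquiv'
  obtain ⟨T, hT⟩ := AlgEquiv.eq_linearEquivConjAlgEquiv (t.symm.trans (ψ.trans t))
  refine ⟨⟨t.symm T.toLinearMap, t.symm T.symm.toLinearMap, ?_, ?_⟩, fun a => ?_⟩
  · rw [← map_mul, show T.toLinearMap * T.symm.toLinearMap = 1 from LinearMap.ext fun x => by simp,
      map_one]
  · rw [← map_mul, show T.symm.toLinearMap * T.toLinearMap = 1 from LinearMap.ext fun x => by simp,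
      map_one]
  · show ψ a * t.symm T.toLinearMap = t.symm T.toLinearMap * a
    apply t.injective
    rw [map_mul, map_mul, t.apply_symm_apply]
    have h1 := DFunLike.congr_fun hT (t a)
    simp only [AlgEquiv.trans_apply, AlgEquiv.symm_apply_apply] at h1
    rw [h1]
    apply LinearMap.ext
    intro x
    simp [LinearEquiv.conjAlgEquiv_apply]

/-- The normaliser of a copy of a full matrix algebra is a tensor product subgroup. -/
theorem normalizer_le_tensorProductSubgroup [Nonempty ι] {k d : ℕ} (hk : 0 < k)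
    {φ : Matrix (Fin k) (Fin k) F →ₐ[F] Matrix ι ι F} (hφ : Function.Injective φ)
    {e : ι ≃ Fin k × Fin d} {P : GL ι F} (he : ∀ a, φ a = tensorEquiv e P (a ⊗ₖ 1)) :
    Cfsg.Geo.subalgebraNormalizer φ.range ≤ Cfsg.Geo.tensorProductSubgroup k d e P := by
  intro g hg
  let φ' : Matrix (Fin k) (Fin k) F ≃ₐ[F] φ.range := AlgEquiv.ofInjective φ hφ
  obtain ⟨A, hA⟩ := exists_inner (φ'.trans ((conjEquiv hg).trans φ'.symm))
  have hconj : ∀ a, mat g * φ a * mat g⁻¹ * φ (mat A) = φ (mat A) * φ a := by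
    intro a
    have h1 := congrArg φ (hA a)
    rw [map_mul, map_mul] at h1
    rw [← h1]
    congr 1
    have h2 : (φ' (φ'.symm (conjEquiv hg (φ' a)))).1 = mat g * φ a * mat g⁻¹ := by
      rw [AlgEquiv.apply_symm_apply]; rfl
    exact h2.symm
  have hAA : φ (mat A⁻¹) * φ (mat A) = 1 := by rw [← map_mul, mat_inv_mul, map_one]
  have hAA' : φ (mat A) * φ (mat A⁻¹) = 1 := by rw [← map_mul, mat_mul_inv, map_one]
  obtain ⟨b, hb⟩ := eq_tensorEquiv_of_commute hk (e := e) (P := P) (M := φ (mat A⁻¹) * mat g) fun a => by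
    rw [← he]
    have h1 : mat g * φ a = φ (mat A) * φ a * φ (mat A⁻¹) * mat g := by
      rw [← hconj a, mul_assoc _ (φ (mat A)), hAA', mul_one, mul_assoc, mat_inv_mul, mul_one]
    rw [mul_assoc _ (mat g) (φ a), h1]
    simp only [← mul_assoc, hAA, one_mul]
  have hg' : mat g = tensorEquiv e P (mat A ⊗ₖ b) := by
    rw [show mat g = φ (mat A) * (φ (mat A⁻¹) * mat g) by rw [← mul_assoc, hAA', one_mul], hb, he,
      ← map_mul, ← Matrix.mul_kronecker_mul, mul_one, one_mul]
  refine mem_tensorProductSubgroup_of A.isUnit ?_ hg'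
  have hu : IsUnit (mat A ⊗ₖ b) := by
    rw [← (tensorEquiv e P).symm_apply_apply (mat A ⊗ₖ b), ← hg']
    exact g.isUnit.map (tensorEquiv e P).symm
  rw [Matrix.isUnit_iff_isUnit_det, Matrix.det_kronecker, Fintype.card_fin, Fintype.card_fin,
    IsUnit.mul_iff, isUnit_pow_iff hk.ne'] at hu
  exact (Matrix.isUnit_iff_isUnit_det b).2 hu.2

/-- A tensor product subgroup does not contain the special linear group. -/
theorem not_le_tensorProductSubgroup {k d : ℕ} (hk : 2 ≤ k) (hd : 2 ≤ d) (e : ι ≃ Fin k × Fin d)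
    (P : GL ι F) : ¬ Cfsg.Geo.specialLinear ι F ≤ Cfsg.Geo.tensorProductSubgroup k d e P := by
  intro h
  let i₀ : Fin k := ⟨0, by omega⟩
  let i₁ : Fin k := ⟨1, by omega⟩
  let j₀ : Fin d := ⟨0, by omega⟩
  let j₁ : Fin d := ⟨1, by omega⟩
  let u := e.symm (i₀, j₀)
  let v := e.symm (i₁, j₁)
  have huv : u ≠ v := e.symm.injective.ne fun h => absurd (congrArg Prod.fst h) (by simp [i₀, i₁])
  have h0 : (Pi.single v (1 : F)) ⬝ᵥ (Pi.single u 1) = 0 := by simp [huv.symm]
  let t := tv (Pi.single u (1 : F)) (Pi.single v 1) h0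
  have ht : P * t * P⁻¹ ∈ Cfsg.Geo.specialLinear ι F := by
    have h1 := tv_mem_specialLinear _ _ h0
    rw [Cfsg.Geo.specialLinear, MonoidHom.mem_ker] at h1 ⊢
    rw [map_mul, map_mul, h1, mul_one, map_inv, mul_inv_cancel]
  obtain ⟨a, b, hab⟩ := exists_of_mem_tensorProductSubgroup (h ht)
  rw [tensorEquiv_apply] at hab
  have h2 : mat t = (mat a ⊗ₖ mat b).submatrix e e := by
    have := congrArg (fun X => mat P⁻¹ * X * mat P) hab
    simpa [mat, mul_assoc] using this
  have key : ∀ x y, mat a x.1 y.1 * mat b x.2 y.2 = mat t (e.symm x) (e.symm y) := fun x y => by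
    rw [h2]; simp
  have e00 := key (i₀, j₀) (i₀, j₀)
  have e11 := key (i₁, j₁) (i₁, j₁)
  have e01 := key (i₀, j₀) (i₁, j₁)
  have emix := key (i₀, j₀) (i₀, j₁)
  have hne : e.symm (i₀, j₁) ≠ u := e.symm.injective.ne fun h => absurd (congrArg Prod.snd h) (by simp [j₀, j₁])
  have hne' : e.symm (i₀, j₁) ≠ v := e.symm.injective.ne fun h => absurd (congrArg Prod.fst h) (by simp [i₀, i₁])
  simp only [mat_tv, t, Matrix.add_apply, Matrix.vecMulVec_apply, u, v] at e00 e01 e11 emix
  simp only [u, v] at huv hne hne'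
  simp [huv, huv.symm, hne, hne.symm, hne', hne'.symm] at e00 e01 e11 emix
  rcases emix with h | h
  · rw [h, zero_mul] at e00; exact zero_ne_one e00
  · rw [h, mul_zero] at e01; exact zero_ne_one e01

/-- The dimension of a product of commuting factors of a tensor decomposition. -/
theorem finrank_map₂_kronecker {k d : ℕ} (S : Submodule F (Matrix (Fin k) (Fin k) F))
    (T : Submodule F (Matrix (Fin d) (Fin d) F)) :
    Module.finrank F (Submodule.map₂ (Matrix.kroneckerBilinear (R := F)) S T) =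
      Module.finrank F S * Module.finrank F T := by
  classical
  let t := Module.finBasis F T
  let m := Module.finrank F T
  let Φ : (Fin m → S) →ₗ[F] Matrix (Fin k × Fin d) (Fin k × Fin d) F :=
    { toFun := fun f => ∑ i, (f i).1 ⊗ₖ (t i).1
      map_add' := fun f g => by simp [Matrix.add_kronecker, Finset.sum_add_distrib]
      map_smul' := fun c f => by simp [Matrix.smul_kronecker, Finset.smul_sum] }
  have hinj : Function.Injective Φ := by
    rw [← LinearMap.ker_eq_bot, LinearMap.ker_eq_bot']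
    intro f hf
    funext i
    apply Subtype.ext
    ext x y
    have h1 : (∑ j, ((f j).1 x y) • t j : T) = 0 := by
      apply Subtype.ext
      rw [Submodule.coe_sum]
      ext u v
      have h2 := congrFun (congrFun hf (x, u)) (y, v)
      simpa [Φ, Matrix.sum_apply] using h2
    exact Fintype.linearIndependent_iff.1 t.linearIndependent _ h1 i
  have hrange : LinearMap.range Φ = Submodule.map₂ (Matrix.kroneckerBilinear (R := F)) S T := by
    refine le_antisymm ?_ ?_
    · rintro _ ⟨f, rfl⟩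
      show ∑ i, Matrix.kroneckerBilinear (R := F) (f i).1 (t i).1 ∈ _
      exact Submodule.sum_mem _ fun i _ => Submodule.apply_mem_map₂ (Matrix.kroneckerBilinear (R := F)) (f i).2 (t i).2
    · rw [Submodule.map₂_le]
      intro s hs b hb
      refine ⟨fun i => t.repr ⟨b, hb⟩ i • ⟨s, hs⟩, ?_⟩
      show ∑ i, (t.repr ⟨b, hb⟩ i • s) ⊗ₖ (t i).1 = s ⊗ₖ b
      have h1 := congrArg Subtype.val (t.sum_repr ⟨b, hb⟩)
      rw [Submodule.coe_sum] at h1
      conv_rhs => rw [show b = ∑ i, ((t.repr ⟨b, hb⟩ i • t i : T) : Matrix (Fin d) (Fin d) F) from h1.symm]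
      ext x y
      simp [Matrix.sum_apply, Finset.mul_sum]
      exact Finset.sum_congr rfl fun i _ => by ring
  rw [← hrange, LinearMap.finrank_range_of_inj hinj, Module.finrank_pi_fintype, Finset.sum_const,
    Finset.card_univ, Fintype.card_fin, smul_eq_mul, mul_comm]

end CfsgLib.Aschbacher
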