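import Cfsg.Agent.Aschbacher.Core
import Cfsg.Agent.Aschbacher.Tensor

/-!
Aschbacher's reduction in arbitrary dimension: an irreducible group stabilises a decomposition, normalises an
extension field, stabilises a tensor decomposition, has a normal subgroup of symplectic type, permutes commuting
matrix algebras of equal degree, or is almost simple modulo scalars with an absolutely irreducible perfect core.
-/

set_option autoImplicit false

namespace CfsgLib.Aschbacher

open Matrix
open scoped Kronecker commutatorElement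

variable {ι : Type} [Fintype ι] [DecidableEq ι] {F : Type*} [Field F]

/-- The group stabilises a decomposition into parts of equal dimension. -/
def HasDecomposition (H : Subgroup (GL ι F)) : Prop :=
  ∃ (t m : ℕ) (D : Fin t → Submodule F (ι → F)), Cfsg.Geo.IsMDecomposition m D ∧
    t * m = Fintype.card ι ∧ H ≤ Cfsg.Geo.decompositionStabilizer D

/-- The group normalises an extension field of prime degree. -/
def HasField (H : Subgroup (GL ι F)) : Prop :=
  ∃ (r : ℕ) (K : Subalgebra F (Matrix ι ι F)), r.Prime ∧ r ∣ Fintype.card ι ∧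
    Cfsg.Geo.IsFieldSubalgebra r K ∧ H ≤ Cfsg.Geo.subalgebraNormalizer K

/-- The group stabilises a non-trivial tensor decomposition. -/
def HasTensor (H : Subgroup (GL ι F)) : Prop :=
  ∃ (k d : ℕ) (e : ι ≃ Fin k × Fin d) (P : GL ι F), 2 ≤ k ∧ 2 ≤ d ∧ k * d = Fintype.card ι ∧
    H ≤ Cfsg.Geo.tensorProductSubgroup k d e P

/-- The group has a minimal normal subgroup which is abelian modulo scalars and absolutely irreducible. -/
def HasAbelianSocle (H : Subgroup (GL ι F)) : Prop :=
  ∃ (N : Subgroup (GL ι F)) (r m : ℕ), r.Prime ∧ Fintype.card ι = r ^ m ∧ N ≤ H ∧ Normalizes H N ∧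
    Cfsg.Geo.ActsAbsolutelyIrreducibly (Cfsg.Geo.matrixSet N) ∧ ⁅N, N⁆ ≤ Cfsg.Geo.scalars ι F ∧
    (∀ x ∈ N, x ^ r ∈ Cfsg.Geo.scalars ι F) ∧
    ∀ M ≤ N, Normalizes H M → (∀ x ∈ M, ∀ y ∈ M, x * y = y * x) → M ≤ Cfsg.Geo.scalars ι F

/-- The group permutes commuting matrix algebras of the same degree. -/
def HasCentralProduct (H : Subgroup (GL ι F)) : Prop :=
  ∃ (d t : ℕ) (φ : Fin t → Matrix (Fin d) (Fin d) F →ₐ[F] Matrix ι ι F), 2 ≤ d ∧ 2 ≤ t ∧
    Fintype.card ι = d ^ t ∧ (∀ i, Function.Injective (φ i)) ∧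
    (∀ i j, i ≠ j → ∀ a b, φ i a * φ j b = φ j b * φ i a) ∧
    ∀ h ∈ H, ∀ i, ∃ j, ∀ a, ∃ b, mat h * φ i a * mat h⁻¹ = φ j b

/-- The group transitively permutes commuting matrix algebras, each spanned by a perfect subgroup. -/
def HasSpannedProduct (H : Subgroup (GL ι F)) : Prop :=
  ∃ (d t : ℕ) (φ : Fin t → Matrix (Fin d) (Fin d) F →ₐ[F] Matrix ι ι F) (P : Fin t → Subgroup (GL ι F)),
    2 ≤ d ∧ 2 ≤ t ∧ Fintype.card ι = d ^ t ∧ (∀ i, Function.Injective (φ i)) ∧
    (∀ i j, i ≠ j → ∀ a b, φ i a * φ j b = φ j b * φ i a) ∧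
    (∀ h ∈ H, ∀ i, ∃ j, ∀ a, ∃ b, mat h * φ i a * mat h⁻¹ = φ j b) ∧
    (∀ i j, ∃ h ∈ H, ∀ a, ∃ b, mat h * φ i a * mat h⁻¹ = φ j b) ∧
    ∀ i, P i ≤ H ∧ ⁅P i, P i⁆ = P i ∧ (∀ b, φ i b ∈ Submodule.span F (Cfsg.Geo.matrixSet (P i))) ∧
      ∀ x ∈ P i, ∃ b, mat x = φ i b

theorem HasSpannedProduct.hasCentralProduct {H : Subgroup (GL ι F)} (h : HasSpannedProduct H) :
    HasCentralProduct H := by
  obtain ⟨d, t, φ, -, hd, ht, hcard, hinj, hcomm, hperm, -⟩ := h
  exact ⟨d, t, φ, hd, ht, hcard, hinj, hcomm, hperm⟩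

theorem isFieldSubalgebra_ne_bot {r : ℕ} (hr : r.Prime) {K : Subalgebra F (Matrix ι ι F)}
    (hK : Cfsg.Geo.IsFieldSubalgebra r K) [Nonempty ι] : ¬ K ≤ ⊥ := by
  intro h
  have h1 := hK.finrank_eq
  rw [le_bot_iff.1 h, Subalgebra.finrank_bot] at h1
  exact hr.ne_one h1.symm

theorem scalar_stabilizes {s : GL ι F} (hs : s ∈ Cfsg.Geo.scalars ι F) (W : Submodule F (ι → F)) :
    s ∈ Cfsg.Geo.subspaceStabilizer W := by
  obtain ⟨d, hd⟩ := (Cfsg.Geo.mem_scalars_iff s).1 hs
  rw [mem_subspaceStabilizer_iff]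
  intro w hw
  rw [show mat s = (d : F) • 1 from hd, Matrix.smul_mulVec, Matrix.one_mulVec]
  exact W.smul_mem _ hw

theorem absIrred_of_le_sup_scalars {N Q : Subgroup (GL ι F)}
    (habs : Cfsg.Geo.ActsAbsolutelyIrreducibly (Cfsg.Geo.matrixSet N))
    (h : N ≤ Q ⊔ Cfsg.Geo.scalars ι F) :
    Cfsg.Geo.ActsAbsolutelyIrreducibly (Cfsg.Geo.matrixSet Q) := by
  refine ⟨actsIrreducibly_iff.2 fun W hW => (actsIrreducibly_iff.1 habs.1) W
    (h.trans (sup_le hW fun s hs => scalar_stabilizes hs W)), fun M hM => habs.2 M ?_⟩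
  rw [forall_matrixSet]
  intro x hx
  obtain ⟨y, hy, s, hs, rfl⟩ := Subgroup.mem_sup_of_normal_right.1 (h hx)
  obtain ⟨d, hd⟩ := (Cfsg.Geo.mem_scalars_iff s).1 hs
  simp only [mat, Units.val_mul]
  rw [hd, Matrix.mul_smul, mul_one, Matrix.mul_smul, Matrix.smul_mul, (forall_matrixSet.1 hM) y hy]

/-- A subgroup normalised by an irreducible group whose commutant is scalar is irreducible. -/
theorem irreducible_of_commutant_scalar [Nonempty ι] {H N : Subgroup (GL ι F)}
    (hirr : Cfsg.Geo.ActsIrreducibly (Cfsg.Geo.matrixSet H)) (hn : Normalizes H N)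
    (hC : ∀ M ∈ commutant (Cfsg.Geo.matrixSet N), ∃ c : F, M = c • (1 : Matrix ι ι F)) :
    Cfsg.Geo.ActsIrreducibly (Cfsg.Geo.matrixSet N) := by
  obtain ⟨W, hW0, hWN, hmin⟩ := exists_minimal_invariant N
  let S : Set (Submodule F (ι → F)) := {U | N ≤ Cfsg.Geo.subspaceStabilizer U ∧ U ⊓ W = ⊥}
  have hS : S.Nonempty := ⟨⊥, fun x _ => mem_subspaceStabilizer_iff.2 fun w hw => by
    rw [Submodule.mem_bot] at hw ⊢; rw [hw, Matrix.mulVec_zero], bot_inf_eq _⟩
  obtain ⟨U, ⟨hUN, hUW⟩, hmax⟩ := (wellFounded_gt (α := Submodule F (ι → F))).has_min S hS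
  have hsup : ∀ {A B : Submodule F (ι → F)}, N ≤ Cfsg.Geo.subspaceStabilizer A →
      N ≤ Cfsg.Geo.subspaceStabilizer B → N ≤ Cfsg.Geo.subspaceStabilizer (A ⊔ B) := by
    intro A B hA hB x hx
    rw [mem_subspaceStabilizer_iff]
    intro w hw
    obtain ⟨a, ha, b, hb, rfl⟩ := Submodule.mem_sup.1 hw
    rw [Matrix.mulVec_add]
    exact Submodule.add_mem_sup (mem_subspaceStabilizer_iff.1 (hA hx) a ha)
      (mem_subspaceStabilizer_iff.1 (hB hx) b hb)
  have htop : U ⊔ W = ⊤ := by
    let O : Submodule F (ι → F) := ⨆ h : H, W.map (Matrix.toLin' (mat h.1))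
    have hO : O = ⊤ := by
      refine ((actsIrreducibly_iff.1 hirr) O fun g hg => ?_).resolve_left fun h0 => hW0 ?_
      · rw [mem_subspaceStabilizer_iff, ← map_le_iff, Submodule.map_iSup]
        refine iSup_le fun h => le_iSup_of_le ⟨g * h.1, H.mul_mem hg h.2⟩ (le_of_eq ?_)
        rw [← Submodule.map_comp, ← Matrix.toLin'_mul]
        rfl
      · refine le_bot_iff.1 (le_trans ?_ h0.le)
        refine le_trans (le_of_eq ?_) (le_iSup _ (1 : H))
        simp
    rw [eq_top_iff, ← hO]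
    refine iSup_le fun h => ?_
    let W' := W.map (Matrix.toLin' (mat h.1))
    show W' ≤ U ⊔ W
    have hW'N : N ≤ Cfsg.Geo.subspaceStabilizer W' := translate_invariant hn h.2 hWN
    have hint : N ≤ Cfsg.Geo.subspaceStabilizer (W.map (Matrix.toLin' (mat h.1)) ⊓ (U ⊔ W)) := by
      intro x hx
      rw [mem_subspaceStabilizer_iff]
      exact fun w hw => ⟨mem_subspaceStabilizer_iff.1 (hW'N hx) w hw.1,
        mem_subspaceStabilizer_iff.1 (hsup hUN hWN hx) w hw.2⟩
    -- pull back to `W`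
    let W'' := (W' ⊓ (U ⊔ W)).map (Matrix.toLin' (mat (h.1⁻¹)))
    have hW''N : N ≤ Cfsg.Geo.subspaceStabilizer W'' := translate_invariant hn (H.inv_mem h.2) hint
    have hW''le : W'' ≤ W := by
      rintro _ ⟨_, ⟨⟨w, hw, rfl⟩, -⟩, rfl⟩
      rwa [Matrix.toLin'_apply, Matrix.toLin'_apply, inv_mulVec_mulVec]
    have hback : W' ⊓ (U ⊔ W) = W''.map (Matrix.toLin' (mat h.1)) := by
      rw [← Submodule.map_comp, ← Matrix.toLin'_mul, mat_mul_inv, Matrix.toLin'_one, Submodule.map_id]
    rcases hmin W'' hW''le hW''N with h0 | h0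
    · rw [h0, Submodule.map_bot] at hback
      have hUW' : (U ⊔ W') ⊓ W = ⊥ := by
        rw [eq_bot_iff]
        rintro x ⟨hx1, hx2⟩
        obtain ⟨u, hu, w', hw', rfl⟩ := Submodule.mem_sup.1 hx1
        have h1 : w' ∈ W' ⊓ (U ⊔ W) :=
          ⟨hw', Submodule.mem_sup.2 ⟨-u, U.neg_mem hu, u + w', hx2, by abel⟩⟩
        rw [hback, Submodule.mem_bot] at h1
        subst h1
        rw [add_zero] at hx2 ⊢
        exact hUW.le ⟨hu, hx2⟩
      by_contra hne
      refine hmax (U ⊔ W') ⟨hsup hUN hW'N, hUW'⟩ (lt_of_le_of_ne le_sup_left fun heq => hne ?_)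
      exact (heq ▸ le_sup_right : W' ≤ U).trans le_sup_left
    · rw [h0] at hback
      exact hback.ge.trans inf_le_right
  have hc : IsCompl W U := IsCompl.of_eq (by rw [inf_comm]; exact hUW) (by rw [sup_comm]; exact htop)
  let π : (ι → F) →ₗ[F] (ι → F) := W.projection U hc
  obtain ⟨c, hcπ⟩ := hC (LinearMap.toMatrix' π) (mem_commutant.2 (forall_matrixSet.2 fun x hx => by
    apply Matrix.toLin'.injective
    apply LinearMap.ext
    intro v
    obtain ⟨w, hw, u, hu, rfl⟩ := Submodule.mem_sup.1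
      ((hc.sup_eq_top).ge (Submodule.mem_top : v ∈ (⊤ : Submodule F (ι → F))))
    simp only [Matrix.toLin'_mul, LinearMap.comp_apply, Matrix.toLin'_toMatrix', Matrix.toLin'_apply,
      map_add, Matrix.mulVec_add, π]
    rw [Submodule.projection_apply_of_mem_left hc hw,
      Submodule.projection_apply_of_mem_left hc (mem_subspaceStabilizer_iff.1 (hWN hx) w hw),
      (Submodule.projection_apply_eq_zero_iff hc).2 hu,
      (Submodule.projection_apply_eq_zero_iff hc).2 (mem_subspaceStabilizer_iff.1 (hUN hx) u hu),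
      Matrix.mulVec_zero]))
  have hπ : ∀ v, π v = c • v := fun v => by
    have h1 := congrArg (fun M => Matrix.toLin' M v) hcπ
    simpa [Matrix.toLin'_toMatrix'] using h1
  obtain ⟨w, hw, hwne⟩ := Submodule.exists_mem_ne_zero_of_ne_bot hW0
  have hc1 : c = 1 := by
    have h1 := hπ w
    rw [show π w = w from Submodule.projection_apply_of_mem_left hc hw] at h1
    have h2 : (c - 1) • w = 0 := by rw [sub_smul, ← h1, one_smul, sub_self]
    exact sub_eq_zero.1 ((smul_eq_zero.1 h2).resolve_right hwne)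
  have hWtop : W = ⊤ := by
    rw [eq_top_iff]
    intro v _
    have := hπ v
    rw [hc1, one_smul] at this
    rw [← this]
    exact Submodule.projection_apply_mem hc v
  exact actsIrreducibly_iff.2 fun W' hW' => (hmin W' (hWtop ▸ le_top) hW').imp_right fun h => h.trans hWtop

/-- A normalised subgroup is scalar, absolutely irreducible, or gives a geometric structure. -/
theorem normal_trichotomy [Fintype F] [Nonempty ι] {H N : Subgroup (GL ι F)}
    (hirr : Cfsg.Geo.ActsIrreducibly (Cfsg.Geo.matrixSet H)) (hn : Normalizes H N)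
    (hNs : ¬ N ≤ Cfsg.Geo.scalars ι F) :
    HasDecomposition H ∨ HasField H ∨ HasTensor H ∨
      Cfsg.Geo.ActsAbsolutelyIrreducibly (Cfsg.Geo.matrixSet N) := by
  rcases algebra_reduction hirr (commutant_normalized hn) with
    ⟨t, m, D, hD, htm, hst, -⟩ | ⟨r, K, hr, hrd, -, hK, hle, -⟩ | ⟨k, φ, hk, hφ, hφC⟩
  · exact Or.inl ⟨t, m, D, hD, htm, hst⟩
  · exact Or.inr (Or.inl ⟨r, K, hr, hrd, hK, hle⟩)
  right; right
  obtain ⟨d, e, P, he⟩ := exists_tensor hk (φ := φ)
  have hcard : k * d = Fintype.card ι := by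
    rw [Fintype.card_congr e, Fintype.card_prod, Fintype.card_fin, Fintype.card_fin]
  rcases Nat.lt_or_ge k 2 with hk1 | hk2
  · obtain rfl : k = 1 := by omega
    have hsc : ∀ M ∈ commutant (Cfsg.Geo.matrixSet N), ∃ c : F, M = c • (1 : Matrix ι ι F) := by
      intro M hM
      rw [← hφC] at hM
      obtain ⟨a, rfl⟩ := hM
      refine ⟨a 0 0, ?_⟩
      show φ a = _
      rw [← map_one φ, ← map_smul]
      congr 1
      ext i j
      simp [Fin.fin_one_eq_zero i, Fin.fin_one_eq_zero j]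
    exact Or.inr ⟨irreducible_of_commutant_scalar hirr hn hsc,
      fun M hM => hsc M (mem_commutant.2 fun s hs => (hM s hs).symm)⟩
  rcases Nat.lt_or_ge d 2 with hd1 | hd2
  · exfalso
    obtain rfl : d = 1 := by
      have h0 : 0 < Fintype.card ι := Fintype.card_pos
      rw [← hcard] at h0
      have := Nat.pos_of_mul_pos_left h0
      omega
    apply hNs
    intro x hx
    obtain ⟨b, hb⟩ := eq_tensorEquiv_of_commute hk (e := e) (P := P) (M := mat x) fun a => by
      have h1 : φ a ∈ commutant (Cfsg.Geo.matrixSet N) := hφC ▸ φ.mem_range_self a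
      rw [← he]
      exact ((mem_commutant.1 h1) _ (mem_matrixSet hx)).symm
    have hb1 : b = b 0 0 • (1 : Matrix (Fin 1) (Fin 1) F) := by
      ext i j; simp [Fin.fin_one_eq_zero i, Fin.fin_one_eq_zero j]
    rw [hb1, Matrix.kronecker_smul, Matrix.one_kronecker_one, map_smul, map_one] at hb
    have h0 : b 0 0 ≠ 0 := fun h0 => x.ne_zero (by rw [show (x : Matrix ι ι F) = _ from hb, h0, zero_smul])
    exact (Cfsg.Geo.mem_scalars_iff x).2 ⟨Units.mk0 _ h0, hb⟩
  · refine Or.inl ⟨k, d, e, P, hk2, hd2, hcard, fun h hh => ?_⟩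
    refine normalizer_le_tensorProductSubgroup hk hφ he ?_
    rw [hφC]
    exact commutant_normalized hn hh

/-- A minimal normal subgroup which is abelian modulo scalars forces a prime power dimension. -/
theorem card_eq_pow_of_abelian [Fintype F] [Nonempty ι] {H N Z : Subgroup (GL ι F)}
    (hn2 : 2 ≤ Fintype.card ι) (hn : Normalizes H N) (hZs : Z ≤ Cfsg.Geo.scalars ι F)
    (hmin : ∀ M ≤ N, Normalizes H M → M ≤ Z ∨ M ⊔ Z = N)
    (habs : Cfsg.Geo.ActsAbsolutelyIrreducibly (Cfsg.Geo.matrixSet N))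
    (hD : ⁅N, N⁆ ≤ Cfsg.Geo.scalars ι F) :
    ∃ r m : ℕ, r.Prime ∧ Fintype.card ι = r ^ m ∧ ∀ x ∈ N, x ^ r ∈ Cfsg.Geo.scalars ι F := by
  classical
  let S : Subgroup N := (Cfsg.Geo.scalars ι F).subgroupOf N
  haveI : S.Normal := inferInstance
  let Q := N ⧸ S
  have hcomm : ∀ a b : Q, a * b = b * a := by
    intro a b
    obtain ⟨a, rfl⟩ := QuotientGroup.mk'_surjective S a
    obtain ⟨b, rfl⟩ := QuotientGroup.mk'_surjective S b
    apply commutatorElement_eq_one_iff_mul_comm.1
    rw [← map_commutatorElement, QuotientGroup.mk'_apply, QuotientGroup.eq_one_iff,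
      Subgroup.mem_subgroupOf]
    exact hD (Subgroup.commutator_mem_commutator a.2 b.2)
  letI : CommGroup Q := { (inferInstance : Group Q) with mul_comm := hcomm }
  haveI : Fintype Q := Fintype.ofFinite _
  let s : Q → N := Quotient.out
  have hs : ∀ q, (s q : Q) = q := fun q => Quotient.out_eq q
  have hχ : ∀ (q : Q) (x : N), ∃ c : F, mat x.1 * mat (s q).1 * mat x.1⁻¹ = c • mat (s q).1 := by
    intro q x
    obtain ⟨c, hc⟩ := (Cfsg.Geo.mem_scalars_iff _).1
      (hD (Subgroup.commutator_mem_commutator x.2 (s q).2))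
    refine ⟨c, ?_⟩
    rw [commutatorElement_def, Units.val_mul, Units.val_mul, Units.val_mul] at hc
    calc mat x.1 * mat (s q).1 * mat x.1⁻¹
        = mat x.1 * mat (s q).1 * mat x.1⁻¹ * mat (s q).1⁻¹ * mat (s q).1 := by simp [mat, mul_assoc]
      _ = _ := by rw [hc, Matrix.smul_mul, one_mul]
  choose χ hχ using hχ
  have hne0 : ∀ q, mat (s q).1 ≠ 0 := fun q => (s q).1.ne_zero
  have hinj1 : ∀ (q : Q) (c c' : F), c • mat (s q).1 = c' • mat (s q).1 → c = c' := fun q c c' h =>
    smul_left_injective F (hne0 q) h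
  let χh : Q → (N →* F) := fun q =>
    { toFun := χ q
      map_one' := hinj1 q _ _ (by rw [← hχ q 1]; simp [mat])
      map_mul' := fun x y => hinj1 q _ _ (by
        rw [← hχ q (x * y)]
        calc mat (x * y : N).1 * mat (s q).1 * mat (x * y : N).1⁻¹
            = mat x.1 * (mat y.1 * mat (s q).1 * mat y.1⁻¹) * mat x.1⁻¹ := by simp [mat, mul_assoc]
          _ = _ := by rw [hχ q y, Matrix.mul_smul, Matrix.smul_mul, hχ q x, smul_smul, mul_comm (χ q y)]) }
  have hχinj : Function.Injective χh := by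
    intro q q' hqq
    rw [← hs q, ← hs q', QuotientGroup.eq, Subgroup.mem_subgroupOf]
    refine mem_scalars_of_commute habs fun x hx => ?_
    have h1 := hχ q ⟨x, hx⟩
    have h2 := hχ q' ⟨x, hx⟩
    rw [show χ q' ⟨x, hx⟩ = χ q ⟨x, hx⟩ from (DFunLike.congr_fun hqq ⟨x, hx⟩).symm] at h2
    have hc0 : χ q ⟨x, hx⟩ ≠ 0 := fun h0 => by
      rw [h0, zero_smul] at h1
      exact (x * (s q).1 * x⁻¹).ne_zero (by simpa [Units.val_mul] using h1)
    obtain ⟨c, hcu⟩ : ∃ c : GL ι F, c ∈ Cfsg.Geo.scalars ι F ∧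
        x * (s q).1 * x⁻¹ = c * (s q).1 ∧ x * (s q').1 * x⁻¹ = c * (s q').1 :=
      ⟨scalarGL (Units.mk0 _ hc0), scalarGL_mem _,
        Units.ext (by
          rw [Units.val_mul, Units.val_mul, Units.val_mul,
            show ((scalarGL (Units.mk0 _ hc0) : GL ι F) : Matrix ι ι F) = _ from mat_scalarGL _,
            Matrix.smul_mul, one_mul]
          exact h1),
        Units.ext (by
          rw [Units.val_mul, Units.val_mul, Units.val_mul,
            show ((scalarGL (Units.mk0 _ hc0) : GL ι F) : Matrix ι ι F) = _ from mat_scalarGL _,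
            Matrix.smul_mul, one_mul]
          exact h2)⟩
    have e1 : x * ((s q).1⁻¹ * (s q').1) * x⁻¹ = (s q).1⁻¹ * (s q').1 := by
      calc x * ((s q).1⁻¹ * (s q').1) * x⁻¹ = (x * (s q).1 * x⁻¹)⁻¹ * (x * (s q').1 * x⁻¹) := by group
        _ = _ := by rw [hcu.2.1, hcu.2.2]; group
    show ((s q).1⁻¹ * (s q').1) * x = x * ((s q).1⁻¹ * (s q').1)
    calc ((s q).1⁻¹ * (s q').1) * x = x * ((s q).1⁻¹ * (s q').1) * x⁻¹ * x := by rw [e1]
      _ = _ := by group
  have hli : LinearIndependent F (fun q => mat (s q).1) := by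
    rw [Fintype.linearIndependent_iff]
    intro c hc q₀
    have h1 : ∀ i j, c q₀ * mat (s q₀).1 i j = 0 := by
      intro i j
      have h2 : ∀ x : N, ∑ q, (c q * mat (s q).1 i j) • (χh q x) = 0 := by
        intro x
        have h3 := congrArg (fun M => (mat x.1 * M * mat x.1⁻¹) i j) hc
        simp only [mul_zero, zero_mul, Matrix.mul_sum, Matrix.sum_mul, Matrix.mul_smul, Matrix.smul_mul,
          hχ, Matrix.sum_apply, Matrix.smul_apply, smul_eq_mul, Matrix.zero_apply] at h3
        rw [← h3]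
        exact Finset.sum_congr rfl fun q _ => by
          show c q * mat (s q).1 i j * χ q x = _
          ring
      have h4 := (linearIndependent_monoidHom N F).comp χh hχinj
      refine Fintype.linearIndependent_iff.1 h4 (fun q => c q * mat (s q).1 i j) ?_ q₀
      funext x
      simpa [Finset.sum_apply] using h2 x
    by_contra h0
    exact hne0 q₀ (by
      ext i j
      exact (mul_eq_zero.1 (h1 i j)).resolve_left h0)
  have hspan : Submodule.span F (Set.range fun q => mat (s q).1) = ⊤ := by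
    rw [eq_top_iff, ← span_eq_top_of_absIrred habs, Submodule.span_le]
    rintro _ ⟨x, hx, rfl⟩
    let q : Q := ((⟨x, hx⟩ : N) : Q)
    have h1 : ((⟨x, hx⟩ : N) : Q) = (s q : Q) := (hs q).symm
    rw [eq_comm, QuotientGroup.eq, Subgroup.mem_subgroupOf] at h1
    obtain ⟨d, hd⟩ := (Cfsg.Geo.mem_scalars_iff _).1 h1
    show mat x ∈ _
    have h2 : mat x = (d : F) • mat (s q).1 := by
      calc mat x = mat (s q).1 * mat ((s q)⁻¹ * ⟨x, hx⟩ : N).1 := by simp [mat]
        _ = _ := by rw [show mat ((s q)⁻¹ * ⟨x, hx⟩ : N).1 = _ from hd, Matrix.mul_smul, mul_one]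
    rw [h2]
    exact Submodule.smul_mem _ _ (Submodule.subset_span ⟨q, rfl⟩)
  have hcardQ : Fintype.card Q = Fintype.card ι * Fintype.card ι := by
    rw [← finrank_span_eq_card hli, hspan, finrank_top, Module.finrank_matrix, Module.finrank_self, mul_one]
  obtain ⟨r, hr, hrQ⟩ := Nat.exists_prime_and_dvd (n := Fintype.card Q) (by
    rw [hcardQ]; intro h; have := Nat.eq_one_of_mul_eq_one_right h; omega)
  haveI : Fact r.Prime := ⟨hr⟩
  let M : Subgroup (GL ι F) := Subgroup.closure ((fun y : GL ι F => y ^ r) '' (N : Set (GL ι F)))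
  have hMN : M ≤ N := (Subgroup.closure_le _).2 (by rintro _ ⟨y, hy, rfl⟩; exact N.pow_mem hy r)
  have hMn : Normalizes H M := by
    intro h hh x hx
    have : M ≤ M.comap (MulAut.conj h).toMonoidHom := by
      refine (Subgroup.closure_le _).2 ?_
      rintro _ ⟨y, hy, rfl⟩
      show (MulAut.conj h) (y ^ r) ∈ M
      rw [map_pow]
      exact Subgroup.subset_closure ⟨_, hn h hh y hy, rfl⟩
    exact this hx
  rcases hmin M hMN hMn with hM | hM
  · have hpow : ∀ x ∈ N, x ^ r ∈ Cfsg.Geo.scalars ι F := fun x hx =>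
      hZs (hM (Subgroup.subset_closure ⟨x, hx, rfl⟩))
    have hp : IsPGroup r Q := fun q => ⟨1, by
      obtain ⟨x, rfl⟩ := QuotientGroup.mk'_surjective S q
      rw [pow_one, ← map_pow, QuotientGroup.mk'_apply, QuotientGroup.eq_one_iff, Subgroup.mem_subgroupOf]
      exact hpow x.1 x.2⟩
    obtain ⟨j, hj⟩ := IsPGroup.iff_card.1 hp
    rw [Nat.card_eq_fintype_card, hcardQ] at hj
    obtain ⟨m, -, hm⟩ := (Nat.dvd_prime_pow hr).1 (Dvd.intro _ hj)
    exact ⟨r, m, hr, hm, hpow⟩
  · exfalso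
    let f : Q →* Q := powMonoidHom r
    have hsurj : Function.Surjective f := by
      intro q
      obtain ⟨x, rfl⟩ := QuotientGroup.mk'_surjective S q
      have h1 : N ≤ ((f.range).comap (QuotientGroup.mk' S)).map N.subtype := by
        conv_lhs => rw [← hM]
        refine sup_le ((Subgroup.closure_le _).2 ?_) fun z hz => ?_
        · rintro _ ⟨y, hy, rfl⟩
          exact ⟨⟨y, hy⟩ ^ r, ⟨(⟨y, hy⟩ : N), by rw [map_pow]; rfl⟩, rfl⟩
        · have hzN : z ∈ N := hM.le (Subgroup.mem_sup_right hz)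
          refine ⟨⟨z, hzN⟩, ?_, rfl⟩
          show QuotientGroup.mk' S ⟨z, hzN⟩ ∈ f.range
          rw [QuotientGroup.mk'_apply, (QuotientGroup.eq_one_iff _).2 (Subgroup.mem_subgroupOf.2 (hZs hz))]
          exact one_mem _
      obtain ⟨y, hy, hyx⟩ := h1 x.2
      exact (Subtype.ext hyx : y = x) ▸ hy
    obtain ⟨g, hg⟩ := exists_prime_orderOf_dvd_card r hrQ
    have h1 : g = 1 := (Finite.injective_iff_surjective.2 hsurj) (by
      show g ^ r = 1 ^ r
      rw [one_pow, ← hg, pow_orderOf_eq_one])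
    rw [h1, orderOf_one] at hg
    exact hr.ne_one hg.symm

/-- Spans of products of commuting subgroups in tensor coordinates. -/
theorem finrank_span_sup {k d : ℕ} (hk : 0 < k) (hd : 0 < d) {e : ι ≃ Fin k × Fin d} {T : GL ι F}
    {R P : Subgroup (GL ι F)} (hRP : ∀ y ∈ R, ∀ x ∈ P, y * x = x * y)
    (hR : ∀ y ∈ R, ∃ a, mat y = tensorEquiv e T (a ⊗ₖ 1))
    (hP : ∀ x ∈ P, ∃ b, mat x = tensorEquiv e T (1 ⊗ₖ b)) :
    ∃ (SA : Submodule F (Matrix (Fin k) (Fin k) F)) (SB : Submodule F (Matrix (Fin d) (Fin d) F)),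
      (∀ b ∈ SB, tensorEquiv e T ((1 : Matrix (Fin k) (Fin k) F) ⊗ₖ b) ∈
        Submodule.span F (Cfsg.Geo.matrixSet P)) ∧
      Module.finrank F (Submodule.span F (Cfsg.Geo.matrixSet R)) = Module.finrank F SA ∧
      Module.finrank F (Submodule.span F (Cfsg.Geo.matrixSet P)) = Module.finrank F SB ∧
      Module.finrank F (Submodule.span F (Cfsg.Geo.matrixSet (R ⊔ P))) =
        Module.finrank F SA * Module.finrank F SB := by
  classical
  let o : Fin k := ⟨0, hk⟩
  let La : Matrix (Fin k) (Fin k) F →ₗ[F] Matrix ι ι F :=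
    { toFun := fun a => tensorEquiv e T (a ⊗ₖ (1 : Matrix (Fin d) (Fin d) F))
      map_add' := fun a b => by rw [Matrix.add_kronecker, map_add]
      map_smul' := fun c a => by rw [Matrix.smul_kronecker, map_smul]; rfl }
  let Lb : Matrix (Fin d) (Fin d) F →ₗ[F] Matrix ι ι F :=
    { toFun := fun b => tensorEquiv e T ((1 : Matrix (Fin k) (Fin k) F) ⊗ₖ b)
      map_add' := fun a b => by rw [Matrix.kronecker_add, map_add]
      map_smul' := fun c a => by rw [Matrix.kronecker_smul, map_smul]; rfl }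
  have hLb : Function.Injective Lb := by
    intro b b' h
    ext u v
    have := congrFun (congrFun ((tensorEquiv e T).injective h) (o, u)) (o, v)
    simpa using this
  let YA := La ⁻¹' Cfsg.Geo.matrixSet R
  let YB := Lb ⁻¹' Cfsg.Geo.matrixSet P
  have hA : La '' YA = Cfsg.Geo.matrixSet R := by
    refine Set.image_preimage_eq_of_subset ?_
    rintro _ ⟨y, hy, rfl⟩
    obtain ⟨a, ha⟩ := hR y hy
    exact ⟨a, ha.symm⟩
  have hB : Lb '' YB = Cfsg.Geo.matrixSet P := by
    refine Set.image_preimage_eq_of_subset ?_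
    rintro _ ⟨x, hx, rfl⟩
    obtain ⟨b, hb⟩ := hP x hx
    exact ⟨b, hb.symm⟩
  have hspanB : Submodule.span F (Cfsg.Geo.matrixSet P) = (Submodule.span F YB).map Lb := by
    rw [Submodule.map_span, hB]
  have hprod : Cfsg.Geo.matrixSet (R ⊔ P) =
      (tensorEquiv e T) '' Set.image2 (fun a b => a ⊗ₖ b) YA YB := by
    have hnorm : R ≤ Subgroup.normalizer P := fun y hy => by
      rw [Subgroup.mem_normalizer_iff]
      intro x
      refine ⟨fun hx => ?_, fun hx => ?_⟩
      · rwa [hRP y hy x hx, mul_inv_cancel_right]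
      · have h1 := hRP y⁻¹ (inv_mem hy) _ hx
        have h2 : y⁻¹ * (y * x * y⁻¹) = x * y⁻¹ := by group
        rw [h2] at h1
        exact (mul_right_cancel h1).symm ▸ hx
    ext M
    constructor
    · rintro ⟨g, hg, rfl⟩
      rw [SetLike.mem_coe, ← SetLike.mem_coe, Subgroup.coe_mul_of_left_le_normalizer_right _ _ hnorm] at hg
      obtain ⟨y, hy, x, hx, rfl⟩ := hg
      obtain ⟨a, ha⟩ := hR y hy
      obtain ⟨b, hb⟩ := hP x hx
      refine ⟨a ⊗ₖ b, ⟨a, ⟨y, hy, ha⟩, b, ⟨x, hx, hb⟩, rfl⟩, ?_⟩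
      show _ = mat (y * x)
      rw [show mat (y * x) = mat y * mat x from Units.val_mul _ _, ha, hb, ← map_mul,
        ← Matrix.mul_kronecker_mul, mul_one, one_mul]
    · rintro ⟨_, ⟨a, ⟨y, hy, ha⟩, b, ⟨x, hx, hb⟩, rfl⟩, rfl⟩
      refine ⟨y * x, Subgroup.mul_mem_sup hy hx, ?_⟩
      show mat (y * x) = _
      rw [show mat (y * x) = mat y * mat x from Units.val_mul _ _,
        show mat y = La a from ha, show mat x = Lb b from hb]
      show tensorEquiv e T _ * tensorEquiv e T _ = _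
      rw [← map_mul, ← Matrix.mul_kronecker_mul, mul_one, one_mul]
  refine ⟨Submodule.span F YA, Submodule.span F YB, fun b hb => ?_, ?_, ?_, ?_⟩
  · rw [hspanB]
    exact Submodule.mem_map_of_mem (f := Lb) hb
  · rw [← hA, ← Submodule.map_span]
    exact ((Submodule.equivMapOfInjective La (fun a a' h => by
      ext u v
      have := congrFun (congrFun ((tensorEquiv e T).injective h) (u, ⟨0, hd⟩)) (v, ⟨0, hd⟩)
      simpa using this) _).finrank_eq).symm
  · rw [hspanB]
    exact ((Submodule.equivMapOfInjective Lb hLb _).finrank_eq).symm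
  · rw [hprod]
    have h1 : Set.image2 (fun a b => a ⊗ₖ b) YA YB =
        Set.image2 (fun a b => Matrix.kroneckerBilinear (R := F) a b) YA YB := rfl
    rw [h1, show (tensorEquiv e T : Matrix (Fin k × Fin d) (Fin k × Fin d) F → Matrix ι ι F) =
      (tensorEquiv e T).toLinearEquiv.toLinearMap from rfl, ← Submodule.map_span,
      ← Submodule.map₂_span_span, ← finrank_map₂_kronecker]
    exact ((Submodule.equivMapOfInjective _ (tensorEquiv e T).injective _).finrank_eq).symm

theorem commute_span {A B : Subgroup (GL ι F)} (h : ∀ x ∈ A, ∀ y ∈ B, x * y = y * x) :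
    ∀ u ∈ Submodule.span F (Cfsg.Geo.matrixSet A), ∀ v ∈ Submodule.span F (Cfsg.Geo.matrixSet B),
      u * v = v * u := by
  have h1 : ∀ x ∈ A, ∀ v ∈ Submodule.span F (Cfsg.Geo.matrixSet B), mat x * v = v * mat x := by
    intro x hx v hv
    induction hv using Submodule.span_induction with
    | mem v hv =>
      obtain ⟨y, hy, rfl⟩ := hv
      show mat x * mat y = mat y * mat x
      simp only [mat, ← Units.val_mul, h x hx y hy]
    | zero => simp
    | add a b _ _ ha hb => rw [mul_add, add_mul, ha, hb]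
    | smul c a _ ha => rw [Matrix.mul_smul, Matrix.smul_mul, ha]
  intro u hu v hv
  induction hu using Submodule.span_induction with
  | mem u hu =>
    obtain ⟨x, hx, rfl⟩ := hu
    exact h1 x hx v hv
  | zero => simp
  | add a b _ _ ha hb => rw [mul_add, add_mul, ha, hb]
  | smul c a _ ha => rw [Matrix.mul_smul, Matrix.smul_mul, ha]

/-- The second factor of a tensor decomposition, as an algebra homomorphism. -/
def rightFactor {k d : ℕ} (e : ι ≃ Fin k × Fin d) (P : GL ι F) :
    Matrix (Fin d) (Fin d) F →ₐ[F] Matrix ι ι F :=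
  (tensorEquiv e P).toAlgHom.comp
    { toFun := fun b => (1 : Matrix (Fin k) (Fin k) F) ⊗ₖ b
      map_one' := Matrix.one_kronecker_one
      map_mul' := fun b b' => by rw [← Matrix.mul_kronecker_mul, mul_one]
      map_zero' := Matrix.kronecker_zero _
      map_add' := fun b b' => Matrix.kronecker_add _ _ _
      commutes' := fun c => by
        rw [Algebra.algebraMap_eq_smul_one, Algebra.algebraMap_eq_smul_one, Matrix.kronecker_smul,
          Matrix.one_kronecker_one] }

theorem finrank_span_conj (g : GL ι F) (A : Subgroup (GL ι F)) :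
    Module.finrank F (Submodule.span F (Cfsg.Geo.matrixSet (A.map (MulAut.conj g).toMonoidHom))) =
      Module.finrank F (Submodule.span F (Cfsg.Geo.matrixSet A)) := by
  let L : Matrix ι ι F →ₗ[F] Matrix ι ι F :=
    (LinearMap.mulLeft F (mat g)).comp (LinearMap.mulRight F (mat g⁻¹))
  have hinj : Function.Injective L := fun x y h => by
    have h1 : mat g⁻¹ * (mat g * (x * mat g⁻¹)) * mat g = mat g⁻¹ * (mat g * (y * mat g⁻¹)) * mat g :=
      congrArg (fun M => mat g⁻¹ * M * mat g) h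
    simpa [mat, mul_assoc] using h1
  have hset : L '' Cfsg.Geo.matrixSet A = Cfsg.Geo.matrixSet (A.map (MulAut.conj g).toMonoidHom) := by
    ext M
    constructor
    · rintro ⟨_, ⟨x, hx, rfl⟩, rfl⟩
      exact ⟨g * x * g⁻¹, ⟨x, hx, rfl⟩, by simp [L, mat, mul_assoc]⟩
    · rintro ⟨_, ⟨x, hx, rfl⟩, rfl⟩
      exact ⟨_, ⟨x, hx, rfl⟩, by simp [L, mat, mul_assoc]⟩
  rw [← hset, ← Submodule.map_span]
  exact ((Submodule.equivMapOfInjective L hinj _).finrank_eq).symm

set_option maxHeartbeats 1000000 in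
/-- A normal subgroup whose conjugates commute modulo scalars gives commuting matrix algebras. -/
theorem centralProduct_of_minimal [Fintype F] [Nonempty ι] {H N Z M : Subgroup (GL ι F)}
    (hNH : N ≤ H) (hn : Normalizes H N) (hZs : Z ≤ Cfsg.Geo.scalars ι F)
    (hZ : ∀ x ∈ N, x ∈ Cfsg.Geo.scalars ι F → x ∈ Z)
    (habs : Cfsg.Geo.ActsAbsolutelyIrreducibly (Cfsg.Geo.matrixSet N))
    (hZM : Z ≤ M) (hMN : M ≤ N) (hMlt : M ≠ N) (hMn : Normalizes N M)
    (hsub : ∀ L ≤ M, Normalizes N L → L ≤ Z ∨ L ⊔ Z = M)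
    (hcgen : (⨆ h : H, M.map (MulAut.conj h.1).toMonoidHom) ⊔ Z = N)
    (hMM : ¬ ⁅M, M⁆ ≤ Z) : HasSpannedProduct H := by
  classical
  let c : H → Subgroup (GL ι F) := fun h => M.map (MulAut.conj h.1).toMonoidHom
  have hcN : ∀ h, c h ≤ N := by
    rintro h _ ⟨x, hx, rfl⟩
    exact hn h.1 h.2 x (hMN hx)
  have hcn : ∀ h, Normalizes N (c h) := by
    rintro h g hg _ ⟨x, hx, rfl⟩
    refine ⟨(h.1⁻¹ * g * h.1) * x * (h.1⁻¹ * g * h.1)⁻¹, hMn _ (hn.conj_inv h.2 hg) x hx, ?_⟩
    simp [mul_assoc]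
  have hMMle : ⁅M, M⁆ ≤ M := by
    rw [Subgroup.commutator_le]
    intro a ha b hb
    rw [commutatorElement_def]
    exact mul_mem (mul_mem (mul_mem ha hb) (inv_mem ha)) (inv_mem hb)
  have hMMn : Normalizes N ⁅M, M⁆ := by
    intro g hg x hx
    have : ⁅M, M⁆ ≤ ⁅M, M⁆.comap (MulAut.conj g).toMonoidHom := by
      rw [Subgroup.commutator_le]
      intro a ha b hb
      show (MulAut.conj g) ⁅a, b⁆ ∈ ⁅M, M⁆
      rw [map_commutatorElement]
      exact Subgroup.commutator_mem_commutator (hMn g hg a ha) (hMn g hg b hb)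
    exact this hx
  have hMZ : M ≤ ⁅M, M⁆ ⊔ Cfsg.Geo.scalars ι F :=
    ((hsub _ hMMle hMMn).resolve_left hMM).ge.trans (sup_le_sup_left hZs _)
  have hMself : ∀ h : H, c h ≠ M → c h ⊓ M ≤ Z := by
    intro h hne
    have hint : Normalizes N (c h ⊓ M) := fun g hg x hx => ⟨hcn h g hg x hx.1, hMn g hg x hx.2⟩
    refine (hsub (c h ⊓ M) inf_le_right hint).resolve_right fun hint' => hne ?_
    have h1 : M ≤ c h ⊔ Z := hint'.ge.trans (sup_le_sup_right inf_le_left Z)
    have hZc : Z ≤ c h := fun s hs => ⟨s, hZM hs, by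
      show h.1 * s * h.1⁻¹ = s
      rw [← scalars_comm (hZs hs) (g := h.1), mul_inv_cancel_right]⟩
    have hMc : M ≤ c h := h1.trans (sup_le le_rfl hZc)
    have hcard : Nat.card (c h) = Nat.card M :=
      Nat.card_congr (M.equivMapOfInjective _ (MulAut.conj h.1).injective).toEquiv.symm
    exact (Subgroup.eq_of_le_of_card_ge hMc hcard.le).symm
  have hcc : ∀ g g' : H, c g ≠ c g' → ∀ x ∈ c g, x ∈ c g' → x ∈ Cfsg.Geo.scalars ι F := by
    intro g g' hne x hx hx'
    obtain ⟨y, hy, rfl⟩ := hx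
    have hk : c (g⁻¹ * g') ≠ M := by
      intro he
      apply hne
      show M.map _ = M.map _
      conv_lhs => rw [← he]
      rw [Subgroup.map_map]
      congr 1
      ext z
      simp [mul_assoc]
    refine Cfsg.Geo.scalars_normal.conj_mem y (hZs (hMself _ hk ⟨?_, hy⟩)) g.1
    obtain ⟨z, hz, hzx⟩ := hx'
    refine ⟨z, hz, ?_⟩
    have : g.1⁻¹ * (g'.1 * z * g'.1⁻¹) * g.1 = y := by
      rw [show g'.1 * z * g'.1⁻¹ = g.1 * y * g.1⁻¹ from hzx]; group
    simpa [mul_assoc] using this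
  let κ := Set.range c
  haveI : Finite H := inferInstance
  haveI : Fintype κ := Fintype.ofFinite κ
  let ε : Fin (Fintype.card κ) ≃ κ := (Fintype.equivFin κ).symm
  let t := Fintype.card κ
  let A : Fin t → Subgroup (GL ι F) := fun i => (ε i).1
  have hA : ∀ i, ∃ g, A i = c g := fun i => by
    obtain ⟨g, hg⟩ := (ε i).2
    exact ⟨g, hg.symm⟩
  have hAinj : Function.Injective A := Subtype.val_injective.comp ε.injective
  have hAsurj : ∀ g, ∃ i, A i = c g := fun g => ⟨ε.symm ⟨c g, g, rfl⟩, by simp [A]⟩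
  let P : Fin t → Subgroup (GL ι F) := fun i => ⁅A i, A i⁆
  have hPA : ∀ i, P i ≤ A i := by
    intro i
    show ⁅A i, A i⁆ ≤ A i
    rw [Subgroup.commutator_le]
    intro a ha b hb
    rw [commutatorElement_def]
    exact mul_mem (mul_mem (mul_mem ha hb) (inv_mem ha)) (inv_mem hb)
  have hPc : ∀ i g, A i = c g → P i = ⁅M, M⁆.map (MulAut.conj g.1).toMonoidHom := by
    intro i g hg
    show ⁅A i, A i⁆ = _
    rw [hg, Subgroup.map_commutator]
  have hcomm : ∀ i j, i ≠ j → ∀ x ∈ P i, ∀ y ∈ P j, x * y = y * x := by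
    intro i j hij x hx y hy
    obtain ⟨g, hg⟩ := hA i
    obtain ⟨g', hg'⟩ := hA j
    refine commute_commutator (Q := A j) (g := x) (fun b hb => ?_) y hy
    have hxA : x ∈ c g := hg ▸ hPA i hx
    have hbA : b ∈ c g' := hg' ▸ hb
    refine hcc g g' (hg ▸ hg' ▸ hAinj.ne hij) _ ?_ ?_
    · rw [show x * b * x⁻¹ * b⁻¹ = x * (b * x⁻¹ * b⁻¹) by group]
      exact mul_mem hxA (hcn g b (hcN g' hbA) _ (inv_mem hxA))
    · exact mul_mem (hcn g' x (hcN g hxA) b hbA) (inv_mem hbA)
  let Q := ⨆ i, P i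
  have hQabs : Cfsg.Geo.ActsAbsolutelyIrreducibly (Cfsg.Geo.matrixSet Q) := by
    refine absIrred_of_le_sup_scalars habs ?_
    conv_lhs => rw [← hcgen]
    refine sup_le (iSup_le fun g => ?_) (hZs.trans le_sup_right)
    obtain ⟨i, hi⟩ := hAsurj g
    refine (Subgroup.map_mono hMZ).trans ?_
    rw [Subgroup.map_sup, ← hPc i g hi]
    refine sup_le_sup (le_iSup P i) ?_
    rintro _ ⟨s, hs, rfl⟩
    exact Cfsg.Geo.scalars_normal.conj_mem s hs g.1
  have hrk : ∀ i, Module.finrank F (Submodule.span F (Cfsg.Geo.matrixSet (P i))) =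
      Module.finrank F (Submodule.span F (Cfsg.Geo.matrixSet ⁅M, M⁆)) := by
    intro i
    obtain ⟨g, hg⟩ := hA i
    rw [hPc i g hg, finrank_span_conj]
  have hPns : ∀ i, ¬ P i ≤ Cfsg.Geo.scalars ι F := by
    intro i h
    obtain ⟨g, hg⟩ := hA i
    apply hMM
    intro x hx
    have h1 : g.1 * x * g.1⁻¹ ∈ Cfsg.Geo.scalars ι F := h (by rw [hPc i g hg]; exact ⟨x, hx, rfl⟩)
    have h2 := Cfsg.Geo.scalars_normal.conj_mem _ h1 g.1⁻¹
    refine hZ x (hMN (hMMle hx)) ?_
    simpa [mul_assoc] using h2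
  have key : ∀ i, ∃ (d : ℕ) (φ : Matrix (Fin d) (Fin d) F →ₐ[F] Matrix ι ι F), 2 ≤ d ∧
      Function.Injective φ ∧
      Module.finrank F (Submodule.span F (Cfsg.Geo.matrixSet (P i))) = d * d ∧
      (∀ b, φ b ∈ Submodule.span F (Cfsg.Geo.matrixSet (P i))) ∧
      (∀ x ∈ P i, ∃ b, mat x = φ b) ∧
      ∀ R : Subgroup (GL ι F), (∀ y ∈ R, ∀ x ∈ P i, y * x = x * y) →
        Module.finrank F (Submodule.span F (Cfsg.Geo.matrixSet (R ⊔ P i))) =
          Module.finrank F (Submodule.span F (Cfsg.Geo.matrixSet R)) * (d * d) := by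
    intro i
    have hQn : Normalizes Q (P i) := by
      intro g hg x hx
      have hle : Q ≤ Subgroup.normalizer (P i : Set (GL ι F)) := by
        refine iSup_le fun j y hy => ?_
        rw [Subgroup.mem_normalizer_iff]
        intro z
        rcases eq_or_ne j i with rfl | hji
        · refine ⟨fun hz => mul_mem (mul_mem hy hz) (inv_mem hy), fun hz => ?_⟩
          have := mul_mem (mul_mem (inv_mem hy) hz) hy
          simpa [mul_assoc] using this
        · refine ⟨fun hz => ?_, fun hz => ?_⟩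
          · rwa [hcomm j i hji y hy z hz, mul_inv_cancel_right]
          · have h1 := hcomm j i hji y⁻¹ (inv_mem hy) _ hz
            rw [show y⁻¹ * (y * z * y⁻¹) = z * y⁻¹ by group] at h1
            exact (mul_right_cancel h1).symm ▸ hz
      exact (Subgroup.mem_normalizer_iff.1 (hle hg) x).1 hx
    have hmem : ∀ j, j ≠ i → ∀ y ∈ P j, mat y ∈ commutant (Cfsg.Geo.matrixSet (P i)) := fun j hj y hy =>
      mem_commutant.2 (forall_matrixSet.2 fun x hx => by
        simp only [mat, ← Units.val_mul, hcomm i j hj.symm x hx y hy])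
    rcases algebra_reduction hQabs.1 (commutant_normalized hQn) with
      ⟨s, m, D, hD, hsm, -, hstab⟩ | ⟨r, K, hr, -, hKC, hK, -, hcentral⟩ | ⟨k, φ, hk, -, hφC⟩
    · exfalso
      have hs0 : 0 < s := by have := hD.two_le; omega
      have hst : Q ≤ Cfsg.Geo.subspaceStabilizer (D ⟨0, hs0⟩) := iSup_le fun j y hy => by
        rw [mem_subspaceStabilizer_iff]
        refine hstab (mat y) (fun z hz hzc => ?_) _
        rcases eq_or_ne j i with rfl | hji
        · exact (mem_commutant.1 hz _ (mem_matrixSet hy))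
        · exact (hzc _ (hmem j hji y hy)).symm
      have hm := hD.finrank_eq ⟨0, hs0⟩
      rcases (actsIrreducibly_iff.1 hQabs.1) _ hst with h | h
      · rw [h, finrank_bot] at hm
        exact hD.pos.ne hm
      · rw [h, finrank_top, Module.finrank_fintype_fun_eq_card, ← hsm] at hm
        have := hD.two_le
        nlinarith [hD.pos]
    · exfalso
      refine isFieldSubalgebra_ne_bot hr hK fun z hz => ?_
      obtain ⟨a, ha⟩ := hQabs.2 z (forall_matrixSet.2 fun g hg => by
        have hle : Q ≤ { carrier := {g | z * mat g = mat g * z}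
                         one_mem' := by simp [mat]
                         mul_mem' := fun {a b} ha hb => by
                           show z * mat (a * b) = mat (a * b) * z
                           rw [show mat (a * b) = mat a * mat b from Units.val_mul _ _, ← mul_assoc,
                             show z * mat a = _ from ha, mul_assoc, show z * mat b = _ from hb, mul_assoc]
                         inv_mem' := fun {a} ha => by
                           show z * mat a⁻¹ = mat a⁻¹ * z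
                           have h1 : mat a⁻¹ * (z * mat a) * mat a⁻¹ = mat a⁻¹ * (mat a * z) * mat a⁻¹ := by
                             rw [show z * mat a = _ from ha]
                           simpa [mat, mul_assoc] using h1.symm } := iSup_le fun j y hy => by
          show z * mat y = mat y * z
          rcases eq_or_ne j i with rfl | hji
          · exact ((mem_commutant.1 (hKC hz)) _ (mem_matrixSet hy)).symm
          · exact hcentral z hz _ (hmem j hji y hy)
        exact hle hg)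
      exact Algebra.mem_bot.2 ⟨a, by rw [ha, Algebra.algebraMap_eq_smul_one]⟩
    obtain ⟨d, e, T, he⟩ := exists_tensor hk (φ := φ)
    have hcardkd : k * d = Fintype.card ι := by
      rw [Fintype.card_congr e, Fintype.card_prod, Fintype.card_fin, Fintype.card_fin]
    have hd : 0 < d := by
      have h0 : 0 < Fintype.card ι := Fintype.card_pos
      rw [← hcardkd] at h0
      exact Nat.pos_of_mul_pos_left h0
    have hPb : ∀ x ∈ P i, ∃ b, mat x = tensorEquiv e T (1 ⊗ₖ b) := fun x hx =>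
      eq_tensorEquiv_of_commute hk fun a => by
        rw [← he]
        have h1 : φ a ∈ commutant (Cfsg.Geo.matrixSet (P i)) := hφC ▸ φ.mem_range_self a
        exact ((mem_commutant.1 h1) _ (mem_matrixSet hx)).symm
    have hRa : ∀ R : Subgroup (GL ι F), (∀ y ∈ R, ∀ x ∈ P i, y * x = x * y) →
        ∀ y ∈ R, ∃ a, mat y = tensorEquiv e T (a ⊗ₖ 1) := by
      intro R hR y hy
      have h1 : mat y ∈ φ.range := hφC ▸ mem_commutant.2 (forall_matrixSet.2 fun x hx => by
        simp only [mat, ← Units.val_mul, hR y hy x hx])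
      obtain ⟨a, ha⟩ := h1
      exact ⟨a, ha.symm.trans (he a)⟩
    let R₀ : Subgroup (GL ι F) := ⨆ (j : Fin t) (_ : j ≠ i), P j
    have hR₀ : ∀ y ∈ R₀, ∀ x ∈ P i, y * x = x * y := by
      intro y hy x hx
      have hle : R₀ ≤ Subgroup.centralizer {x} := iSup₂_le fun j hj z hz => by
        rw [Subgroup.mem_centralizer_singleton_iff]
        exact (hcomm j i hj z hz x hx)
      exact Subgroup.mem_centralizer_singleton_iff.1 (hle hy)
    obtain ⟨SA, SB, hSB, hfR, hfP, hfRP⟩ := finrank_span_sup hk hd hR₀ (hRa R₀ hR₀) hPb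
    have hfull : R₀ ⊔ P i = Q := by
      refine le_antisymm (sup_le (iSup₂_le fun j _ => le_iSup P j) (le_iSup P i)) (iSup_le fun j => ?_)
      rcases eq_or_ne j i with rfl | hji
      · exact le_sup_right
      · exact le_sup_of_le_left (le_iSup₂_of_le j hji le_rfl)
    rw [hfull, span_eq_top_of_absIrred hQabs, finrank_top, Module.finrank_matrix, Module.finrank_self,
      mul_one, ← hcardkd] at hfRP
    have hA' := Submodule.finrank_le SA
    have hB' := Submodule.finrank_le SB
    rw [Module.finrank_matrix, Module.finrank_self, mul_one, Fintype.card_fin] at hA' hB'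
    have hSBd : Module.finrank F SB = d * d := by
      refine le_antisymm hB' (not_lt.1 fun hlt => ?_)
      have h1 := Nat.mul_le_mul hA' (Nat.le_sub_one_of_lt hlt)
      have h2 : 0 < d * d := Nat.mul_pos hd hd
      have h3 : 0 < k * k := Nat.mul_pos hk hk
      have h4 : k * k * (d * d - 1) < k * k * (d * d) := Nat.mul_lt_mul_of_pos_left (by omega) h3
      have h5 : k * d * (k * d) = k * k * (d * d) := by ring
      omega
    have hSBtop : SB = ⊤ := Submodule.eq_top_of_finrank_eq (by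
      rw [hSBd, Module.finrank_matrix, Module.finrank_self, mul_one, Fintype.card_fin])
    have hd2 : 2 ≤ d := by
      by_contra hd1
      obtain rfl : d = 1 := by omega
      apply hPns i
      intro x hx
      obtain ⟨b, hb⟩ := hPb x hx
      have hb1 : b = b 0 0 • (1 : Matrix (Fin 1) (Fin 1) F) := by
        ext u v; simp [Fin.fin_one_eq_zero u, Fin.fin_one_eq_zero v]
      rw [hb1, Matrix.kronecker_smul, Matrix.one_kronecker_one, map_smul, map_one] at hb
      have h0 : b 0 0 ≠ 0 := fun h0 => x.ne_zero (by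
        rw [show (x : Matrix ι ι F) = _ from hb, h0, zero_smul])
      exact (Cfsg.Geo.mem_scalars_iff x).2 ⟨Units.mk0 _ h0, hb⟩
    refine ⟨d, rightFactor e T, hd2, fun b b' h => ?_, hfP.trans hSBd,
      fun b => hSB b (hSBtop ▸ Submodule.mem_top), hPb, fun R hR => ?_⟩
    · ext u v
      have := congrFun (congrFun ((tensorEquiv e T).injective h) (⟨0, hk⟩, u)) (⟨0, hk⟩, v)
      simpa using this
    · obtain ⟨SA', SB', -, h1, h2, h3⟩ := finrank_span_sup hk hd hR (hRa R hR) hPb
      rw [h3, ← h1, ← h2, hfP, hSBd]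
  have ht : 2 ≤ t := by
    by_contra hlt
    apply hMlt
    have hall : ∀ g, c g = M := by
      intro g
      obtain ⟨i, hi⟩ := hAsurj g
      obtain ⟨j, hj⟩ := hAsurj 1
      have hij : i = j := Fin.ext (by have := i.2; have := j.2; omega)
      rw [← hi, hij, hj]
      ext z
      simp [c]
    refine le_antisymm hMN ?_
    rw [← hcgen]
    exact sup_le (iSup_le fun g => (hall g).le) hZM
  choose dd ψ hdd hψinj hψrank hψmem hψsurj hψmul using key
  obtain ⟨i₀⟩ : Nonempty (Fin t) := ⟨⟨0, by omega⟩⟩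
  have hdeq : ∀ i, dd i = dd i₀ := fun i =>
    Nat.mul_self_inj.1 ((hψrank i).symm.trans ((hrk i).trans ((hrk i₀).symm.trans (hψrank i₀))))
  have hdim : ∀ s : Finset (Fin t), Module.finrank F
      (Submodule.span F (Cfsg.Geo.matrixSet (s.sup P))) = (dd i₀ * dd i₀) ^ s.card := by
    intro s
    induction s using Finset.induction_on with
    | empty =>
      rw [Finset.sup_empty, Finset.card_empty, pow_zero,
        show Cfsg.Geo.matrixSet (⊥ : Subgroup (GL ι F)) = {1} by ext; simp [Cfsg.Geo.matrixSet, eq_comm]]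
      exact finrank_span_singleton one_ne_zero
    | insert i s hi ih =>
      rw [Finset.sup_insert, Finset.card_insert_of_notMem hi, pow_succ, ← ih, sup_comm, hψmul i,
        hdeq i]
      intro y hy x hx
      have hle : s.sup P ≤ Subgroup.centralizer {x} := Finset.sup_le fun j hj z hz => by
        rw [Subgroup.mem_centralizer_singleton_iff]
        exact hcomm j i (fun h => hi (h ▸ hj)) z hz x hx
      exact Subgroup.mem_centralizer_singleton_iff.1 (hle hy)
  have hn' : Fintype.card ι = dd i₀ ^ t := by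
    have h1 := hdim Finset.univ
    rw [Finset.sup_univ_eq_iSup, span_eq_top_of_absIrred hQabs, finrank_top, Module.finrank_matrix,
      Module.finrank_self, mul_one, Finset.card_univ, Fintype.card_fin, mul_pow] at h1
    exact Nat.mul_self_inj.1 h1
  have hall : ∀ i, ∃ φ : Matrix (Fin (dd i₀)) (Fin (dd i₀)) F →ₐ[F] Matrix ι ι F, Function.Injective φ ∧
      (∀ b, φ b ∈ Submodule.span F (Cfsg.Geo.matrixSet (P i))) ∧ ∀ x ∈ P i, ∃ b, mat x = φ b :=
    fun i => hdeq i ▸ ⟨ψ i, hψinj i, hψmem i, hψsurj i⟩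
  choose φ hφinj hφmem hφsurj using hall
  suffices move : ∀ h, h ∈ H → ∀ i g, A i = c g → ∀ j (hh : h ∈ H), A j = c (⟨h, hh⟩ * g) →
      ∀ a, ∃ b, mat h * φ i a * mat h⁻¹ = φ j b by
    refine ⟨dd i₀, t, φ, P, hdd i₀, ht, hn', hφinj,
      fun i j hij a b => commute_span (hcomm i j hij) _ (hφmem i a) _ (hφmem j b), fun h hh i => ?_,
      fun i j => ?_, fun i => ?_⟩
    · obtain ⟨g, hg⟩ := hA i
      obtain ⟨j, hj⟩ := hAsurj (⟨h, hh⟩ * g)
      exact ⟨j, move h hh i g hg j hh hj⟩
    · obtain ⟨g, hg⟩ := hA i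
      obtain ⟨g', hg'⟩ := hA j
      exact ⟨_, (g' * g⁻¹).2, move _ (g' * g⁻¹).2 i g hg j (g' * g⁻¹).2
        (by rw [Subtype.coe_eta, inv_mul_cancel_right]; exact hg')⟩
    · obtain ⟨g, hg⟩ := hA i
      refine ⟨(hPA i).trans (hg.le.trans ((hcN g).trans hNH)), ?_, hφmem i, hφsurj i⟩
      rw [hPc i g hg, ← Subgroup.map_commutator]
      congr 1
      exact le_antisymm (Subgroup.commutator_mono hMMle hMMle)
        (commutator_le_of_le_sup le_rfl hMZ hMZ)
  intro h _ i g hg j hh hj a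
  have key : ∀ u ∈ Submodule.span F (Cfsg.Geo.matrixSet (P i)),
      ∃ b, mat h * u * mat h⁻¹ = φ j b := by
    intro u hu
    induction hu using Submodule.span_induction with
    | mem u hu =>
      obtain ⟨x, hx, rfl⟩ := hu
      have hx' : h * x * h⁻¹ ∈ P j := by
        rw [SetLike.mem_coe, hPc i g hg] at hx
        obtain ⟨y, hy, rfl⟩ := hx
        rw [hPc j _ hj]
        exact ⟨y, hy, by simp [mul_assoc]⟩
      obtain ⟨b, hb⟩ := hφsurj j _ hx'
      exact ⟨b, by rw [← hb]; simp [mat]⟩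
    | zero => exact ⟨0, by simp⟩
    | add u v _ _ hu hv =>
      obtain ⟨b, hb⟩ := hu
      obtain ⟨b', hb'⟩ := hv
      exact ⟨b + b', by rw [mul_add, add_mul, hb, hb', map_add]⟩
    | smul a u _ hu =>
      obtain ⟨b, hb⟩ := hu
      exact ⟨a • b, by rw [Matrix.mul_smul, Matrix.smul_mul, hb, map_smul]⟩
  exact key _ (hφmem i a)

set_option maxHeartbeats 1000000 in
/-- Almost simple case: the derived group of a minimal normalised non-scalar subgroup is a simple core. -/
theorem exists_simpleCore_or_spanned [Fintype F] [Nonempty ι] {H N Z : Subgroup (GL ι F)}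
    (hZs : Z ≤ Cfsg.Geo.scalars ι F) (hNH : N ≤ H) (hn : Normalizes H N) (hZN : Z ≤ N)
    (hZ : ∀ x ∈ N, x ∈ Cfsg.Geo.scalars ι F → x ∈ Z)
    (hmin : ∀ M ≤ N, Normalizes H M → M ≤ Z ∨ M ⊔ Z = N)
    (habs : Cfsg.Geo.ActsAbsolutelyIrreducibly (Cfsg.Geo.matrixSet N))
    (hD : ¬ ⁅N, N⁆ ≤ Cfsg.Geo.scalars ι F) : IsSimpleCore H ⁅N, N⁆ ∨ HasSpannedProduct H := by
  classical
  by_cases hcp : HasSpannedProduct H
  · exact Or.inr hcp
  left
  set P := ⁅N, N⁆ with hP
  have hPN : P ≤ N := by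
    rw [hP, Subgroup.commutator_le]
    intro a ha b hb
    rw [commutatorElement_def]
    exact mul_mem (mul_mem (mul_mem ha hb) (inv_mem ha)) (inv_mem hb)
  have hPn : Normalizes H P := by
    intro h hh x hx
    have : P ≤ (P.comap (MulAut.conj h).toMonoidHom) := by
      rw [hP, Subgroup.commutator_le]
      intro a ha b hb
      show (MulAut.conj h) ⁅a, b⁆ ∈ P
      rw [map_commutatorElement]
      exact Subgroup.commutator_mem_commutator (hn h hh a ha) (hn h hh b hb)
    exact this hx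
  have hPZ : P ⊔ Z = N :=
    (hmin P hPN hPn).resolve_left fun h => hD (le_trans h hZs)
  have hperf : ⁅P, P⁆ = P := by
    refine le_antisymm ?_ ?_
    · exact Subgroup.commutator_mono hPN hPN
    · exact commutator_le_of_le_sup hZs hPZ.ge hPZ.ge
  have hPabs : Cfsg.Geo.ActsAbsolutelyIrreducibly (Cfsg.Geo.matrixSet P) := by
    refine ⟨actsIrreducibly_iff.2 fun W hW => (actsIrreducibly_iff.1 habs.1) W ?_,
      fun M hM => habs.2 M ?_⟩
    · refine hPZ.ge.trans (sup_le hW fun s hs => ?_)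
      obtain ⟨d, hd⟩ := (Cfsg.Geo.mem_scalars_iff s).1 (hZs hs)
      rw [mem_subspaceStabilizer_iff]
      intro w hw
      rw [show mat s = (d : F) • 1 from hd, Matrix.smul_mulVec, Matrix.one_mulVec]
      exact W.smul_mem _ hw
    · rw [forall_matrixSet]
      intro x hx
      rw [← hPZ] at hx
      obtain ⟨y, hy, s, hs, rfl⟩ := Subgroup.mem_sup_of_normal_right.1
        ((sup_le_sup_left hZs P) hx)
      obtain ⟨d, hd⟩ := (Cfsg.Geo.mem_scalars_iff s).1 hs
      simp only [mat, Units.val_mul]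
      rw [hd, Matrix.mul_smul, mul_one, Matrix.mul_smul, Matrix.smul_mul,
        (forall_matrixSet.1 hM) y hy]
  -- normal subgroups of `N` above `Z` are trivial
  have hnormal : ∀ M, Z ≤ M → M ≤ N → Normalizes N M → M = Z ∨ M = N := by
    intro M₀ hM₀Z hM₀N hM₀n
    by_contra hne
    rw [not_or] at hne
    let S : Set (Subgroup (GL ι F)) := {M | Z < M ∧ M ≤ N ∧ Normalizes N M}
    obtain ⟨M, ⟨hZM, hMN, hMn⟩, hMmin⟩ := (wellFounded_lt (α := Subgroup (GL ι F))).has_min S
      ⟨M₀, lt_of_le_of_ne hM₀Z (Ne.symm hne.1), hM₀N, hM₀n⟩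
    have hMlt : M ≠ N := by
      intro h
      exact hMmin M₀ ⟨lt_of_le_of_ne hM₀Z (Ne.symm hne.1), hM₀N, hM₀n⟩
        (h ▸ lt_of_le_of_ne hM₀N hne.2)
    -- a normal subgroup of `N` inside `M` is central or everything
    have hsub : ∀ L ≤ M, Normalizes N L → L ≤ Z ∨ L ⊔ Z = M := by
      intro L hL hLn
      by_cases h : L ≤ Z
      · exact Or.inl h
      · refine Or.inr ?_
        have hle : L ⊔ Z ≤ M := sup_le hL hZM.le
        by_contra hne'
        refine hMmin (L ⊔ Z) ⟨?_, hle.trans hMN, ?_⟩ (lt_of_le_of_ne hle hne')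
        · exact lt_of_le_of_ne le_sup_right fun he => h (he ▸ le_sup_left)
        · intro g hg x hx
          obtain ⟨a, ha, s, hs, rfl⟩ := Subgroup.mem_sup_of_normal_right.1
            ((sup_le_sup_left hZs L) hx)
          have hsZ : s ∈ Z := by
            refine hZ s ?_ hs
            have h1 : a * s ∈ N := hMN (hle hx)
            simpa using mul_mem (inv_mem (hMN (hL ha))) h1
          rw [conj_mul_scalar hs]
          exact mul_mem (Subgroup.mem_sup_left (hLn g hg a ha)) (Subgroup.mem_sup_right hsZ)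
    -- conjugates of `M` under `H`
    let c : H → Subgroup (GL ι F) := fun h => M.map (MulAut.conj h.1).toMonoidHom
    have hcN : ∀ h, c h ≤ N := by
      rintro h _ ⟨x, hx, rfl⟩
      exact hn h.1 h.2 x (hMN hx)
    have hcn : ∀ h, Normalizes N (c h) := by
      rintro h g hg _ ⟨x, hx, rfl⟩
      refine ⟨(h.1⁻¹ * g * h.1) * x * (h.1⁻¹ * g * h.1)⁻¹, hMn _ (hn.conj_inv h.2 hg) x hx, ?_⟩
      simp [mul_assoc]
    have hcgen : (⨆ h, c h) ⊔ Z = N := by
      refine (hmin _ (iSup_le hcN) fun g hg x hx => ?_).resolve_left fun h => ?_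
      · have : (⨆ h, c h) ≤ (⨆ h, c h).comap (MulAut.conj g).toMonoidHom := by
          refine iSup_le fun h => ?_
          rintro _ ⟨y, hy, rfl⟩
          refine (le_iSup c ⟨g * h.1, H.mul_mem hg h.2⟩) ⟨y, hy, ?_⟩
          simp [mul_assoc]
        exact this hx
      · refine hZM.not_ge (le_trans ?_ h)
        refine le_trans (le_of_eq ?_) (le_iSup c 1)
        ext x
        simp [c]
    -- `[M, M]` is scalar
    have hMM : ⁅M, M⁆ ≤ Z := by
      by_contra hMM
      exact hcp (centralProduct_of_minimal hNH hn hZs hZ habs hZM.le hMN hMlt hMn hsub hcgen hMM)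
    -- hence `M` commutes modulo scalars with `N`
    have hMc : ∀ h, ∀ x ∈ M, ∀ y ∈ c h, x * y * x⁻¹ * y⁻¹ ∈ Z := by
      intro h x hx y hy
      have hint : Normalizes N (c h ⊓ M) := fun g hg z hz => ⟨hcn h g hg z hz.1, hMn g hg z hz.2⟩
      rcases hsub (c h ⊓ M) inf_le_right hint with hint' | hint'
      · refine hint' (Subgroup.mem_inf.2 ⟨mul_mem (hcn h x (hMN hx) y hy) (inv_mem hy), ?_⟩)
        rw [show x * y * x⁻¹ * y⁻¹ = x * (y * x⁻¹ * y⁻¹) by group]
        exact mul_mem hx (hMn y (hcN h hy) _ (inv_mem hx))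
      · have h1 : M ≤ c h ⊔ Z := hint'.ge.trans (sup_le_sup_right inf_le_left Z)
        have hZc : Z ≤ c h := fun s hs => ⟨s, hZM.le hs, by
          show h.1 * s * h.1⁻¹ = s
          rw [← scalars_comm (hZs hs) (g := h.1), mul_inv_cancel_right]⟩
        have hMc : M ≤ c h := h1.trans (sup_le le_rfl hZc)
        have hcard : Nat.card (c h) = Nat.card M :=
          Nat.card_congr (M.equivMapOfInjective _ (MulAut.conj h.1).injective).toEquiv.symm
        have heq := Subgroup.eq_of_le_of_card_ge hMc hcard.le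
        rw [← heq] at hy
        rw [← commutatorElement_def]
        exact hMM (Subgroup.commutator_mem_commutator hx hy)
    have hMscal : M ≤ Z := by
      intro x hx
      refine hZ x (hMN hx) (mem_scalars_of_commute hPabs fun y hy => ?_)
      rw [← hperf] at hy
      refine commute_commutator (fun z hz => ?_) y hy
      have hz' : z ∈ N := hPN hz
      let C : Subgroup (GL ι F) :=
        { carrier := {z | z ∈ N ∧ x * z * x⁻¹ * z⁻¹ ∈ Cfsg.Geo.scalars ι F}
          one_mem' := ⟨one_mem N, by simp⟩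
          mul_mem' := fun {a b} ha hb => ⟨mul_mem ha.1 hb.1, by
            have e : x * (a * b) * x⁻¹ * (a * b)⁻¹ =
                (x * a * x⁻¹ * a⁻¹) * (a * (x * b * x⁻¹ * b⁻¹) * a⁻¹) := by group
            rw [e]
            exact mul_mem ha.2 (Cfsg.Geo.scalars_normal.conj_mem _ hb.2 a)⟩
          inv_mem' := fun {a} ha => ⟨inv_mem ha.1, by
            have e : x * a⁻¹ * x⁻¹ * a⁻¹⁻¹ = a⁻¹ * (x * a * x⁻¹ * a⁻¹)⁻¹ * a⁻¹⁻¹ := by
              group
            rw [e]
            exact Cfsg.Geo.scalars_normal.conj_mem _ (inv_mem ha.2) a⁻¹⟩ }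
      have hle : N ≤ C := by
        conv_lhs => rw [← hcgen]
        refine sup_le (iSup_le fun h y hy => ⟨hcN h hy, hZs (hMc h x hx y hy)⟩) fun s hs =>
          ⟨hZN hs, ?_⟩
        rw [← scalars_comm (hZs hs) (g := x), mul_inv_cancel_right, mul_inv_cancel]
        exact one_mem _
      exact (hle hz').2
    exact hZM.not_ge hMscal
  refine ⟨hPN.trans hNH, hPn, hperf, ?_, ?_, fun h _ hc => ?_, hPabs⟩
  · haveI : Nontrivial (P ⧸ (Cfsg.Geo.scalars ι F).subgroupOf P) := by
      rw [QuotientGroup.nontrivial_iff, Ne, Subgroup.subgroupOf_eq_top]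
      exact hD
    refine ⟨fun K hK => ?_⟩
    let K₀ : Subgroup P := K.comap (QuotientGroup.mk' _)
    have hK₀n : K₀.Normal := hK.comap _
    let M : Subgroup (GL ι F) := K₀.map P.subtype ⊔ Z
    have hMN : M ≤ N := sup_le (fun _ ⟨k, _, hk⟩ => hk ▸ hPN k.2) hZN
    have hMn : Normalizes N M := by
      intro g hg x hx
      obtain ⟨_, ⟨k, hk, rfl⟩, s, hs, rfl⟩ := Subgroup.mem_sup_of_normal_right.1
        ((sup_le_sup_left hZs _) hx)
      rw [← hPZ] at hg
      obtain ⟨p, hp', t, ht, rfl⟩ := Subgroup.mem_sup_of_normal_right.1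
        ((sup_le_sup_left hZs P) hg)
      have e : p * t * (P.subtype k * s) * (p * t)⁻¹ = p * P.subtype k * p⁻¹ * s := by
        rw [← conj_mul_scalar hs, _root_.mul_inv_rev]
        calc p * t * (P.subtype k * s) * (t⁻¹ * p⁻¹)
            = p * (t * (P.subtype k * s) * t⁻¹) * p⁻¹ := by simp only [mul_assoc]
          _ = p * (P.subtype k * s) * p⁻¹ := by
            rw [scalars_comm ht (g := P.subtype k * s), mul_inv_cancel_right]
      rw [e]
      refine mul_mem (Subgroup.mem_sup_left ⟨⟨p, hp'⟩ * k * ⟨p, hp'⟩⁻¹, hK₀n.conj_mem k hk _, ?_⟩)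
        ?_
      · simp
      · refine Subgroup.mem_sup_right (hZ s ?_ hs)
        simpa using mul_mem (inv_mem (hPN k.2)) (hMN hx)
    rcases hnormal M le_sup_right hMN hMn with hM | hM
    · left
      rw [eq_bot_iff]
      intro q hq
      obtain ⟨p, rfl⟩ := QuotientGroup.mk'_surjective _ q
      rw [Subgroup.mem_bot, QuotientGroup.mk'_apply, QuotientGroup.eq_one_iff, Subgroup.mem_subgroupOf]
      exact hZs (hM ▸ (Subgroup.mem_sup_left ⟨p, hq, rfl⟩ : (p : GL ι F) ∈ M))
    · right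
      rw [eq_top_iff]
      intro q _
      obtain ⟨p, rfl⟩ := QuotientGroup.mk'_surjective _ q
      have h1 : P ≤ ⁅K₀.map P.subtype, K₀.map P.subtype⁆ :=
        commutator_le_of_le_sup hZs hM.ge hM.ge
      have h2 : ⁅K₀.map P.subtype, K₀.map P.subtype⁆ ≤ K₀.map P.subtype := by
        rw [Subgroup.commutator_le]
        intro a ha b hb
        rw [commutatorElement_def]
        exact mul_mem (mul_mem (mul_mem ha hb) (inv_mem ha)) (inv_mem hb)
      obtain ⟨k, hk, hkp⟩ := h2 (h1 p.2)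
      exact (Subtype.ext hkp : k = p) ▸ hk
  · intro hab
    apply hD
    intro x hx
    have hsc : ⁅P, P⁆ ≤ Cfsg.Geo.scalars ι F := by
      rw [Subgroup.commutator_le]
      intro a ha b hb
      have h1 : ((⁅(⟨a, ha⟩ : P), (⟨b, hb⟩ : P)⁆ : P) : P ⧸ (Cfsg.Geo.scalars ι F).subgroupOf P) = 1 := by
        rw [← QuotientGroup.mk'_apply, map_commutatorElement]
        exact commutatorElement_eq_one_iff_mul_comm.2 (hab.is_comm.comm _ _)
      rw [QuotientGroup.eq_one_iff, Subgroup.mem_subgroupOf] at h1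
      exact h1
    exact hsc (hperf.symm ▸ hx)
  · refine mem_scalars_of_commute hPabs fun x hx => ?_
    rw [← hperf] at hx
    exact commute_commutator hc x hx

theorem exists_simpleCore_or_product [Fintype F] [Nonempty ι] {H N Z : Subgroup (GL ι F)}
    (hZs : Z ≤ Cfsg.Geo.scalars ι F) (hNH : N ≤ H) (hn : Normalizes H N) (hZN : Z ≤ N)
    (hZ : ∀ x ∈ N, x ∈ Cfsg.Geo.scalars ι F → x ∈ Z)
    (hmin : ∀ M ≤ N, Normalizes H M → M ≤ Z ∨ M ⊔ Z = N)
    (habs : Cfsg.Geo.ActsAbsolutelyIrreducibly (Cfsg.Geo.matrixSet N))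
    (hD : ¬ ⁅N, N⁆ ≤ Cfsg.Geo.scalars ι F) : IsSimpleCore H ⁅N, N⁆ ∨ HasCentralProduct H :=
  (exists_simpleCore_or_spanned hZs hNH hn hZN hZ hmin habs hD).imp_right
    HasSpannedProduct.hasCentralProduct

/-- Aschbacher's reduction in arbitrary dimension. -/
theorem reduction [Fintype F] (hn2 : 2 ≤ Fintype.card ι) {H : Subgroup (GL ι F)}
    (hirr : Cfsg.Geo.ActsIrreducibly (Cfsg.Geo.matrixSet H)) :
    HasDecomposition H ∨ HasField H ∨ HasTensor H ∨ HasAbelianSocle H ∨ HasCentralProduct H ∨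
      ∃ P, IsSimpleCore H P := by
  classical
  haveI : Nonempty ι := Fintype.card_pos_iff.1 (by omega)
  have hHH : Normalizes H H := fun h hh x hx => mul_mem (mul_mem hh hx) (inv_mem hh)
  have hHZ : ¬ H ≤ Cfsg.Geo.scalars ι F := by
    intro h
    obtain ⟨i⟩ := ‹Nonempty ι›
    let v : ι → F := Pi.single i 1
    have hv : v ≠ 0 := fun h0 => by simpa [v] using congrFun h0 i
    rcases (actsIrreducibly_iff.1 hirr) (Submodule.span F {v}) fun g hg => scalar_stabilizes (h hg) _ with h1 | h1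
    · exact hv (Submodule.span_singleton_eq_bot.1 h1)
    · have h2 := congrArg (fun W : Submodule F (ι → F) => Module.finrank F W) h1
      simp only [finrank_top, Module.finrank_fintype_fun_eq_card, finrank_span_singleton hv] at h2
      omega
  let Z := H ⊓ Cfsg.Geo.scalars ι F
  let S : Set (Subgroup (GL ι F)) := {N | Z < N ∧ N ≤ H ∧ Normalizes H N}
  obtain ⟨N, ⟨hZN, hNH, hn⟩, hNmin⟩ := (wellFounded_lt (α := Subgroup (GL ι F))).has_min S
    ⟨H, lt_of_le_of_ne inf_le_left fun h => hHZ (h ▸ inf_le_right), le_rfl, hHH⟩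
  have hZ : ∀ x ∈ N, x ∈ Cfsg.Geo.scalars ι F → x ∈ Z := fun x hx hs => ⟨hNH hx, hs⟩
  have hNs : ¬ N ≤ Cfsg.Geo.scalars ι F := fun h =>
    hZN.not_ge fun x hx => hZ x hx (h hx)
  have hmin : ∀ M ≤ N, Normalizes H M → M ≤ Z ∨ M ⊔ Z = N := by
    intro M hM hMn
    by_cases h : M ≤ Z
    · exact Or.inl h
    refine Or.inr (by_contra fun hne => ?_)
    have hle : M ⊔ Z ≤ N := sup_le hM hZN.le
    refine hNmin (M ⊔ Z) ⟨lt_of_le_of_ne le_sup_right fun he => h (he ▸ le_sup_left),
      hle.trans hNH, ?_⟩ (lt_of_le_of_ne hle hne)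
    intro g hg x hx
    obtain ⟨a, ha, s, hs, rfl⟩ := Subgroup.mem_sup_of_normal_right.1
      ((sup_le_sup_left (inf_le_right : Z ≤ _) M) hx)
    have hsZ : s ∈ Z := by
      refine hZ s ?_ hs
      simpa using mul_mem (inv_mem (hM ha)) (hle hx)
    rw [conj_mul_scalar hs]
    exact mul_mem (Subgroup.mem_sup_left (hMn g hg a ha)) (Subgroup.mem_sup_right hsZ)
  rcases normal_trichotomy hirr hn hNs with h | h | h | habs
  · exact Or.inl h
  · exact Or.inr (Or.inl h)
  · exact Or.inr (Or.inr (Or.inl h))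
  right; right; right
  by_cases hD : ⁅N, N⁆ ≤ Cfsg.Geo.scalars ι F
  · obtain ⟨r, m, hr, hm, hpow⟩ := card_eq_pow_of_abelian hn2 hn inf_le_right hmin habs hD
    refine Or.inl ⟨N, r, m, hr, hm, hNH, hn, habs, hD, hpow, fun M hM hMn hMc => ?_⟩
    rcases hmin M hM hMn with h | h
    · exact h.trans inf_le_right
    · exfalso
      apply hNs
      intro x hx
      refine mem_scalars_of_commute habs fun y hy => ?_
      rw [← h] at hx hy
      obtain ⟨a, ha, s, hs, rfl⟩ := Subgroup.mem_sup_of_normal_right.1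
        ((sup_le_sup_left (inf_le_right : Z ≤ _) M) hx)
      obtain ⟨b, hb, t, ht, rfl⟩ := Subgroup.mem_sup_of_normal_right.1
        ((sup_le_sup_left (inf_le_right : Z ≤ _) M) hy)
      calc a * s * (b * t) = a * b * (s * t) := by
            rw [mul_assoc a, ← mul_assoc s, scalars_comm hs (g := b)]; simp only [mul_assoc]
        _ = b * a * (t * s) := by rw [hMc a ha b hb, scalars_comm hs (g := t)]
        _ = b * t * (a * s) := by
            rw [mul_assoc b t, ← mul_assoc t, scalars_comm ht (g := a)]; simp only [mul_assoc]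
  · rcases exists_simpleCore_or_product inf_le_right hNH hn hZN.le hZ hmin habs hD with h | h
    · exact Or.inr (Or.inr ⟨_, h⟩)
    · exact Or.inr (Or.inl h)

end CfsgLib.Aschbacher
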