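import Cfsg.Agent.Aschbacher.Subfield

/-!
For `q = 4` the normaliser of a cubic field extension in dimension three is defined over the field of two elements.
-/

set_option autoImplicit false

namespace CfsgLib.Aschbacher

open Matrix

variable {ι : Type} [Fintype ι] [DecidableEq ι] {F : Type*} [Field F]

theorem singer_four_le_subfield [Fintype F] (hι : Fintype.card ι = 3) (hF : Fintype.card F = 4)
    {K : Subalgebra F (Matrix ι ι F)} (hK : Cfsg.Geo.IsFieldSubalgebra 3 K) :
    ∃ (F₀ : Subfield F) (r : ℕ) (P : GL ι F), r.Prime ∧ Fintype.card F = Nat.card F₀ ^ r ∧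
      Cfsg.Geo.subalgebraNormalizer K ⊓ Cfsg.Geo.specialLinear ι F ≤
        Cfsg.Geo.subfieldSubgroup F₀ P := by
  classical
  haveI : Nonempty ι := Fintype.card_pos_iff.1 (by omega)
  obtain ⟨i₀⟩ := ‹Nonempty ι›
  haveI : CharP F 2 := by
    obtain ⟨p, hp⟩ := CharP.exists F
    haveI := hp
    obtain ⟨a, hp', ha⟩ := FiniteField.card F p
    have h1 : p ∣ 2 ^ 2 := by
      rw [show (2 : ℕ) ^ 2 = 4 from rfl, ← hF, ha]
      exact dvd_pow_self p a.pos.ne'
    exact (Nat.prime_dvd_prime_iff_eq hp' Nat.prime_two).1 (hp'.dvd_of_dvd_pow h1) ▸ hp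
  have hKf : IsField K :=
    { exists_pair_ne := ⟨0, 1, zero_ne_one⟩
      mul_comm := fun x y => Subtype.ext (hK.comm x.1 x.2 y.1 y.2)
      mul_inv_cancel := fun {x} hx => by
        obtain ⟨y, hy, hxy⟩ := hK.inv x.1 x.2 (fun h => hx (Subtype.ext h))
        exact ⟨⟨y, hy⟩, Subtype.ext hxy⟩ }
  letI : Field K := hKf.toField
  haveI : Finite K := inferInstance
  letI : Fintype K := Fintype.ofFinite K
  have hcardK : Fintype.card K = 64 := by
    rw [Module.card_eq_pow_finrank (K := F), hK.finrank_eq, hF]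
    norm_num
  obtain ⟨g, hg⟩ := IsCyclic.exists_generator (α := Kˣ)
  have hog : orderOf g = 63 := by
    rw [orderOf_eq_card_of_forall_mem_zpowers hg, Nat.card_eq_fintype_card, Fintype.card_units, hcardK]
  set ξ : K := ((g ^ 9 : Kˣ) : K) with hξdef
  have hξ7 : ξ ^ 7 = 1 := by
    rw [hξdef, ← Units.val_pow_eq_pow_val, ← pow_mul, show 9 * 7 = orderOf g by rw [hog], pow_orderOf_eq_one, Units.val_one]
  have hξ1 : ξ ≠ 1 := by
    intro h
    rw [hξdef, Units.val_eq_one] at h
    have := orderOf_dvd_of_pow_eq_one h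
    rw [hog] at this
    omega
  haveI : CharP K 2 := charP_of_injective_algebraMap (algebraMap F K).injective 2
  -- the elements fixed by the eighth power
  let S : AddSubgroup K :=
    { carrier := {x | x ^ 8 = x}
      add_mem' := fun {a b} ha hb => by
        show (a + b) ^ 8 = a + b
        haveI : Fact (Nat.Prime 2) := ⟨Nat.prime_two⟩
        rw [show 8 = 2 ^ 3 from rfl, add_pow_char_pow, show 2 ^ 3 = 8 from rfl, ha, hb]
      zero_mem' := zero_pow (by norm_num)
      neg_mem' := fun {a} ha => by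
        show (-a) ^ 8 = -a
        rw [CharTwo.neg_eq]
        exact ha }
  have hScard : Nat.card S ≤ 8 := by
    have h1 : (Finset.univ.filter fun x : K => x ^ 8 = x).card ≤
        ((Polynomial.X ^ 8 - Polynomial.X : Polynomial K)).natDegree := by
      apply Polynomial.card_le_degree_of_subset_roots
      intro x hx
      rw [Finset.mem_val, Finset.mem_filter] at hx
      rw [Polynomial.mem_roots (FiniteField.X_pow_card_sub_X_ne_zero K (p := 8) (by norm_num))]
      simp [hx.2]
    rw [FiniteField.X_pow_card_sub_X_natDegree_eq K (p := 8) (by norm_num)] at h1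
    show Nat.card {x : K // x ^ 8 = x} ≤ 8
    rw [Nat.card_eq_fintype_card, Fintype.card_subtype]
    exact h1
  have hξS : ∀ n : ℕ, ξ ^ n ∈ S := fun n => by
    show (ξ ^ n) ^ 8 = ξ ^ n
    rw [← pow_mul, mul_comm, pow_mul, pow_succ, hξ7, one_mul]
  -- `1, ξ, ξ²` are independent over `F`
  have hli : LinearIndependent F fun i : Fin 3 => ξ ^ (i : ℕ) := by
    have hξnot : ξ ∉ (algebraMap F K).range := by
      rintro ⟨c, hc⟩
      apply hξ1
      have h1 : c ^ 3 = 1 := by
        have hc0 : c ≠ 0 := by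
          rintro rfl
          rw [map_zero] at hc
          rw [← hc] at hξ7
          simp at hξ7
        have := FiniteField.pow_card_sub_one_eq_one c hc0
        rwa [hF] at this
      have h2 : c ^ 7 = 1 := (algebraMap F K).injective (by rw [map_pow, hc, hξ7, map_one])
      have h3 : c = 1 := by
        calc c = c ^ 7 := by rw [show 7 = 3 + 3 + 1 from rfl, pow_add, pow_add, h1, one_mul, one_mul, pow_one]
          _ = 1 := h2
      rw [← hc, h3, map_one]
    have hdeg : (minpoly F ξ).natDegree = 3 := by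
      have h1 : (minpoly F ξ).natDegree ∣ 3 := hK.finrank_eq ▸ minpoly.degree_dvd (IsIntegral.of_finite F ξ)
      rcases (Nat.dvd_prime Nat.prime_three).1 h1 with h2 | h2
      · exact absurd (minpoly.natDegree_eq_one_iff.1 h2) hξnot
      · exact h2
    have := linearIndependent_pow (K := F) ξ
    rw [hdeg] at this
    exact this
  -- every fixed element is a combination with coefficients zero and one
  let comb : (Fin 3 → Fin 2) → S := fun t =>
    ⟨∑ i, if t i = 1 then ξ ^ (i : ℕ) else 0, sum_mem fun i _ => by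
      split_ifs
      · exact hξS _
      · exact S.zero_mem⟩
  have hcomb_inj : Function.Injective comb := by
    intro t t' h
    have h1 : ∑ i, ((if t i = 1 then (1 : F) else 0) - (if t' i = 1 then (1 : F) else 0)) • ξ ^ (i : ℕ) = 0 := by
      simp only [sub_smul, ite_smul, one_smul, zero_smul, Finset.sum_sub_distrib]
      exact sub_eq_zero.2 (congrArg Subtype.val h)
    funext i
    have h2 := Fintype.linearIndependent_iff.1 hli _ h1 i
    revert h2
    generalize t i = a
    generalize t' i = b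
    fin_cases a <;> fin_cases b <;> simp
  have hcomb : Function.Surjective comb := by
    have hb := Fintype.bijective_iff_injective_and_card comb |>.2 ⟨hcomb_inj, le_antisymm
      (Fintype.card_le_of_injective comb hcomb_inj) (by
        rw [Fintype.card_fun, Fintype.card_fin, Fintype.card_fin, ← Nat.card_eq_fintype_card]
        exact hScard)⟩
    exact hb.2
  -- the basis
  let v : ι → F := Pi.single i₀ 1
  let e : ι ≃ Fin 3 := (Fintype.equivFin ι).trans (finCongr hι)
  have hvinj : ∀ x : K, x.1 *ᵥ v = 0 → x = 0 := by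
    intro x hx
    by_contra h0
    obtain ⟨y, hy, hxy⟩ := hK.inv x.1 x.2 fun h => h0 (Subtype.ext h)
    have h1 : y *ᵥ (x.1 *ᵥ v) = 0 := by rw [hx, Matrix.mulVec_zero]
    rw [Matrix.mulVec_mulVec, hK.comm y hy x.1 x.2, hxy, Matrix.one_mulVec] at h1
    simpa [v] using congrFun h1 i₀
  let Φ : K →ₗ[F] (ι → F) :=
    { toFun := fun x => x.1 *ᵥ v
      map_add' := fun a b => Matrix.add_mulVec a.1 b.1 v
      map_smul' := fun c a => Matrix.smul_mulVec c a.1 v }
  have hΦ : Function.Injective Φ := fun a b h => sub_eq_zero.1 (hvinj (a - b) (by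
    show Φ (a - b) = 0
    rw [map_sub, h, sub_self]))
  have hcols : LinearIndependent F fun i : ι => Φ (ξ ^ (e i : ℕ)) :=
    ((hli.map' Φ (LinearMap.ker_eq_bot.2 hΦ)).comp e e.injective)
  let Pm : Matrix ι ι F := Matrix.of fun k i => Φ (ξ ^ (e i : ℕ)) k
  have hPm : IsUnit Pm := Matrix.linearIndependent_cols_iff_isUnit.1 hcols
  let P : GL ι F := hPm.unit
  obtain ⟨F₀, hF₀, hF₀card⟩ : ∃ F₀ : Subfield F, (∀ a : F, a ∈ F₀ ↔ (a = 0 ∨ a = 1)) ∧ Nat.card F₀ = 2 := by
    haveI : Fact (Nat.Prime 2) := ⟨Nat.prime_two⟩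
    refine ⟨(⊥ : Subfield F), fun a => ⟨fun ha => ?_, ?_⟩, ?_⟩
    · rw [Subfield.mem_bot_iff_pow_eq_self F 2, pow_two] at ha
      rcases eq_or_ne a 0 with h | h
      · exact Or.inl h
      · exact Or.inr ((mul_eq_right₀ h).1 ha)
    · rintro (rfl | rfl)
      · exact zero_mem _
      · exact one_mem _
    · exact Subfield.card_bot F 2
  refine ⟨F₀, 2, P, Nat.prime_two, by rw [hF, hF₀card]; norm_num, fun h hh => ?_⟩
  obtain ⟨hn, hdet⟩ := Subgroup.mem_inf.1 hh
  have hψ : ∀ x : K, mat h * x.1 * mat h⁻¹ ∈ K := fun x => (hn x.1).1 x.2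
  let ψ : K → K := fun x => ⟨_, hψ x⟩
  have hψmul : ∀ x, mat h *ᵥ Φ x = (ψ x).1 *ᵥ (mat h *ᵥ v) := fun x => by
    show mat h *ᵥ (x.1 *ᵥ v) = (mat h * x.1 * mat h⁻¹) *ᵥ (mat h *ᵥ v)
    rw [Matrix.mulVec_mulVec, Matrix.mulVec_mulVec, mul_assoc (mat h * x.1), mat_inv_mul, mul_one]
  have hψpow : ∀ (x : K) (n : ℕ), ψ (x ^ n) = ψ x ^ n := by
    intro x n
    induction n with
    | zero => exact Subtype.ext (by simp [ψ, mat])
    | succ n ih =>
      rw [pow_succ, pow_succ, ← ih]
      apply Subtype.ext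
      show mat h * ((x ^ n : K).1 * x.1) * mat h⁻¹ =
        (mat h * (x ^ n : K).1 * mat h⁻¹) * (mat h * x.1 * mat h⁻¹)
      simp only [mul_assoc]
      rw [← mul_assoc (mat h⁻¹) (mat h), mat_inv_mul, one_mul]
  have hψS : ∀ i : ι, ψ (ξ ^ (e i : ℕ)) ∈ S := fun i => by
    show ψ (ξ ^ (e i : ℕ)) ^ 8 = ψ (ξ ^ (e i : ℕ))
    rw [← hψpow, show (ξ ^ (e i : ℕ)) ^ 8 = ξ ^ (e i : ℕ) from hξS _]
  -- the image of `v`
  have hΦs : Function.Surjective Φ :=
    (LinearMap.injective_iff_surjective_of_finrank_eq_finrank (by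
      rw [Module.finrank_fintype_fun_eq_card, hι]
      exact hK.finrank_eq)).1 hΦ
  obtain ⟨k₀, hk₀⟩ := hΦs (mat h *ᵥ v)
  have hk₀0 : k₀ ≠ 0 := by
    rintro rfl
    rw [map_zero] at hk₀
    have : v = 0 := mulVec_injective h (by simpa using hk₀.symm)
    simpa [v] using congrFun this i₀
  have hcol : ∀ i, mat h *ᵥ Φ (ξ ^ (e i : ℕ)) = Φ (k₀ * ψ (ξ ^ (e i : ℕ))) := fun i => by
    rw [hψmul, ← hk₀]
    show _ *ᵥ (k₀.1 *ᵥ v) = (k₀.1 * _) *ᵥ v
    rw [Matrix.mulVec_mulVec, hK.comm _ (ψ _).2 _ k₀.2]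
  -- rational coordinates of a fixed element
  have hcoord : ∀ x ∈ S, ∀ k, (mat P⁻¹ *ᵥ Φ x) k ∈ F₀ := by
    intro x hx k
    obtain ⟨t, ht⟩ := hcomb ⟨x, hx⟩
    have hx' : (∑ i, if t i = 1 then ξ ^ (i : ℕ) else 0) = x := congrArg Subtype.val ht
    have h1 : Φ x = mat P *ᵥ fun i => if t (e i) = 1 then (1 : F) else 0 := by
      rw [← hx', map_sum]
      funext l
      simp only [Finset.sum_apply, Matrix.mulVec, dotProduct, P, mat, IsUnit.unit_spec, Pm, Matrix.of_apply]
      rw [← Equiv.sum_comp e]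
      refine Finset.sum_congr rfl fun i _ => ?_
      split_ifs <;> simp
    rw [h1, inv_mulVec_mulVec]
    exact (hF₀ _).2 (by split_ifs <;> simp)
  -- the multiplier has norm one
  have hdk : Matrix.det k₀.1 = 1 := by
    let T : GL ι F := (Units.map K.val.toMonoidHom (Units.mk0 k₀ hk₀0))⁻¹ * h
    have hT : ∀ i, mat T *ᵥ Φ (ξ ^ (e i : ℕ)) = Φ (ψ (ξ ^ (e i : ℕ))) := by
      intro i
      refine mulVec_injective (Units.map K.val.toMonoidHom (Units.mk0 k₀ hk₀0)) ?_
      show mat _ *ᵥ (mat T *ᵥ _) = k₀.1 *ᵥ _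
      rw [Matrix.mulVec_mulVec, show mat (Units.map K.val.toMonoidHom (Units.mk0 k₀ hk₀0)) * mat T = mat h from by
        simp only [mat, ← Units.val_mul, T, mul_inv_cancel_left], hcol]
      show (k₀.1 * _) *ᵥ v = _
      rw [← Matrix.mulVec_mulVec]
      rfl
    let M : Matrix ι ι F₀ := fun a b => ⟨(mat P⁻¹ * mat T * mat P) a b, by
      have h1 : (mat P⁻¹ * mat T * mat P) a b = (mat P⁻¹ *ᵥ Φ (ψ (ξ ^ (e b : ℕ)))) a := by
        rw [← hT]
        have h2 : mat P *ᵥ Pi.single b 1 = Φ (ξ ^ (e b : ℕ)) := by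
          rw [Matrix.mulVec_single_one]; rfl
        rw [← h2, Matrix.mulVec_mulVec, Matrix.mulVec_mulVec, Matrix.mulVec_single_one]
        rfl
      rw [h1]
      exact hcoord _ (hψS b) a⟩
    have hMdet : (M.det : F) = (mat T).det := by
      rw [← show (M.map F₀.subtype).det = (M.det : F) from (RingHom.map_det F₀.subtype M).symm,
        show M.map F₀.subtype = mat P⁻¹ * mat T * mat P from rfl]
      simp only [mat]
      exact Matrix.det_units_conj' P _
    have h01 := (hF₀ _).1 M.det.2
    have hTne : (mat T).det ≠ 0 := ((Matrix.isUnit_iff_isUnit_det _).1 T.isUnit).ne_zero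
    rw [hMdet] at h01
    have hT1 : (mat T).det = 1 := h01.resolve_left hTne
    have h3 : mat h = k₀.1 * mat T := by
      have h4 : h = Units.map K.val.toMonoidHom (Units.mk0 k₀ hk₀0) * T := (mul_inv_cancel_left _ _).symm
      exact congrArg mat h4
    have h5 := mem_specialLinear_iff.1 hdet
    rw [h3, Matrix.det_mul, hT1, mul_one] at h5
    exact h5
  have hk21 : k₀ ^ 21 = 1 := by
    let d : Kˣ →* Fˣ := Units.map (Matrix.detMonoidHom.comp K.val.toMonoidHom)
    have hcoef : ∀ (a : F) (k : K), (algebraMap F K a - k).1 = Matrix.scalar ι a - k.1 := fun a k => by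
      simp [Algebra.algebraMap_eq_smul_one, Matrix.smul_one_eq_diagonal]
    -- the norm is not trivial
    have hne : d.ker ≠ ⊤ := by
      intro htop
      have hall : ∀ k : K, k ≠ 0 → Matrix.det k.1 = 1 := fun k hk => by
        have : Units.mk0 k hk ∈ d.ker := htop ▸ trivial
        exact congrArg Units.val (MonoidHom.mem_ker.1 this)
      have hξF : ∀ a : F, algebraMap F K a - ξ ≠ 0 := fun a h0 => by
        have h1 := hli
        rw [Fintype.linearIndependent_iff] at h1
        have h2 := h1 (fun i => if i = 0 then a else if i = 1 then -1 else 0) (by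
          rw [Fin.sum_univ_three]
          simpa [Algebra.smul_def, sub_eq_add_neg] using h0) 1
        simp at h2
      have hroots : (Finset.univ : Finset F).card ≤ ((Matrix.charpoly ξ.1) - 1).natDegree := by
        apply Polynomial.card_le_degree_of_subset_roots
        intro a _
        have hne0 : Matrix.charpoly ξ.1 - 1 ≠ 0 := fun h0 => by
          have := congrArg Polynomial.natDegree (sub_eq_zero.1 h0)
          rw [Matrix.charpoly_natDegree_eq_dim, Polynomial.natDegree_one, hι] at this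
          omega
        rw [Polynomial.mem_roots hne0, Polynomial.IsRoot, Polynomial.eval_sub, Polynomial.eval_one,
          Matrix.eval_charpoly, ← hcoef, hall _ (hξF a), sub_self]
      rw [Finset.card_univ, hF, Polynomial.natDegree_sub_eq_left_of_natDegree_lt (by
        rw [Matrix.charpoly_natDegree_eq_dim, Polynomial.natDegree_one, hι]; omega),
        Matrix.charpoly_natDegree_eq_dim, hι] at hroots
      omega
    have hker : ∀ x : Kˣ, x ∈ d.ker → x ^ 21 = 1 := by
      have hFu : Fintype.card Fˣ = 3 := by rw [Fintype.card_units, hF]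
      have hidx : d.ker.index = 3 := by
        have h1 : d.ker.index ∣ Nat.card Fˣ := by
          rw [Subgroup.index_ker]
          exact Subgroup.card_subgroup_dvd_card _
        rw [Nat.card_eq_fintype_card, hFu] at h1
        exact ((Nat.dvd_prime Nat.prime_three).1 h1).resolve_left fun h => hne (Subgroup.index_eq_one.1 h)
      intro x hx
      have h2 : Nat.card d.ker * 3 = 63 := by
        rw [← hidx, Subgroup.card_mul_index, Nat.card_eq_fintype_card, Fintype.card_units, hcardK]
      have h3 : Nat.card d.ker = 21 := by omega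
      have := Subgroup.orderOf_dvd_natCard d.ker hx
      rw [h3] at this
      exact orderOf_dvd_iff_pow_eq_one.1 this
    have h1 := hker (Units.mk0 k₀ hk₀0) (MonoidHom.mem_ker.2 (Units.ext hdk))
    exact congrArg Units.val h1
  obtain ⟨c, hc⟩ : ∃ c : F, algebraMap F K c = k₀ ^ 7 := by
    have h3 : (k₀ ^ 7) ^ 4 = k₀ ^ 7 := by
      rw [← pow_mul, show 7 * 4 = 21 + 7 from rfl, pow_add, hk21, one_mul]
    by_contra hno
    simp only [not_exists] at hno
    have hroots : (insert (k₀ ^ 7) (Finset.univ.image (algebraMap F K))).card ≤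
        (Polynomial.X ^ 4 - Polynomial.X : Polynomial K).natDegree := by
      apply Polynomial.card_le_degree_of_subset_roots
      intro x hx
      rw [Finset.mem_val, Finset.mem_insert, Finset.mem_image] at hx
      rw [Polynomial.mem_roots (FiniteField.X_pow_card_sub_X_ne_zero K (p := 4) (by norm_num))]
      rcases hx with rfl | ⟨a, -, rfl⟩
      · simp [h3]
      · have := FiniteField.pow_card a
        rw [hF] at this
        simp [← map_pow, this]
    rw [FiniteField.X_pow_card_sub_X_natDegree_eq K (p := 4) (by norm_num),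
      Finset.card_insert_of_notMem (by simpa using hno),
      Finset.card_image_of_injective _ (algebraMap F K).injective, Finset.card_univ, hF] at hroots
    omega
  have hc0 : c ≠ 0 := by
    rintro rfl
    rw [map_zero] at hc
    exact pow_ne_zero 7 hk₀0 hc.symm
  refine mem_subfieldSubgroup_of (inv_ne_zero hc0) fun a b => ?_
  have h1 : (mat P⁻¹ * mat h * mat P) a b = (mat P⁻¹ *ᵥ Φ (k₀ * ψ (ξ ^ (e b : ℕ)))) a := by
    rw [← hcol]
    have h2 : mat P *ᵥ Pi.single b 1 = Φ (ξ ^ (e b : ℕ)) := by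
      rw [Matrix.mulVec_single_one]; rfl
    rw [← h2, Matrix.mulVec_mulVec, Matrix.mulVec_mulVec, Matrix.mulVec_single_one]
    rfl
  have h2 : k₀ * ψ (ξ ^ (e b : ℕ)) = c • (k₀ ^ 15 * ψ (ξ ^ (e b : ℕ))) := by
    rw [Algebra.smul_def, hc, ← mul_assoc, ← pow_add, show 7 + 15 = 21 + 1 from rfl, pow_add, hk21,
      one_mul, pow_one]
  rw [h1, h2, map_smul, Matrix.mulVec_smul, Pi.smul_apply, smul_eq_mul, inv_mul_cancel_left₀ hc0]
  refine hcoord _ ?_ a
  show (k₀ ^ 15 * ψ (ξ ^ (e b : ℕ))) ^ 8 = _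
  rw [mul_pow, show ψ (ξ ^ (e b : ℕ)) ^ 8 = _ from hψS b, ← pow_mul,
    show 15 * 8 = 21 * 5 + 15 from rfl, pow_add, pow_mul, hk21, one_pow, one_mul]

end CfsgLib.Aschbacher
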