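import Cfsg.Agent.Aschbacher.Clifford

/-!
Class 5: membership in subfield groups, maximal subfields, and the descent of the normaliser of an absolutely
irreducible group realisable over a proper subfield.
-/

set_option autoImplicit false

namespace CfsgLib.Aschbacher

open Matrix

variable {ι : Type} [Fintype ι] [DecidableEq ι] {F : Type*} [Field F]

theorem mem_subfieldSubgroup_of {F₀ : Subfield F} {P g : GL ι F} {c : F} (hc : c ≠ 0)
    (h : ∀ i j, c * (mat P⁻¹ * mat g * mat P) i j ∈ F₀) :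
    g ∈ Cfsg.Geo.subfieldSubgroup F₀ P := by
  set g' : GL ι F := P⁻¹ * g * P with hg'
  have hmat : mat g' = mat P⁻¹ * mat g * mat P := by simp [hg', mat, Units.val_mul]
  let M : Matrix ι ι F₀ := fun i j => ⟨c * (mat g') i j, by rw [hmat]; exact h i j⟩
  have hM : M.map F₀.subtype = c • mat g' := by ext i j; rfl
  have hdet : M.det ≠ 0 := by
    intro h0
    have h1 := RingHom.map_det F₀.subtype M
    rw [h0, map_zero, RingHom.mapMatrix_apply, hM, Matrix.det_smul] at h1
    exact mul_ne_zero (pow_ne_zero _ hc) ((Matrix.isUnit_iff_isUnit_det _).1 g'.isUnit).ne_zero h1.symm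
  let u : GL ι F₀ := Matrix.GeneralLinearGroup.mkOfDetNeZero M hdet
  let s : GL ι F := Units.map (Matrix.scalar ι : F →+* Matrix ι ι F).toMonoidHom (Units.mk0 c hc)⁻¹
  refine ⟨g', ?_, ?_⟩
  · have hs : s ∈ Cfsg.Geo.scalars ι F := ⟨_, rfl⟩
    have hu : Matrix.GeneralLinearGroup.map (F₀.subtype : F₀ →+* F) u ∈
        (Matrix.GeneralLinearGroup.map (n := ι) (F₀.subtype : F₀ →+* F)).range := ⟨u, rfl⟩
    have : g' = s * Matrix.GeneralLinearGroup.map (F₀.subtype : F₀ →+* F) u := by
      apply Units.ext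
      rw [Units.val_mul]
      show mat g' = Matrix.scalar ι (c⁻¹ : F) * M.map F₀.subtype
      rw [hM, Matrix.scalar_apply, ← Matrix.smul_one_eq_diagonal, Matrix.smul_mul, one_mul, smul_smul,
        inv_mul_cancel₀ hc, one_smul]
    rw [this]
    exact Subgroup.mul_mem _ (Subgroup.mem_sup_right hs) (Subgroup.mem_sup_left hu)
  · simp [hg', mul_assoc]

theorem exists_smul_of_mem_subfieldSubgroup {F₀ : Subfield F} {P g : GL ι F}
    (h : g ∈ Cfsg.Geo.subfieldSubgroup F₀ P) :
    ∃ c : F, c ≠ 0 ∧ ∀ i j, c * (mat P⁻¹ * mat g * mat P) i j ∈ F₀ := by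
  obtain ⟨y, hy, rfl⟩ := h
  rw [SetLike.mem_coe, Subgroup.mem_sup_of_normal_right] at hy
  obtain ⟨_, ⟨u, rfl⟩, s, hs, rfl⟩ := hy
  obtain ⟨d, hd⟩ := (Cfsg.Geo.mem_scalars_iff s).1 hs
  refine ⟨(d : F)⁻¹, inv_ne_zero d.ne_zero, fun i j => ?_⟩
  have : mat P⁻¹ * mat ((MulAut.conj P).toMonoidHom
      (Matrix.GeneralLinearGroup.map (F₀.subtype : F₀ →+* F) u * s)) * mat P
      = (d : F) • (mat u).map F₀.subtype := by
    have h1 : P⁻¹ * (MulAut.conj P).toMonoidHom
        (Matrix.GeneralLinearGroup.map (F₀.subtype : F₀ →+* F) u * s) * P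
        = Matrix.GeneralLinearGroup.map (F₀.subtype : F₀ →+* F) u * s := by
      simp [mul_assoc]
    have h2 := congrArg mat h1
    simp only [mat, Units.val_mul] at h2 ⊢
    rw [h2, hd, Matrix.mul_smul, mul_one]
    rfl
  rw [this, Matrix.smul_apply, smul_eq_mul, inv_mul_cancel_left₀ d.ne_zero]
  exact (mat u i j).2

theorem mat_conj (B x : GL ι F) : mat (B * x * B⁻¹) = mat B * mat x * mat B⁻¹ := by
  simp [mat, Units.val_mul]

/-- Conjugation preserves absolute irreducibility, in the form used below. -/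
theorem commute_of_absIrred {R : Subgroup (GL ι F)}
    (hR : Cfsg.Geo.ActsAbsolutelyIrreducibly (Cfsg.Geo.matrixSet R)) {M : Matrix ι ι F}
    (hM : ∀ x ∈ R, M * mat x = mat x * M) : ∃ c : F, M = c • 1 :=
  hR.2 M (forall_matrixSet.2 hM)

theorem normalizer_le_subfield {F₀ : Subfield F} {B : GL ι F} {H R : Subgroup (GL ι F)}
    [Nonempty ι]
    (hR : Cfsg.Geo.ActsAbsolutelyIrreducibly (Cfsg.Geo.matrixSet R))
    (hB : ∀ x ∈ R, ∀ i j, (mat B * mat x * mat B⁻¹) i j ∈ F₀)
    (hn : Normalizes H R) : H ≤ Cfsg.Geo.subfieldSubgroup F₀ B⁻¹ := by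
  intro h hh
  set k : GL ι F := B * h * B⁻¹ with hk
  have hne : mat k ≠ 0 := Units.ne_zero k
  obtain ⟨i₀, j₀, hij⟩ : ∃ i j, mat k i j ≠ 0 := by
    by_contra hall
    simp only [not_exists, not_not] at hall
    exact hne (Matrix.ext hall)
  obtain ⟨f, hf, -⟩ := Submodule.exists_dual_map_eq_bot_of_notMem
    (R := F₀) (p := (⊥ : Submodule F₀ F)) (x := mat k i₀ j₀) (by simpa using hij) inferInstance
  let X : Matrix ι ι F := fun i j => (f (mat k i j) : F)
  have hX : ∀ x ∈ R, mat (B * (h * x * h⁻¹) * B⁻¹) * X = X * mat (B * x * B⁻¹) := by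
    intro x hx
    have hrel : mat (B * (h * x * h⁻¹) * B⁻¹) * mat k = mat k * mat (B * x * B⁻¹) := by
      simp only [mat, ← Units.val_mul, hk]
      congr 1
      group
    ext i j
    have h1 := congrFun (congrFun hrel i) j
    rw [Matrix.mul_apply, Matrix.mul_apply] at h1 ⊢
    have e1 : ∀ a : F, a ∈ F₀ → ∀ b : F, (f (a * b) : F) = a * (f b : F) := fun a ha b => by
      have : f ((⟨a, ha⟩ : F₀) • b) = (⟨a, ha⟩ : F₀) * f b := f.map_smul _ b
      exact congrArg Subtype.val this
    have h2 := congrArg (fun z => (f z : F)) h1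
    simp only [map_sum, AddSubmonoidClass.coe_finsetSum] at h2
    calc _ = ∑ l, (f (mat (B * (h * x * h⁻¹) * B⁻¹) i l * mat k l j) : F) :=
          Finset.sum_congr rfl fun l _ =>
            (e1 _ (by rw [mat_conj]; exact hB _ (hn h hh x hx) i l) _).symm
      _ = ∑ l, (f (mat k i l * mat (B * x * B⁻¹) l j) : F) := h2
      _ = _ := Finset.sum_congr rfl fun l _ => by
          rw [mul_comm (mat k i l),
            e1 _ (by rw [mat_conj]; exact hB _ hx l j) _, mul_comm]
  obtain ⟨c, hc⟩ := commute_of_absIrred hR (M := mat B⁻¹ * (mat k⁻¹ * X) * mat B) fun x hx => by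
    have e1 : mat (B * (h * x * h⁻¹) * B⁻¹) = mat k * mat (B * x * B⁻¹) * mat k⁻¹ := by
      simp only [mat, ← Units.val_mul, hk]
      congr 1
      group
    have h1 : mat (B * x * B⁻¹) * (mat k⁻¹ * X) = (mat k⁻¹ * X) * mat (B * x * B⁻¹) := by
      calc mat (B * x * B⁻¹) * (mat k⁻¹ * X)
          = mat k⁻¹ * (mat k * mat (B * x * B⁻¹) * mat k⁻¹ * X) := by
            rw [← mul_assoc, ← mul_assoc, ← mul_assoc, ← mul_assoc, mat_inv_mul, one_mul]
        _ = mat k⁻¹ * (X * mat (B * x * B⁻¹)) := by rw [← e1, hX x hx]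
        _ = _ := (mul_assoc _ _ _).symm
    generalize mat k⁻¹ * X = Y at h1 ⊢
    rw [mat_conj] at h1
    have h2 := congrArg (fun M => mat B⁻¹ * M * mat B) h1
    simp only [mat, mul_assoc, Units.inv_mul, Units.inv_mul_cancel_left, mul_one] at h2 ⊢
    exact h2.symm
  have hXk : X = c • mat k := by
    have h1 := congrArg (fun M => mat k * (mat B * M * mat B⁻¹)) hc
    simpa [mat, mul_assoc] using h1
  have hc0 : c ≠ 0 := by
    rintro rfl
    apply hf
    have h1 := congrFun (congrFun hXk i₀) j₀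
    simp only [zero_smul, Matrix.zero_apply, X] at h1
    exact Subtype.ext h1
  refine mem_subfieldSubgroup_of hc0 fun i j => ?_
  have h1 := congrFun (congrFun hXk i) j
  rw [Matrix.smul_apply, smul_eq_mul] at h1
  rw [inv_inv, show mat B * mat h * mat B⁻¹ = mat k by rw [hk, mat_conj], ← h1]
  exact (f _).2

/-- A proper subfield of a finite field lies in one of prime index. -/
theorem exists_prime_index_subfield [Fintype F] {F₀ : Subfield F} (h : F₀ ≠ ⊤) :
    ∃ (F₁ : Subfield F) (r : ℕ), r.Prime ∧ F₀ ≤ F₁ ∧ Fintype.card F = Nat.card F₁ ^ r := by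
  classical
  obtain ⟨p, hchar⟩ := CharP.exists F
  haveI := hchar
  haveI : Fact p.Prime := ⟨CharP.char_is_prime F p⟩
  haveI : CharP F₀ p := Subfield.charP F₀ p
  haveI : Fintype F₀ := Fintype.ofFinite F₀
  obtain ⟨n, hp, hn⟩ := FiniteField.card F p
  obtain ⟨m, -, hm⟩ := FiniteField.card F₀ p
  set d := Module.finrank F₀ F with hd
  have hnd : (n : ℕ) = m * d := by
    have := Module.card_eq_pow_finrank (K := F₀) (V := F)
    rw [hn, hm, ← pow_mul] at this
    exact Nat.pow_right_injective hp.two_le this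
  have hd1 : d ≠ 1 := by
    intro h1
    apply h
    have : Fintype.card F₀ = Fintype.card F := by rw [hn, hm, hnd, h1, mul_one]
    apply SetLike.coe_injective
    apply Set.eq_of_subset_of_ncard_le (Set.subset_univ _)
    rw [Set.ncard_univ, Nat.card_eq_fintype_card, ← this, ← Nat.card_coe_set_eq,
      Nat.card_eq_fintype_card]
    exact le_refl _
  obtain ⟨r, hr, hrd⟩ := Nat.exists_prime_and_dvd hd1
  obtain ⟨d', hd'⟩ := hrd
  have hd0 : 0 < d' := by
    rcases Nat.eq_zero_or_pos d' with h0 | h0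
    · rw [h0, mul_zero] at hd'
      have : 0 < (n : ℕ) := n.pos
      rw [hnd, hd'] at this
      omega
    · exact h0
  set k := (m : ℕ) * d' with hk
  let F₁ : Subfield F := (iterateFrobenius F p k).eqLocusField (RingHom.id F)
  have hmem : ∀ x : F, x ∈ F₁ ↔ x ^ p ^ k = x := fun x => Iff.rfl
  refine ⟨F₁, r, hr, fun x hx => (hmem x).2 ?_, ?_⟩
  · have h1 := FiniteField.pow_card_pow d' (⟨x, hx⟩ : F₀)
    rw [hm, ← pow_mul] at h1
    exact congrArg Subtype.val h1
  · have hk0 : 0 < k := Nat.mul_pos m.pos hd0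
    have hpk : 1 ≤ p ^ k := Nat.one_le_pow _ _ hp.pos
    have hker : Nat.card (powMonoidHom (p ^ k - 1) : Fˣ →* Fˣ).ker = p ^ k - 1 := by
      rw [IsCyclic.card_powMonoidHom_ker, Nat.card_eq_fintype_card, Fintype.card_units, hn,
        Nat.pow_sub_one_gcd_pow_sub_one, Nat.gcd_eq_right ⟨r, by rw [hnd, hd', hk]; ring⟩]
    let e : Option (powMonoidHom (p ^ k - 1) : Fˣ →* Fˣ).ker ≃ F₁ :=
      Equiv.ofBijective (fun o => o.elim 0 fun u => ⟨(u.1 : F), by
        rw [hmem]
        have h1 : u.1 ^ (p ^ k - 1) = 1 := u.2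
        have h2 : (u.1 : F) ^ (p ^ k - 1) = 1 := by rw [← Units.val_pow_eq_pow_val, h1, Units.val_one]
        calc (u.1 : F) ^ p ^ k = (u.1 : F) ^ (p ^ k - 1) * u.1 := by
              rw [← pow_succ, Nat.sub_add_cancel hpk]
          _ = u.1 := by rw [h2, one_mul]⟩) ⟨by
        intro a b hab
        match a, b with
        | none, none => rfl
        | none, some u => exact absurd (congrArg Subtype.val hab).symm u.1.ne_zero
        | some u, none => exact absurd (congrArg Subtype.val hab) u.1.ne_zero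
        | some u, some v =>
          exact congrArg some (Subtype.ext (Units.ext (congrArg Subtype.val hab))), by
        intro x
        by_cases hx : x.1 = 0
        · exact ⟨none, Subtype.ext hx.symm⟩
        · refine ⟨some ⟨Units.mk0 _ hx, Units.ext ?_⟩, rfl⟩
          have h1 := (hmem x.1).1 x.2
          rw [← Nat.sub_add_cancel hpk, pow_succ] at h1
          show x.1 ^ (p ^ k - 1) = 1
          exact mul_right_cancel₀ hx (by rw [h1, one_mul])⟩
    rw [← Nat.card_congr e, Finite.card_option, hker, Nat.sub_add_cancel hpk, hn, ← pow_mul, hnd, hd', hk]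
    ring_nf

/-- The normaliser of an absolutely irreducible group realisable over a proper subfield lies in a subfield group. -/
theorem exists_subfieldSubgroup [Fintype F] [Nonempty ι] {F₀ : Subfield F} (h0 : F₀ ≠ ⊤)
    {H R : Subgroup (GL ι F)}
    (hR : Cfsg.Geo.ActsAbsolutelyIrreducibly (Cfsg.Geo.matrixSet R))
    (hreal : Cfsg.Geo.RealisableOver F₀ (Cfsg.Geo.matrixSet R)) (hn : Normalizes H R) :
    ∃ (F₁ : Subfield F) (r : ℕ) (P : GL ι F), r.Prime ∧ Fintype.card F = Nat.card F₁ ^ r ∧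
      H ≤ Cfsg.Geo.subfieldSubgroup F₁ P := by
  obtain ⟨F₁, r, hr, hle, hcard⟩ := exists_prime_index_subfield h0
  obtain ⟨B, hB⟩ := hreal
  exact ⟨F₁, r, B⁻¹, hr, hcard,
    normalizer_le_subfield hR (fun x hx i j => hle (hB _ (mem_matrixSet hx) i j)) hn⟩

end CfsgLib.Aschbacher
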