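import Cfsg.Agent.Aschbacher.Forms

/-!
Class 6 in prime dimension: an absolutely irreducible group of determinant one that is commutative modulo scalars
gives a characteristic Heisenberg group, monomial with entries roots of unity in a suitable basis.
-/

set_option autoImplicit false

namespace CfsgLib.Aschbacher

open Matrix
open scoped commutatorElement

variable {ι : Type} [Fintype ι] [DecidableEq ι] {F : Type*} [Field F]

/-- The monomial matrix with permutation `σ` and entries `d`. -/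
def monomialMat (σ : Equiv.Perm ι) (d : ι → F) : Matrix ι ι F :=
  Matrix.of fun i j => if j = σ i then d i else 0

theorem monomialMat_mul (σ τ : Equiv.Perm ι) (d d' : ι → F) :
    monomialMat σ d * monomialMat τ d' = monomialMat (σ.trans τ) fun i => d i * d' (σ i) := by
  ext i j
  simp only [monomialMat, Matrix.mul_apply, Matrix.of_apply, Equiv.trans_apply]
  rw [Finset.sum_eq_single (σ i) (fun k _ hk => by rw [if_neg hk, zero_mul])
    (fun h => absurd (Finset.mem_univ _) h), if_pos rfl, mul_ite, mul_zero]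
  congr

theorem diagonal_eq_monomialMat (d : ι → F) : Matrix.diagonal d = monomialMat 1 d := by
  ext i j
  by_cases h : i = j <;> simp [monomialMat, h, eq_comm]

theorem monomialMat_one : monomialMat (1 : Equiv.Perm ι) (fun _ => (1 : F)) = 1 := by
  ext i j
  simp [monomialMat, Matrix.one_apply, eq_comm]

/-- A monomial matrix whose entries are `r`-th roots of unity. -/
def IsRootMonomial (r : ℕ) (M : Matrix ι ι F) : Prop :=
  ∃ (σ : Equiv.Perm ι) (d : ι → F), (∀ i, d i ^ r = 1) ∧ M = monomialMat σ d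

theorem IsRootMonomial.one (r : ℕ) : IsRootMonomial r (1 : Matrix ι ι F) :=
  ⟨1, fun _ => 1, fun _ => one_pow r, monomialMat_one.symm⟩

theorem IsRootMonomial.mul {r : ℕ} {M N : Matrix ι ι F} (hM : IsRootMonomial r M)
    (hN : IsRootMonomial r N) : IsRootMonomial r (M * N) := by
  obtain ⟨σ, d, hd, rfl⟩ := hM
  obtain ⟨τ, d', hd', rfl⟩ := hN
  exact ⟨_, _, fun i => by rw [mul_pow, hd, hd', one_mul], monomialMat_mul σ τ d d'⟩

theorem IsRootMonomial.pow {r : ℕ} {M : Matrix ι ι F} (hM : IsRootMonomial r M) (k : ℕ) :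
    IsRootMonomial r (M ^ k) := by
  induction k with
  | zero => simpa using IsRootMonomial.one r
  | succ k ih => rw [pow_succ]; exact ih.mul hM

/-- The Heisenberg data produced in class 6. -/
structure IsHeisenberg (r : ℕ) (R : Subgroup (GL ι F)) (ω : F) : Prop where
  symplecticType : Cfsg.Geo.IsSymplecticTypeGroup r R
  absIrred : Cfsg.Geo.ActsAbsolutelyIrreducibly (Cfsg.Geo.matrixSet R)
  card_eq : Nat.card R = r ^ 3
  card_center : Nat.card (Subgroup.center R) = r
  primitive : IsPrimitiveRoot ω r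
  comm_scalar : ⁅R, R⁆ ≤ Cfsg.Geo.scalars ι F
  monomial : ∃ B : GL ι F, ∀ x ∈ R, IsRootMonomial r (mat B * mat x * mat B⁻¹)

/-- The scalar matrix as an element of `GL`. -/
def scalarGL (c : Fˣ) : GL ι F :=
  Units.map (Matrix.scalar ι : F →+* Matrix ι ι F).toMonoidHom c

theorem mat_scalarGL (c : Fˣ) : mat (scalarGL (ι := ι) c) = (c : F) • 1 := by
  show Matrix.scalar ι (c : F) = _
  rw [Matrix.scalar_apply, Matrix.smul_one_eq_diagonal]

theorem scalarGL_mem (c : Fˣ) : scalarGL (ι := ι) c ∈ Cfsg.Geo.scalars ι F := ⟨c, rfl⟩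

theorem scalars_comm {s g : GL ι F} (hs : s ∈ Cfsg.Geo.scalars ι F) : s * g = g * s := by
  obtain ⟨c, hc⟩ := (Cfsg.Geo.mem_scalars_iff s).1 hs
  exact Units.ext (by rw [Units.val_mul, Units.val_mul, hc, Matrix.smul_mul, Matrix.mul_smul, one_mul, mul_one])

theorem mem_scalars_of_commute {N : Subgroup (GL ι F)} [Nonempty ι]
    (habs : Cfsg.Geo.ActsAbsolutelyIrreducibly (Cfsg.Geo.matrixSet N)) {g : GL ι F}
    (h : ∀ x ∈ N, g * x = x * g) : g ∈ Cfsg.Geo.scalars ι F := by
  obtain ⟨c, hc⟩ := commute_of_absIrred habs (M := mat g) fun x hx => by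
    simp only [mat, ← Units.val_mul, h x hx]
  have hc0 : c ≠ 0 := by
    rintro rfl
    rw [zero_smul] at hc
    exact g.ne_zero hc
  exact (Cfsg.Geo.mem_scalars_iff g).2 ⟨Units.mk0 c hc0, hc⟩

/-- In a group, powers of a product when the commutator is central. -/
theorem mul_pow_of_central {G : Type*} [Group G] {x y z : G} (hyx : y * x = x * y * z)
    (hzx : Commute z x) (hzy : Commute z y) (k : ℕ) :
    (x * y) ^ k = x ^ k * y ^ k * z ^ (k.choose 2) := by
  have hyk : ∀ j : ℕ, y ^ j * x = x * y ^ j * z ^ j := by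
    intro j
    induction j with
    | zero => simp
    | succ j ih =>
      calc y ^ (j + 1) * x = y ^ j * (y * x) := by rw [pow_succ, mul_assoc]
        _ = y ^ j * x * (y * z) := by rw [hyx]; simp only [mul_assoc]
        _ = x * y ^ j * (z ^ j * y) * z := by rw [ih]; simp only [mul_assoc]
        _ = x * y ^ (j + 1) * z ^ (j + 1) := by
            rw [(hzy.pow_left j).eq, pow_succ, pow_succ z]; simp only [mul_assoc]
  induction k with
  | zero => simp
  | succ k ih =>
    rw [pow_succ (x * y), ih]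
    have hc : (k + 1).choose 2 = k + k.choose 2 := by
      rw [Nat.choose_succ_succ', Nat.choose_one_right]
    calc x ^ k * y ^ k * z ^ k.choose 2 * (x * y)
        = x ^ k * (y ^ k * x) * (z ^ k.choose 2 * y) := by
          rw [mul_assoc _ (z ^ k.choose 2), ← mul_assoc (z ^ k.choose 2), (hzx.pow_left _).eq]
          simp only [mul_assoc]
      _ = x ^ k * x * y ^ k * (z ^ k * y) * z ^ k.choose 2 := by
          rw [hyk, (hzy.pow_left _).eq]; simp only [mul_assoc]
      _ = x ^ (k + 1) * y ^ (k + 1) * z ^ (k + 1).choose 2 := by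
          rw [(hzy.pow_left k).eq, hc, pow_add z, pow_succ x, pow_succ y]; simp only [mul_assoc]

theorem exists_symplecticType [Fintype F] (hp : (Fintype.card ι).Prime) (h3 : 3 ≤ Fintype.card ι)
    {H N : Subgroup (GL ι F)} (hn : Normalizes H N)
    (habs : Cfsg.Geo.ActsAbsolutelyIrreducibly (Cfsg.Geo.matrixSet N))
    (hSL : N ≤ Cfsg.Geo.specialLinear ι F) (hcomm : ⁅N, N⁆ ≤ Cfsg.Geo.scalars ι F)
    (hmin : ∀ M ≤ N, Normalizes H M → (∀ x ∈ M, ∀ y ∈ M, x * y = y * x) →
      M ≤ Cfsg.Geo.scalars ι F) :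
    ∃ (R : Subgroup (GL ι F)) (ω : F), IsHeisenberg (Fintype.card ι) R ω ∧ Normalizes H R ∧
      R ≤ N ⊔ Cfsg.Geo.scalars ι F := by
  classical
  haveI : Nonempty ι := Fintype.card_pos_iff.1 hp.pos
  obtain ⟨r, hr⟩ : ∃ r, r = Fintype.card ι := ⟨_, rfl⟩
  rw [← hr] at hp h3 ⊢
  haveI : Fact r.Prime := ⟨hp⟩
  have hrodd : Odd r := hp.odd_of_ne_two (by omega)
  let Z : Subgroup (GL ι F) := Cfsg.Geo.scalars ι F
  -- commutation scalars
  have hcs : ∀ x ∈ N, ∀ y ∈ N, ∃ c : F, c ^ r = 1 ∧ mat y * mat x = c • (mat x * mat y) := by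
    intro x hx y hy
    obtain ⟨c, hc⟩ := (Cfsg.Geo.mem_scalars_iff _).1 (hcomm (Subgroup.commutator_mem_commutator hy hx))
    have h1 : mat y * mat x = (c : F) • (mat x * mat y) := by
      have e : y * x = y * x * y⁻¹ * x⁻¹ * (x * y) := by group
      have e' := congrArg mat e
      simp only [mat, Units.val_mul] at e' ⊢
      rw [commutatorElement_def] at hc
      simp only [Units.val_mul] at hc
      rw [e', hc, Matrix.smul_mul, one_mul]
    refine ⟨c, ?_, h1⟩
    have h2 := congrArg Matrix.det h1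
    rw [Matrix.det_mul, Matrix.det_smul, Matrix.det_mul, mem_specialLinear_iff.1 (hSL hx),
      mem_specialLinear_iff.1 (hSL hy), mul_one, mul_one, ← hr] at h2
    exact h2.symm
  -- every non-scalar element fails to commute with some element
  have hex : ∀ x ∈ N, x ∉ Z → ∃ y ∈ N, ∃ c : F, c ≠ 1 ∧ c ^ r = 1 ∧
      mat y * mat x = c • (mat x * mat y) := by
    intro x hx hxZ
    by_contra hall
    apply hxZ
    refine mem_scalars_of_commute habs fun y hy => ?_
    obtain ⟨c, hc, h1⟩ := hcs x hx y hy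
    by_cases hc1 : c = 1
    · rw [hc1, one_smul] at h1
      exact Units.ext (by simpa [mat] using h1.symm)
    · exact absurd ⟨y, hy, c, hc1, hc, h1⟩ hall
  obtain ⟨x₀, hx₀, hx₀Z⟩ : ∃ x ∈ N, x ∉ Z := by
    by_contra hall
    simp only [not_exists, not_and, not_not] at hall
    obtain ⟨i, j, hij⟩ := Fintype.exists_pair_of_one_lt_card (α := ι) (by omega)
    obtain ⟨c, hc⟩ := commute_of_absIrred habs (M := Matrix.single i j (1 : F)) fun x hx => by
      obtain ⟨d, hd⟩ := (Cfsg.Geo.mem_scalars_iff x).1 (hall x hx)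
      rw [show mat x = (d : F) • 1 from hd, Matrix.smul_mul, Matrix.mul_smul, one_mul, mul_one]
    have h1 := congrFun (congrFun hc i) j
    simp [hij] at h1
  obtain ⟨ω, hω1, hωr, -⟩ : ∃ ω : F, ω ≠ 1 ∧ ω ^ r = 1 ∧ True := by
    obtain ⟨y, -, c, hc1, hc, -⟩ := hex x₀ hx₀ hx₀Z
    exact ⟨c, hc1, hc, trivial⟩
  have hωp : IsPrimitiveRoot ω r := by
    rw [← orderOf_eq_prime hωr hω1]
    exact IsPrimitiveRoot.orderOf ω
  have hroot : ∀ c : F, c ^ r = 1 → ∃ i < r, ω ^ i = c := fun c hc =>
    hωp.eq_pow_of_pow_eq_one hc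
  -- elements of `N` have an `r`-th power that is scalar with an `r`-th root in `F`
  have hβ : ∀ x ∈ N, ∃ β : Fˣ, mat x ^ r = (β : F) ^ r • (1 : Matrix ι ι F) := by
    intro x hx
    by_cases hxZ : x ∈ Z
    · obtain ⟨d, hd⟩ := (Cfsg.Geo.mem_scalars_iff x).1 hxZ
      exact ⟨d, by rw [show mat x = (d : F) • 1 from hd, smul_pow, one_pow]⟩
    obtain ⟨α, hα⟩ := commute_of_absIrred habs (M := mat x ^ r) fun y hy => by
      obtain ⟨c, hc, h1⟩ := hcs x hx y hy
      have h2 : ∀ k : ℕ, mat y * mat x ^ k = c ^ k • (mat x ^ k * mat y) := by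
        intro k
        induction k with
        | zero => simp
        | succ k ih =>
          rw [pow_succ, ← mul_assoc, ih, Matrix.smul_mul, mul_assoc, h1, Matrix.mul_smul, smul_smul,
            ← mul_assoc, pow_succ]
      rw [h2, hc, one_smul]
    have hα0 : α ≠ 0 := by
      rintro rfl
      rw [zero_smul] at hα
      exact (x.isUnit.pow r).ne_zero hα
    by_cases hroots : ∃ β : F, β ^ r = α
    · obtain ⟨β, hβ⟩ := hroots
      refine ⟨Units.mk0 β ?_, by rw [Units.val_mk0, hβ, hα]⟩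
      rintro rfl
      exact hα0 (by rw [← hβ, zero_pow hp.ne_zero])
    exfalso
    simp only [not_exists] at hroots
    have hirr : Irreducible (Polynomial.X ^ r - Polynomial.C α : Polynomial F) :=
      X_pow_sub_C_irreducible_of_prime hp hroots
    have hmon : (Polynomial.X ^ r - Polynomial.C α : Polynomial F).Monic :=
      Polynomial.monic_X_pow_sub_C α hp.ne_zero
    have hev : Polynomial.aeval (mat x) (Polynomial.X ^ r - Polynomial.C α : Polynomial F) = 0 := by
      rw [map_sub, map_pow, Polynomial.aeval_X, Polynomial.aeval_C, hα, Algebra.algebraMap_eq_smul_one,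
        sub_self]
    have hminp : minpoly F (mat x) = Polynomial.X ^ r - Polynomial.C α :=
      (minpoly.eq_of_irreducible_of_monic hirr hev hmon).symm
    have hchar : (mat x).charpoly = Polynomial.X ^ r - Polynomial.C α := by
      rw [← hminp]
      refine (Polynomial.eq_of_monic_of_dvd_of_natDegree_le (minpoly.monic (Matrix.isIntegral _))
        (Matrix.charpoly_monic _) (Matrix.minpoly_dvd_charpoly _) (le_of_eq ?_))
      rw [hminp, Matrix.charpoly_natDegree_eq_dim, Polynomial.natDegree_X_pow_sub_C, hr]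
    have hdet := Matrix.det_eq_sign_charpoly_coeff (mat x)
    rw [mem_specialLinear_iff.1 (hSL hx), hchar, ← hr, hrodd.neg_one_pow, Polynomial.coeff_sub,
      Polynomial.coeff_X_pow, Polynomial.coeff_C_zero, if_neg hp.ne_zero.symm] at hdet
    exact hroots 1 (by rw [one_pow, hdet]; ring)
  -- the group R
  let NZ : Subgroup (GL ι F) := N ⊔ Z
  have hNZ : ∀ g ∈ NZ, ∃ x ∈ N, ∃ s ∈ Z, x * s = g := fun g hg =>
    Subgroup.mem_sup_of_normal_right.1 hg
  have hNZc : ∀ g ∈ NZ, ∀ g' ∈ NZ, ∃ c : Fˣ, (c : F) ^ r = 1 ∧ g' * g = g * g' * scalarGL c := by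
    intro g hg g' hg'
    obtain ⟨x, hx, s, hs, rfl⟩ := hNZ g hg
    obtain ⟨y, hy, t, ht, rfl⟩ := hNZ g' hg'
    obtain ⟨c, hc, h1⟩ := hcs x hx y hy
    have hc0 : c ≠ 0 := by
      rintro rfl
      simp [hp.ne_zero] at hc
    refine ⟨Units.mk0 c hc0, hc, ?_⟩
    have e1 : y * x = x * y * scalarGL (Units.mk0 c hc0) := by
      apply Units.ext
      rw [Units.val_mul, Units.val_mul, Units.val_mul]
      show mat y * mat x = mat x * mat y * mat (scalarGL (Units.mk0 c hc0))
      rw [h1, mat_scalarGL, Units.val_mk0, Matrix.mul_smul, mul_one]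
    calc y * t * (x * s) = y * x * (t * s) := by
          rw [mul_assoc y, ← mul_assoc t, scalars_comm ht (g := x)]; simp only [mul_assoc]
      _ = x * y * (scalarGL (Units.mk0 c hc0) * (s * t)) := by
          rw [e1, scalars_comm ht (g := s)]; simp only [mul_assoc]
      _ = x * y * (s * t) * scalarGL (Units.mk0 c hc0) := by
          rw [scalars_comm (scalarGL_mem _) (g := s * t)]; simp only [mul_assoc]
      _ = x * s * (y * t) * scalarGL (Units.mk0 c hc0) := by
          congr 1
          rw [mul_assoc x s, ← mul_assoc s, scalars_comm hs (g := y)]; simp only [mul_assoc]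
  let R : Subgroup (GL ι F) :=
    { carrier := {g | g ∈ NZ ∧ g ^ r = 1}
      one_mem' := ⟨one_mem _, one_pow r⟩
      inv_mem' := fun {g} hg => ⟨inv_mem hg.1, by rw [inv_pow, hg.2, inv_one]⟩
      mul_mem' := fun {g g'} hg hg' => by
        refine ⟨mul_mem hg.1 hg'.1, ?_⟩
        obtain ⟨c, hc, h1⟩ := hNZc g hg.1 g' hg'.1
        rw [mul_pow_of_central h1 (scalars_comm (scalarGL_mem c)) (scalars_comm (scalarGL_mem c)),
          hg.2, hg'.2, one_mul, one_mul]
        have hd : r ∣ r.choose 2 := hp.dvd_choose_self two_ne_zero (by omega)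
        obtain ⟨m, hm⟩ := hd
        have hcu : c ^ r = 1 := Units.ext (by rw [Units.val_pow_eq_pow_val, hc, Units.val_one])
        rw [hm, scalarGL, ← map_pow, pow_mul, hcu, one_pow, map_one] }
  have hRN : ∀ x ∈ N, ∃ g ∈ R, ∃ s ∈ Z, x = g * s := by
    intro x hx
    obtain ⟨β, hβx⟩ := hβ x hx
    refine ⟨x * (scalarGL β)⁻¹, ⟨?_, ?_⟩, scalarGL β, scalarGL_mem β, by simp⟩
    · exact mul_mem (Subgroup.mem_sup_left hx) (inv_mem (Subgroup.mem_sup_right (scalarGL_mem β)))
    · have hcm : Commute x (scalarGL β)⁻¹ :=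
        (scalars_comm (inv_mem (scalarGL_mem β))).symm
      rw [hcm.mul_pow, inv_pow, mul_inv_eq_one]
      apply Units.ext
      rw [Units.val_pow_eq_pow_val, Units.val_pow_eq_pow_val]
      show mat x ^ r = mat (scalarGL β) ^ r
      rw [hβx, mat_scalarGL, smul_pow, one_pow]
  have habsR : Cfsg.Geo.ActsAbsolutelyIrreducibly (Cfsg.Geo.matrixSet R) := by
    refine ⟨actsIrreducibly_iff.2 fun W hW => ?_, fun M hM => ?_⟩
    · refine (actsIrreducibly_iff.1 habs.1) W fun x hx => ?_
      obtain ⟨g, hg, s, hs, rfl⟩ := hRN x hx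
      refine Subgroup.mul_mem _ (hW hg) ?_
      obtain ⟨d, hd⟩ := (Cfsg.Geo.mem_scalars_iff s).1 hs
      rw [mem_subspaceStabilizer_iff]
      intro w hw
      rw [show mat s = (d : F) • 1 from hd, Matrix.smul_mulVec, Matrix.one_mulVec]
      exact W.smul_mem _ hw
    · refine commute_of_absIrred habs fun x hx => ?_
      obtain ⟨g, hg, s, hs, rfl⟩ := hRN x hx
      obtain ⟨d, hd⟩ := (Cfsg.Geo.mem_scalars_iff s).1 hs
      simp only [mat, Units.val_mul, hd, Matrix.mul_smul, mul_one, Matrix.smul_mul]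
      rw [(forall_matrixSet.1 hM) g hg]
  have hRn : Normalizes H R := by
    intro h hh g hg
    refine ⟨?_, by rw [conj_pow, hg.2, mul_one, mul_inv_cancel]⟩
    obtain ⟨x, hx, s, hs, rfl⟩ := hNZ g hg.1
    have : h * (x * s) * h⁻¹ = h * x * h⁻¹ * s := by
      simp only [mul_assoc]
      rw [scalars_comm hs (g := h⁻¹)]
    rw [this]
    exact mul_mem (Subgroup.mem_sup_left (hn h hh x hx)) (Subgroup.mem_sup_right hs)
  -- commutation inside R
  have hRc : ∀ g ∈ R, ∀ g' ∈ R, ∃ i < r, mat g' * mat g = ω ^ i • (mat g * mat g') := by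
    intro g hg g' hg'
    obtain ⟨c, hc, h1⟩ := hNZc g hg.1 g' hg'.1
    obtain ⟨i, hi, hi'⟩ := hroot _ hc
    refine ⟨i, hi, ?_⟩
    have h2 := congrArg mat h1
    simp only [mat, Units.val_mul] at h2
    rw [hi', show mat g' * mat g = _ from h2]
    rw [show ((scalarGL c : GL ι F) : Matrix ι ι F) = (c : F) • 1 from mat_scalarGL c,
      Matrix.mul_smul, mul_one]
  -- generators
  obtain ⟨a, ha, b, hb, hab⟩ : ∃ a ∈ R, ∃ b ∈ R, mat a * mat b = ω • (mat b * mat a) := by
    obtain ⟨a, ha, sa, hsa, hxa⟩ := hRN x₀ hx₀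
    have haZ : a ∉ Z := fun h => hx₀Z (hxa ▸ mul_mem h hsa)
    obtain ⟨b, hb, hne⟩ : ∃ b ∈ R, mat a * mat b ≠ mat b * mat a := by
      by_contra hall
      simp only [not_exists, not_and, not_not] at hall
      exact haZ (mem_scalars_of_commute habsR fun y hy => Units.ext (hall y hy))
    obtain ⟨i, hi, h1⟩ := hRc b hb a ha
    have hi0 : i ≠ 0 := by
      rintro rfl
      rw [pow_zero, one_smul] at h1
      exact hne h1
    obtain ⟨j, hj⟩ : ∃ j : ℕ, (ω ^ i) ^ j = ω := by
      have hcop : Nat.Coprime i r :=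
        (Nat.coprime_of_lt_prime (by omega) hi hp).symm
      obtain ⟨j, -, hj⟩ := (hωp.pow_of_coprime i hcop).eq_pow_of_pow_eq_one hωr
      exact ⟨j, hj⟩
    refine ⟨a, ha, b ^ j, pow_mem hb j, ?_⟩
    have hk : ∀ k : ℕ, mat a * mat b ^ k = (ω ^ i) ^ k • (mat b ^ k * mat a) := by
      intro k
      induction k with
      | zero => simp
      | succ k ih =>
        rw [pow_succ, ← mul_assoc, ih, Matrix.smul_mul, mul_assoc, h1, Matrix.mul_smul, smul_smul,
          ← mul_assoc, pow_succ]
    rw [show mat (b ^ j) = mat b ^ j from Units.val_pow_eq_pow_val b j, hk, hj]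
  have hab' : ∀ k : ℕ, mat a * mat b ^ k = ω ^ k • (mat b ^ k * mat a) := by
    intro k
    induction k with
    | zero => simp
    | succ k ih =>
      rw [pow_succ, ← mul_assoc, ih, Matrix.smul_mul, mul_assoc, hab, Matrix.mul_smul, smul_smul,
        ← mul_assoc, pow_succ]
  have har : mat a ^ r = 1 := by rw [mat, ← Units.val_pow_eq_pow_val, ha.2, Units.val_one]
  have hbr : mat b ^ r = 1 := by rw [mat, ← Units.val_pow_eq_pow_val, hb.2, Units.val_one]
  -- an eigenvector of `a`
  obtain ⟨lam, hlam, v₀, hv₀, hav₀⟩ :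
      ∃ lam : F, lam ^ r = 1 ∧ ∃ v₀ : ι → F, v₀ ≠ 0 ∧ mat a *ᵥ v₀ = lam • v₀ := by
    by_contra hno
    simp only [not_exists, not_and] at hno
    have hunit : ∀ i : ℕ, IsUnit (mat a - ω ^ i • (1 : Matrix ι ι F)) := by
      intro i
      rw [← Matrix.mulVec_injective_iff_isUnit]
      intro u w huw
      by_contra hne
      refine hno (ω ^ i) (by rw [← pow_mul, mul_comm, pow_mul, hωr, one_pow]) (u - w)
        (sub_ne_zero.2 hne) ?_
      simp only [Matrix.sub_mulVec, Matrix.smul_mulVec, Matrix.one_mulVec] at huw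
      rw [Matrix.mulVec_sub, smul_sub]
      linear_combination (norm := module) huw
    have hzero : Polynomial.aeval (mat a) (Polynomial.X ^ r - Polynomial.C 1 : Polynomial F) = 0 := by
      simp [har]
    rw [map_one, Polynomial.X_pow_sub_one_eq_prod hp.pos hωp] at hzero
    have hU : IsUnit (Polynomial.aeval (mat a)
        (∏ ζ ∈ Polynomial.nthRootsFinset r (1 : F), (Polynomial.X - Polynomial.C ζ))) := by
      refine Finset.prod_induction _ (fun p => IsUnit (Polynomial.aeval (mat a) p))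
        (fun p q hp hq => by rw [map_mul]; exact hp.mul hq) (by simp) fun c hc => ?_
      obtain ⟨i, -, rfl⟩ := hroot c ((Polynomial.mem_nthRootsFinset hp.pos 1).1 hc)
      rw [map_sub, Polynomial.aeval_X, Polynomial.aeval_C, Algebra.algebraMap_eq_smul_one]
      exact hunit i
    exact hU.ne_zero hzero
  -- the eigenbasis
  let e : ι ≃ Fin r := (Fintype.equivFin ι).trans (finCongr hr.symm)
  let v : ι → ι → F := fun i => mat b ^ (e i : ℕ) *ᵥ v₀
  have hv : ∀ i, mat a *ᵥ v i = (ω ^ (e i : ℕ) * lam) • v i := by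
    intro i
    simp only [v]
    rw [Matrix.mulVec_mulVec, hab', Matrix.smul_mulVec, ← Matrix.mulVec_mulVec, hav₀,
      Matrix.mulVec_smul, smul_smul]
  have hlam0 : lam ≠ 0 := by
    rintro rfl
    simp [hp.ne_zero] at hlam
  have hinj : Function.Injective fun i => ω ^ (e i : ℕ) * lam := fun i j hij => by
    have h1 := hωp.pow_inj (e i).2 (e j).2 (mul_right_cancel₀ hlam0 hij)
    exact e.injective (Fin.ext h1)
  have hv0 : ∀ i, v i ≠ 0 := by
    intro i h0
    apply hv₀
    refine mulVec_injective (b ^ (e i : ℕ)) ?_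
    show mat (b ^ (e i : ℕ)) *ᵥ v₀ = mat (b ^ (e i : ℕ)) *ᵥ 0
    rw [Matrix.mulVec_zero]
    show ((b ^ (e i : ℕ) : GL ι F) : Matrix ι ι F) *ᵥ v₀ = 0
    rw [Units.val_pow_eq_pow_val]
    exact h0
  have hli : LinearIndependent F v :=
    Module.End.eigenvectors_linearIndependent' (Matrix.toLin' (mat a)) _ hinj v fun i =>
      ⟨Module.End.mem_eigenspace_iff.2 (by rw [Matrix.toLin'_apply, hv]), hv0 i⟩
  let Pm : Matrix ι ι F := Matrix.of fun k i => v i k
  have hPm : IsUnit Pm := Matrix.linearIndependent_cols_iff_isUnit.1 hli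
  let P : GL ι F := hPm.unit
  have hPmat : mat P = Pm := rfl
  have hconjeq : ∀ (M D : Matrix ι ι F), M * Pm = Pm * D → mat P⁻¹ * M * mat P = D := by
    intro M D h
    rw [mul_assoc, hPmat, h, ← hPmat, ← mul_assoc, mat_inv_mul, one_mul]
  have hA : mat P⁻¹ * mat a * mat P = Matrix.diagonal fun i => ω ^ (e i : ℕ) * lam := by
    refine hconjeq _ _ ?_
    ext k i
    have h1 := congrFun (hv i) k
    rw [Matrix.mul_diagonal, Matrix.mul_apply]
    simp only [Matrix.mulVec, dotProduct, Pi.smul_apply, smul_eq_mul] at h1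
    simpa only [Pm, Matrix.of_apply, mul_comm] using h1
  have hbmod : ∀ k : ℕ, mat b ^ k = mat b ^ (k % r) := fun k => by
    conv_lhs => rw [← Nat.div_add_mod k r, pow_add, pow_mul, hbr, one_pow, one_mul]
  let shift : Equiv.Perm ι := e.trans ((Equiv.addRight (1 : Fin r)).trans e.symm)
  have hB : mat P⁻¹ * mat b * mat P = monomialMat shift.symm fun _ => 1 := by
    refine hconjeq _ _ ?_
    ext k i
    have h1 : mat b *ᵥ v i = v (shift i) := by
      simp only [v, shift, Equiv.trans_apply, Equiv.coe_addRight, Equiv.apply_symm_apply]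
      rw [Matrix.mulVec_mulVec, ← pow_succ', Fin.val_add, Fin.val_one', Nat.add_mod_mod,
        ← hbmod]
    have h2 := congrFun h1 k
    simp only [monomialMat, Matrix.mul_apply, Matrix.mulVec, dotProduct, Pm, Matrix.of_apply,
      mul_ite, mul_zero, mul_one] at h2 ⊢
    rw [h2]
    simp [Equiv.eq_symm_apply, eq_comm]
  -- generation
  have hgen : ∀ g ∈ R, ∃ i < r, ∃ j < r, ∃ k < r, mat g = ω ^ k • (mat a ^ i * mat b ^ j) := by
    intro g hg
    obtain ⟨j, hj, hj'⟩ := hRc g hg a ha
    obtain ⟨i, hi, hi'⟩ := hRc g hg b hb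
    have hjcomm : mat a * (mat g * mat b ^ (r - j)) = mat g * mat b ^ (r - j) * mat a := by
      rw [← mul_assoc, hj', Matrix.smul_mul, mul_assoc, hab', Matrix.mul_smul, smul_smul, ← pow_add,
        Nat.add_sub_cancel' hj.le, hωr, one_smul, mul_assoc]
    have hba : ∀ k : ℕ, mat b * mat a ^ k = (ω ^ (r - 1)) ^ k • (mat a ^ k * mat b) := by
      have h1 : mat b * mat a = ω ^ (r - 1) • (mat a * mat b) := by
        rw [hab, smul_smul, ← pow_succ, Nat.sub_add_cancel hp.pos, hωr, one_smul]
      intro k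
      induction k with
      | zero => simp
      | succ k ih =>
        rw [pow_succ, ← mul_assoc, ih, Matrix.smul_mul, mul_assoc, h1, Matrix.mul_smul, smul_smul,
          ← mul_assoc, pow_succ]
    let Y : Matrix ι ι F := mat g * mat b ^ (r - j) * mat a ^ i
    have hYa : mat a * Y = Y * mat a := by
      simp only [Y]
      rw [← mul_assoc, hjcomm, mul_assoc, ← pow_succ', pow_succ, ← mul_assoc]
    have hYb : mat b * Y = Y * mat b := by
      simp only [Y]
      rw [← mul_assoc, ← mul_assoc, hi', Matrix.smul_mul, Matrix.smul_mul,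
        mul_assoc (mat g) (mat b), ← pow_succ', pow_succ (mat b), ← mul_assoc,
        mul_assoc _ (mat b), hba, Matrix.mul_smul, smul_smul, ← pow_mul, ← pow_add]
      have : i + (r - 1) * i = r * i := by
        rw [add_comm, ← Nat.succ_mul, Nat.succ_eq_add_one, Nat.sub_add_cancel hp.pos]
      rw [this, pow_mul, hωr, one_pow, one_smul, ← mul_assoc]
    -- `Y` commutes with `a` and `b`, hence is scalar
    let Y' : Matrix ι ι F := mat P⁻¹ * Y * mat P
    have hcA : ∀ X : Matrix ι ι F, X * Y = Y * X →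
        (mat P⁻¹ * X * mat P) * Y' = Y' * (mat P⁻¹ * X * mat P) := by
      intro X hX
      simp only [Y', mul_assoc]
      rw [← mul_assoc (mat P), mat_mul_inv, one_mul, ← mul_assoc (mat P) (mat P⁻¹) (X * mat P),
        mat_mul_inv, one_mul, ← mul_assoc X, hX, mul_assoc]
    have hd := hcA _ hYa
    have he := hcA _ hYb
    rw [hA] at hd
    rw [hB] at he
    have hdiag : ∀ k l, k ≠ l → Y' k l = 0 := by
      intro k l hkl
      have h1 := congrFun (congrFun hd k) l
      rw [Matrix.diagonal_mul, Matrix.mul_diagonal] at h1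
      have h2 : (ω ^ (e k : ℕ) * lam - ω ^ (e l : ℕ) * lam) * Y' k l = 0 := by
        linear_combination h1
      exact (mul_eq_zero.1 h2).resolve_left (sub_ne_zero.2 fun h => hkl (hinj h))
    have hconst : ∀ k, Y' (shift k) (shift k) = Y' k k := by
      intro k
      have h1 := congrFun (congrFun he (shift k)) k
      simp only [monomialMat, Matrix.mul_apply, Matrix.of_apply, ite_mul, one_mul, zero_mul, mul_ite,
        mul_one, mul_zero, Equiv.symm_apply_apply] at h1
      rw [Finset.sum_ite_eq'] at h1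
      simp only [Finset.mem_univ, if_true] at h1
      rw [h1]
      simp [Equiv.eq_symm_apply]
    let i₀ : ι := e.symm ⟨0, hp.pos⟩
    have hall : ∀ (m : ℕ) (hm : m < r), Y' (e.symm ⟨m, hm⟩) (e.symm ⟨m, hm⟩) = Y' i₀ i₀ := by
      intro m
      induction m with
      | zero => intro _; rfl
      | succ m ih =>
        intro hm
        have hs : shift (e.symm ⟨m, by omega⟩) = e.symm ⟨m + 1, hm⟩ := by
          simp only [shift, Equiv.trans_apply, Equiv.apply_symm_apply, Equiv.coe_addRight]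
          congr 1
          ext
          rw [Fin.val_add, Fin.val_one', Nat.add_mod_mod]
          exact Nat.mod_eq_of_lt hm
        rw [← hs, hconst, ih]
    have hY'' : Y' = Y' i₀ i₀ • 1 := by
      ext k l
      by_cases hkl : k = l
      · subst hkl
        have h1 := hall (e k : ℕ) (e k).2
        simp only [Fin.eta, Equiv.symm_apply_apply] at h1
        simp [h1]
      · rw [hdiag k l hkl]
        simp [hkl]
    have hY : Y = Y' i₀ i₀ • 1 := by
      have h1 := congrArg (fun X => mat P * X * mat P⁻¹) hY''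
      simp only [Y', Matrix.mul_smul, Matrix.smul_mul, mul_one, mat_mul_inv] at h1
      rw [← h1]
      simp only [mul_assoc, mat_mul_inv, mul_one]
      rw [← mul_assoc (mat P), mat_mul_inv, one_mul]
    obtain ⟨c, hc⟩ : ∃ c, c = Y' i₀ i₀ := ⟨_, rfl⟩
    rw [← hc] at hY
    have hcr : c ^ r = 1 := by
      let g' : GL ι F := g * b ^ (r - j) * a ^ i
      have hgR : g' ∈ R := mul_mem (mul_mem hg (pow_mem hb _)) (pow_mem ha _)
      have h1 : mat g' ^ r = 1 := by rw [mat, ← Units.val_pow_eq_pow_val, hgR.2, Units.val_one]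
      have h2 : mat g' = Y := by simp [g', Y, mat, Units.val_mul, Units.val_pow_eq_pow_val]
      rw [h2, hY, smul_pow, one_pow] at h1
      simpa using congrFun (congrFun h1 i₀) i₀
    obtain ⟨k, hk, rfl⟩ := hroot c hcr
    have hgb : mat g = ω ^ k • (mat a ^ (r - i) * mat b ^ j) := by
      have h1 := congrArg (fun X => X * mat a ^ (r - i) * mat b ^ j) hY
      simp only [Y, Matrix.smul_mul, one_mul] at h1
      rw [mul_assoc _ (mat a ^ i), ← pow_add, Nat.add_sub_cancel' hi.le, har, mul_one,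
        mul_assoc (mat g), ← pow_add, Nat.sub_add_cancel hj.le, hbr, mul_one] at h1
      exact h1
    rcases Nat.eq_zero_or_pos i with hi0 | hi0
    · refine ⟨0, hp.pos, j, hj, k, hk, ?_⟩
      rw [hgb, hi0, Nat.sub_zero, har, pow_zero]
    · exact ⟨r - i, by omega, j, hj, k, hk, hgb⟩
  have hωu : ω ≠ 0 := fun h => by simp [h, hp.ne_zero] at hωr
  have hsR : ∀ k : ℕ, scalarGL (Units.mk0 ω hωu ^ k) ∈ R := fun k =>
    ⟨Subgroup.mem_sup_right (scalarGL_mem _), by
      have hu : Units.mk0 ω hωu ^ r = 1 := Units.ext (by simp [hωr])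
      rw [scalarGL, ← map_pow, ← pow_mul, mul_comm, pow_mul, hu, one_pow, map_one]⟩
  have hcardR : Nat.card R = r ^ 3 := by
    let f : Fin r × Fin r × Fin r → R := fun p =>
      ⟨scalarGL (Units.mk0 ω hωu ^ (p.1 : ℕ)) * (a ^ (p.2.1 : ℕ) * b ^ (p.2.2 : ℕ)),
        mul_mem (hsR _) (mul_mem (pow_mem ha _) (pow_mem hb _))⟩
    have hfm : ∀ p, mat (f p).1 =
        ω ^ (p.1 : ℕ) • (mat a ^ (p.2.1 : ℕ) * mat b ^ (p.2.2 : ℕ)) := fun p => by
      simp only [f, mat, Units.val_mul, Units.val_pow_eq_pow_val]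
      rw [show ((scalarGL (Units.mk0 ω hωu ^ (p.1 : ℕ)) : GL ι F) : Matrix ι ι F) = _ from
        mat_scalarGL _, Matrix.smul_mul, one_mul, Units.val_pow_eq_pow_val, Units.val_mk0]
    have hsurj : Function.Surjective f := by
      rintro ⟨g, hg⟩
      obtain ⟨i, hi, j, hj, k, hk, hgm⟩ := hgen g hg
      refine ⟨(⟨k, hk⟩, ⟨i, hi⟩, ⟨j, hj⟩), Subtype.ext (Units.ext ?_)⟩
      exact (hfm _).trans hgm.symm
    have hinjf : Function.Injective f := by
      rintro ⟨k, i, j⟩ ⟨k', i', j'⟩ heq
      have h1 : ω ^ (k : ℕ) • (mat a ^ (i : ℕ) * mat b ^ (j : ℕ)) =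
          ω ^ (k' : ℕ) • (mat a ^ (i' : ℕ) * mat b ^ (j' : ℕ)) := by
        have := congrArg (fun g : R => mat g.1) heq
        simp only [hfm] at this
        exact this
      have hne : ∀ (i j k : ℕ), ω ^ k • (mat a ^ i * mat b ^ j) ≠ 0 := fun i j k h0 =>
        ((((a ^ i * b ^ j : GL ι F)).isUnit).ne_zero) (by
          simpa [Units.val_mul, Units.val_pow_eq_pow_val, hωu] using h0)
      have hja : ∀ (i j k : ℕ), mat a * (ω ^ k • (mat a ^ i * mat b ^ j)) =
          ω ^ j • ((ω ^ k • (mat a ^ i * mat b ^ j)) * mat a) := fun i j k => by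
        rw [Matrix.mul_smul, ← mul_assoc, ← pow_succ', pow_succ, mul_assoc, hab', Matrix.mul_smul,
          Matrix.smul_mul, mul_assoc (mat a ^ i), smul_smul, smul_smul, mul_comm]
      have hjj : j = j' := by
        have h2 := hja i j k
        rw [h1, hja] at h2
        have h3 : (ω ^ (j' : ℕ) - ω ^ (j : ℕ)) •
            ((ω ^ (k' : ℕ) • (mat a ^ (i' : ℕ) * mat b ^ (j' : ℕ))) * mat a) = 0 := by
          rw [sub_smul, h2, sub_self]
        rcases smul_eq_zero.1 h3 with h4 | h4
        · exact Fin.ext (hωp.pow_inj j.2 j'.2 (sub_eq_zero.1 h4).symm)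
        · exfalso
          refine hne i' j' k' ?_
          have h5 := congrArg (fun X => X * mat a⁻¹) h4
          rwa [mul_assoc, mat_mul_inv, mul_one, zero_mul] at h5
      subst hjj
      have h6 : ω ^ (k : ℕ) • mat a ^ (i : ℕ) = ω ^ (k' : ℕ) • mat a ^ (i' : ℕ) := by
        have h5 := congrArg (fun X => X * mat b ^ (r - (j : ℕ))) h1
        simpa only [Matrix.smul_mul, mul_assoc, ← pow_add, Nat.add_sub_cancel' j.2.le, hbr,
          mul_one] using h5
      have hka : ∀ i : ℕ, mat P⁻¹ * mat a ^ i * mat P =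
          Matrix.diagonal fun l => (ω ^ (e l : ℕ) * lam) ^ i := by
        intro i
        induction i with
        | zero => simp [mat_inv_mul]
        | succ i ih =>
          have hA' := hA
          calc mat P⁻¹ * mat a ^ (i + 1) * mat P
              = (mat P⁻¹ * mat a ^ i * mat P) * (mat P⁻¹ * mat a * mat P) := by
                simp only [mul_assoc]
                rw [← mul_assoc (mat P), mat_mul_inv, one_mul, pow_succ, mul_assoc]
            _ = _ := by rw [ih, hA', Matrix.diagonal_mul_diagonal]; simp [pow_succ]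
      have h7 := congrArg (fun X => mat P⁻¹ * X * mat P) h6
      simp only [Matrix.mul_smul, Matrix.smul_mul, hka] at h7
      have hd : ∀ l, ω ^ (k : ℕ) * (ω ^ (e l : ℕ) * lam) ^ (i : ℕ) =
          ω ^ (k' : ℕ) * (ω ^ (e l : ℕ) * lam) ^ (i' : ℕ) := fun l => by
        simpa using congrFun (congrFun h7 l) l
      have e0 := hd (e.symm ⟨0, hp.pos⟩)
      have e1 := hd (e.symm ⟨1, hp.one_lt⟩)
      simp only [Equiv.apply_symm_apply, pow_zero, one_mul, pow_one] at e0 e1
      rw [mul_pow, mul_pow] at e1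
      have hii : i = i' := by
        refine Fin.ext (hωp.pow_inj i.2 i'.2 (mul_left_cancel₀
          (mul_ne_zero (pow_ne_zero (k : ℕ) hωu) (pow_ne_zero (i : ℕ) hlam0)) ?_))
        linear_combination e1 - ω ^ (i' : ℕ) * e0
      subst hii
      have hkk : k = k' :=
        Fin.ext (hωp.pow_inj k.2 k'.2 (mul_right_cancel₀ (pow_ne_zero _ hlam0) e0))
      subst hkk
      rfl
    rw [← Nat.card_eq_of_bijective f ⟨hinjf, hsurj⟩, Nat.card_prod, Nat.card_prod,
      Nat.card_eq_fintype_card, Fintype.card_fin]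
    ring
  have hcenter : Nat.card (Subgroup.center R) = r := by
    let f : Fin r → Subgroup.center R := fun k =>
      ⟨⟨scalarGL (Units.mk0 ω hωu ^ (k : ℕ)), hsR k⟩, Subgroup.mem_center_iff.2 fun y =>
        Subtype.ext (scalars_comm (scalarGL_mem _)).symm⟩
    have hfm : ∀ k : Fin r, mat (f k).1.1 = ω ^ (k : ℕ) • (1 : Matrix ι ι F) := fun k => by
      show mat (scalarGL (Units.mk0 ω hωu ^ (k : ℕ))) = _
      rw [mat_scalarGL, Units.val_pow_eq_pow_val, Units.val_mk0]
    rw [← Nat.card_eq_of_bijective f ⟨fun k k' h => ?_, fun x => ?_⟩, Nat.card_eq_fintype_card,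
      Fintype.card_fin]
    · obtain ⟨i⟩ := ‹Nonempty ι›
      have h1 : ω ^ (k : ℕ) • (1 : Matrix ι ι F) = ω ^ (k' : ℕ) • 1 := by
        rw [← hfm k, ← hfm k', h]
      refine Fin.ext (hωp.pow_inj k.2 k'.2 ?_)
      simpa using congrFun (congrFun h1 i) i
    · have hxs : x.1.1 ∈ Z := mem_scalars_of_commute habsR fun y hy =>
        (congrArg Subtype.val (Subgroup.mem_center_iff.1 x.2 ⟨y, hy⟩)).symm
      obtain ⟨c, hc⟩ := (Cfsg.Geo.mem_scalars_iff _).1 hxs
      have hcr : (c : F) ^ r = 1 := by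
        obtain ⟨i⟩ := ‹Nonempty ι›
        have h1 : mat x.1.1 ^ r = 1 := by
          rw [mat, ← Units.val_pow_eq_pow_val, x.1.2.2, Units.val_one]
        rw [show mat x.1.1 = (c : F) • 1 from hc, smul_pow, one_pow] at h1
        simpa using congrFun (congrFun h1 i) i
      obtain ⟨k, hk, hk'⟩ := hroot _ hcr
      exact ⟨⟨k, hk⟩, Subtype.ext (Subtype.ext (Units.ext
        ((hfm ⟨k, hk⟩).trans (by rw [hk']; exact hc.symm))))⟩
  have hRcomm : ⁅R, R⁆ ≤ Cfsg.Geo.scalars ι F := by
    rw [Subgroup.commutator_le]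
    intro g hg g' hg'
    obtain ⟨c, -, h1⟩ := hNZc g' hg'.1 g hg.1
    rw [commutatorElement_def, h1]
    have h2 : g' * g * scalarGL c * g⁻¹ * g'⁻¹ = scalarGL (ι := ι) c := by
      rw [← scalars_comm (scalarGL_mem c) (g := g' * g)]; group
    rw [h2]
    exact scalarGL_mem c
  refine ⟨R, ω, ⟨⟨hp, fun g => ⟨1, Subtype.ext (by rw [pow_one]; exact g.2.2)⟩, fun A hA hAc => ?_,
    ?_⟩, habsR, hcardR, hcenter, hωp, hRcomm, ⟨P⁻¹, fun g hg => ?_⟩⟩, hRn, fun g hg => hg.1⟩
  · -- characteristic abelian subgroups are cyclic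
    let A' : Subgroup (GL ι F) := A.map R.subtype
    have hA'R : ∀ g ∈ A', g ∈ R := by
      rintro _ ⟨g, _, rfl⟩
      exact g.2
    have hA'c : ∀ g ∈ A', ∀ g' ∈ A', g * g' = g' * g := by
      rintro _ ⟨g, hg, rfl⟩ _ ⟨g', hg', rfl⟩
      have := hAc.is_comm.comm ⟨g, hg⟩ ⟨g', hg'⟩
      simpa using congrArg (fun z : A => R.subtype z.1) this
    have hA'n : Normalizes H A' := by
      intro h hh
      let φ : R ≃* R := {
        toFun := fun g => ⟨h * g.1 * h⁻¹, hRn h hh g.1 g.2⟩
        invFun := fun g => ⟨h⁻¹ * g.1 * h, hRn.conj_inv hh g.2⟩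
        left_inv := fun g => Subtype.ext (by simp [mul_assoc])
        right_inv := fun g => Subtype.ext (by simp [mul_assoc])
        map_mul' := fun g g' => Subtype.ext (by simp [mul_assoc]) }
      rintro _ ⟨g, hg, rfl⟩
      have hgφ : φ g ∈ A := by
        have := hA.fixed φ
        rw [← this] at hg
        exact hg
      exact ⟨φ g, hgφ, rfl⟩
    let M : Subgroup (GL ι F) := (A' ⊔ Z) ⊓ N
    have hMs : M ≤ Z := by
      refine hmin M inf_le_right ?_ ?_
      · rintro h hh g ⟨hg, hgN⟩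
        refine ⟨?_, hn h hh g hgN⟩
        obtain ⟨x, hx, s, hs, rfl⟩ := Subgroup.mem_sup_of_normal_right.1 hg
        have : h * (x * s) * h⁻¹ = h * x * h⁻¹ * s := by
          simp only [mul_assoc]
          rw [scalars_comm hs (g := h⁻¹)]
        rw [this]
        exact mul_mem (Subgroup.mem_sup_left (hA'n h hh x hx)) (Subgroup.mem_sup_right hs)
      · rintro g ⟨hg, -⟩ g' ⟨hg', -⟩
        obtain ⟨x, hx, s, hs, rfl⟩ := Subgroup.mem_sup_of_normal_right.1 hg
        obtain ⟨y, hy, t, ht, rfl⟩ := Subgroup.mem_sup_of_normal_right.1 hg'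
        calc x * s * (y * t) = x * y * (s * t) := by
              rw [mul_assoc x, ← mul_assoc s, scalars_comm hs (g := y)]; simp only [mul_assoc]
          _ = y * x * (t * s) := by rw [hA'c x hx y hy, scalars_comm hs (g := t)]
          _ = y * t * (x * s) := by
              rw [mul_assoc y t, ← mul_assoc t, scalars_comm ht (g := x)]; simp only [mul_assoc]
    have hA'Z : A' ≤ Z := by
      intro g hg
      obtain ⟨y, hy, s, hs, hys⟩ := hNZ g (hA'R g hg).1
      have hyM : y ∈ M := by
        refine ⟨?_, hy⟩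
        rw [show y = g * s⁻¹ by rw [← hys]; group]
        exact mul_mem (Subgroup.mem_sup_left hg) (Subgroup.mem_sup_right (inv_mem hs))
      rw [← hys]
      exact mul_mem (hMs hyM) hs
    obtain ⟨i⟩ := ‹Nonempty ι›
    have hdiag : ∀ g : A, ∃ c : Fˣ, mat g.1.1 = (c : F) • 1 := fun g =>
      (Cfsg.Geo.mem_scalars_iff _).1 (hA'Z ⟨g.1, g.2, rfl⟩)
    let f : A →* F :=
      { toFun := fun g => mat g.1.1 i i
        map_one' := by simp [mat]
        map_mul' := fun g g' => by
          obtain ⟨c, hc⟩ := hdiag g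
          simp only [Subgroup.coe_mul, mat, Units.val_mul]
          rw [show ((g.1.1 : GL ι F) : Matrix ι ι F) = _ from hc]
          simp [Matrix.smul_mul] }
    refine isCyclic_of_injective_ringHom f fun g g' hgg => ?_
    obtain ⟨c, hc⟩ := hdiag g
    obtain ⟨c', hc'⟩ := hdiag g'
    have hgg' : mat g.1.1 i i = mat g'.1.1 i i := hgg
    rw [hc, hc'] at hgg'
    refine Subtype.ext (Subtype.ext (Units.ext ?_))
    show mat g.1.1 = mat g'.1.1
    rw [hc, hc']
    congr 1
    simpa using hgg'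
  · rw [Nat.Coprime.gcd_eq_one (Nat.coprime_two_left.2 hrodd), mul_one]
    haveI : Nontrivial R := Finite.one_lt_card_iff_nontrivial.1 (hcardR ▸ Nat.one_lt_pow (by norm_num) hp.one_lt)
    refine (Monoid.exponent_eq_prime_iff hp).2 ?_
    intro g hg1
    exact orderOf_eq_prime (Subtype.ext g.2.2) hg1
  · obtain ⟨i, hi, j, hj, k, hk, hgm⟩ := hgen g hg
    rw [inv_inv, hgm, Matrix.mul_smul, Matrix.smul_mul]
    have hconj : ∀ X Y : Matrix ι ι F, mat P⁻¹ * (X * Y) * mat P =
        (mat P⁻¹ * X * mat P) * (mat P⁻¹ * Y * mat P) := fun X Y => by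
      simp only [mul_assoc]
      rw [← mul_assoc (mat P), mat_mul_inv, one_mul]
    have hpw : ∀ (X : Matrix ι ι F) (n : ℕ),
        mat P⁻¹ * X ^ n * mat P = (mat P⁻¹ * X * mat P) ^ n := by
      intro X n
      induction n with
      | zero => simp [mat_inv_mul]
      | succ n ih => rw [pow_succ, hconj, ih, pow_succ]
    have hsc : IsRootMonomial r (ω ^ k • (1 : Matrix ι ι F)) :=
      ⟨1, fun _ => ω ^ k, fun _ => by rw [← pow_mul, mul_comm, pow_mul, hωr, one_pow], by
        ext a b
        by_cases hab : a = b <;> simp [monomialMat, hab, eq_comm]⟩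
    have hab2 : IsRootMonomial r (mat P⁻¹ * (mat a ^ i * mat b ^ j) * mat P) := by
      rw [hconj, hpw, hpw, hA, diagonal_eq_monomialMat, hB]
      refine (IsRootMonomial.pow ⟨_, _, fun l => ?_, rfl⟩ i).mul
        (IsRootMonomial.pow ⟨_, _, fun _ => one_pow r, rfl⟩ j)
      rw [mul_pow, hlam, mul_one, ← pow_mul, mul_comm, pow_mul, hωr, one_pow]
    have := hsc.mul hab2
    rwa [Matrix.smul_mul, one_mul] at this

end CfsgLib.Aschbacher
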